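import Mathlib
import Cfsg.Agent.H10.HO.Defs

/-!
helper88: piece HO-CZ of helper10's project for S2075 (transfer of the centraliser bound along an
isomorphism of centralisers).
-/

set_option autoImplicit false

namespace Cfsg.Agent.H88.Ho

open Cfsg.Agent.H10.HO

universe u

theorem cz : StCZ.{u} := by
  intro G _ e z s hiso hz4 he1 hee hCZM
  obtain ⟨ψ⟩ := hiso
  -- z commutes with e
  have hze : z * e = e * z := by
    rw [← hz4, ← pow_succ, ← pow_succ']
  have hzC : z ∈ Subgroup.centralizer ({e} : Set G) := by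
    rw [Subgroup.mem_centralizer_iff]
    intro y hy
    rw [Set.mem_singleton_iff] at hy
    subst hy
    exact hze.symm
  set zz : ↥(Subgroup.centralizer ({e} : Set G)) := ⟨z, hzC⟩ with hzz
  set m : SL52 := ((ψ zz : ↥(Subgroup.centralizer ({s} : Set SL52))) : SL52) with hm
  have hz8 : z ^ 8 = 1 := by
    have : z ^ 8 = z ^ 4 * z ^ 4 := by rw [← pow_add]
    rw [this, hz4, hee]
  have hm8 : m ^ 8 = 1 := by
    have h1 : zz ^ 8 = 1 := by
      apply Subtype.ext
      simpa [hzz] using hz8
    have h2 : (ψ zz) ^ 8 = 1 := by rw [← map_pow, h1, map_one]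
    have h3 := congrArg (fun w : ↥(Subgroup.centralizer ({s} : Set SL52)) => (w : SL52)) h2
    simpa [hm] using h3
  have hm4 : m ^ 4 ≠ 1 := by
    intro h
    have h2 : (ψ zz) ^ 4 = 1 := by
      apply Subtype.ext
      simpa [hm] using h
    rw [← map_pow] at h2
    have h3 : zz ^ 4 = 1 := by
      have := ψ.injective (h2.trans (map_one ψ).symm)
      exact this
    have h4 := congrArg (fun w : ↥(Subgroup.centralizer ({e} : Set G)) => (w : G)) h3
    simp only [hzz, Subgroup.coe_pow, Subgroup.coe_one] at h4
    exact he1 (hz4.symm.trans h4)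
  have hb := hCZM m hm8 hm4
  -- the injection of C(z) into C(m)
  have hsub : ∀ g : G, g ∈ Subgroup.centralizer ({z} : Set G) →
      g ∈ Subgroup.centralizer ({e} : Set G) := by
    intro g hg
    have hgz : z * g = g * z := (Subgroup.mem_centralizer_iff.mp hg) z (Set.mem_singleton z)
    rw [Subgroup.mem_centralizer_iff]
    intro y hy
    rw [Set.mem_singleton_iff] at hy
    subst hy
    rw [← hz4]
    have : Commute z g := hgz
    exact (this.pow_left 4).eq
  let f : ↥(Subgroup.centralizer ({z} : Set G)) → ↥(Subgroup.centralizer ({m} : Set SL52)) :=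
    fun g => ⟨((ψ ⟨g.1, hsub g.1 g.2⟩ : ↥(Subgroup.centralizer ({s} : Set SL52))) : SL52), by
      rw [Subgroup.mem_centralizer_iff]
      intro y hy
      rw [Set.mem_singleton_iff] at hy
      subst hy
      have hgz : z * g.1 = g.1 * z :=
        (Subgroup.mem_centralizer_iff.mp g.2) z (Set.mem_singleton z)
      have h1 : zz * (⟨g.1, hsub g.1 g.2⟩ : ↥(Subgroup.centralizer ({e} : Set G)))
          = ⟨g.1, hsub g.1 g.2⟩ * zz := by
        apply Subtype.ext
        simpa [hzz] using hgz
      have h2 := congrArg ψ h1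
      rw [map_mul, map_mul] at h2
      have h3 := congrArg (fun w : ↥(Subgroup.centralizer ({s} : Set SL52)) => (w : SL52)) h2
      simpa [hm] using h3⟩
  have hf : Function.Injective f := by
    intro g1 g2 h
    have h0 : (f g1 : SL52) = (f g2 : SL52) := congrArg Subtype.val h
    have h1 : ((ψ ⟨g1.1, hsub g1.1 g1.2⟩ : ↥(Subgroup.centralizer ({s} : Set SL52))) : SL52)
        = ((ψ ⟨g2.1, hsub g2.1 g2.2⟩ : ↥(Subgroup.centralizer ({s} : Set SL52))) : SL52) := h0
    have h2 := ψ.injective (Subtype.ext h1)
    apply Subtype.ext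
    have h3 := congrArg (fun w : ↥(Subgroup.centralizer ({e} : Set G)) => (w : G)) h2
    exact h3
  have : Finite SL52 := Finite.of_injective (fun w : SL52 => w.1) Subtype.val_injective
  exact (Nat.card_le_card_of_injective f hf).trans hb

example : Cfsg.Agent.H10.HO.StCZ.{u} := cz

end Cfsg.Agent.H88.Ho
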