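import Cfsg.Agent.H88.SUnM
import Cfsg.Agent.H88.StUW
import Cfsg.Agent.H78.StDbl
import Cfsg.Agent.H78.StM3

/-!
helper88: the unitary group `UG n φ` acting on the flags of `H78.StSL` (through `SL (Fin n) K`).
-/

set_option autoImplicit false

namespace Cfsg.Agent.H88.StU

open Matrix Cfsg.Agent.H88.Un Cfsg.Agent.H78.StSL

variable {n : ℕ} {K : Type*} [Field K] [Fintype K] {φ : K →+* K}

/-- `UG n φ` acts on the flags through `SL (Fin n) K`. -/
noncomputable instance flgU : MulAction (UG n φ) (Flg n K) :=
  MulAction.compHom (Flg n K) (UG n φ).subtype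

theorem smul_def (g : UG n φ) (F : Flg n K) : g • F = g.1 • F := rfl

end Cfsg.Agent.H88.StU
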