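import Cfsg.Agent.H88.StUE
import Cfsg.Agent.Lib.Helper30.StUGen

/-!
helper88: the Steinberg module of `UG n φ`, layer 1 (generic in the involution `φ`, including
`φ = id`): the data for `H78.StM.steinberg_quot` except for the Sylow and the centre inputs.

* `ug_fix` : `U = EL φ (rk n)` fixes the base flag `apt 1`;
* `diag_fix` : diagonal elements fix the apartment;
* `ug_big` : the big cell;
* `ug_nodes` : the rank one data at each node (short nodes: no hypothesis; long node, `n` even: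
  a nonzero `e` with `e + φ e = 0`; `SU₃` node, `n` odd: a monomial lift in normal form);
* `ug_orbit` : the apartment is in one orbit;
* `ug_stable` : the Steinberg submodule is stable.
-/

set_option autoImplicit false

namespace Cfsg.Agent.H88.StU

open Matrix Cfsg.Agent.H88.Un Cfsg.Agent.H78.StSL Cfsg.Agent.H78.StM Cfsg.Agent.H50.AutPSL

variable {n : ℕ} {K : Type*} [Field K] [Fintype K] {φ : K →+* K}

/-- `U` fixes the base flag. -/
theorem ug_fix (u : UG n φ) (hu : u ∈ EL φ (rk n)) : u • (apt 1 : Flg n K) = apt 1 :=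
  uni_smul_apt_one u.1 (val_mem_Uni hu)

/-- Diagonal elements fix the apartment. -/
theorem diag_fix (t : UG n φ) (d : Fin n → K) (ht : t.1.1 = Matrix.diagonal d)
    (w : Equiv.Perm (Fin n)) : t • (apt w : Flg n K) = apt w := by
  have h := Cfsg.Agent.H4.StU.mono_smul_apt 1 t.1 (by rw [ht]; exact isMono_diagonal d) w
  rw [one_mul] at h
  exact h

/-- The big cell. -/
theorem ug_big (v : UG n φ) (hv : v ∈ EL φ (rk n)) (w : Equiv.Perm (Fin n))
    (h : v • (apt Fin.revPerm : Flg n K) = apt w) : v = 1 ∧ w = Fin.revPerm := by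
  obtain ⟨h1, h2⟩ := big_cell v.1 (val_mem_Uni hv) w h
  exact ⟨Subtype.ext h1, h2⟩

/-- Monomial lifts of all elements of the Weyl group. -/
theorem exists_mono_lift (hN : ∀ i : Fin (n / 2), ∃ N : UG n φ, IsMono (sref n i) N.1.1)
    (w : Equiv.Perm (Fin n)) (hw : w ∈ WU n) : ∃ g : UG n φ, IsMono w g.1.1 := by
  have hpow : ∀ (w : Equiv.Perm (Fin n)) (g : UG n φ), IsMono w g.1.1 →
      ∀ k : ℕ, IsMono (w ^ k) (g ^ k).1.1 := by
    intro w g hg k
    induction k with
    | zero =>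
      rw [pow_zero, pow_zero]
      exact isMono_one
    | succ k ih =>
      rw [pow_succ, pow_succ]
      exact isMono_mul ih hg
  induction hw using Subgroup.closure_induction with
  | mem x hx =>
    obtain ⟨i, rfl⟩ := hx
    exact hN i
  | one => exact ⟨1, isMono_one⟩
  | mul x y _ _ hx hy =>
    obtain ⟨g, hg⟩ := hx
    obtain ⟨g', hg'⟩ := hy
    exact ⟨g * g', isMono_mul hg hg'⟩
  | inv x _ hx =>
    obtain ⟨g, hg⟩ := hx
    have e : x⁻¹ = x ^ (orderOf x - 1) := by
      apply inv_eq_of_mul_eq_one_right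
      rw [← pow_succ', Nat.sub_add_cancel (orderOf_pos x), pow_orderOf_eq_one]
    rw [e]
    exact ⟨g ^ (orderOf x - 1), hpow x g hg _⟩

/-- The apartment is in one orbit. -/
theorem ug_orbit (hN : ∀ i : Fin (n / 2), ∃ N : UG n φ, IsMono (sref n i) N.1.1) (w : WU n) :
    ∃ g : UG n φ, g • (apt 1 : Flg n K) = aU n K w := by
  obtain ⟨g, hg⟩ := exists_mono_lift hN w.1 w.2
  refine ⟨g, ?_⟩
  have h := Cfsg.Agent.H4.StU.mono_smul_apt w.1 g.1 hg 1
  rw [mul_one] at h
  exact h

/-- The rank one data at all nodes. -/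
theorem ug_nodes [Invol φ] (ε : WU n →* ℤˣ) (hε : ∀ i, ε (sW n i) = -1)
    (hlong : 2 * (n / 2) = n → ∃ e : K, e ≠ 0 ∧ e + φ e = 0)
    (hN3 : ∀ p m : Fin n, m.rev = m → p.val + 1 = m.val → ∃ (N : UG n φ) (b : K), b ≠ 0 ∧
      ∀ (v : Fin n → K) (c : Fin n), (N.1.1 *ᵥ v) c =
        if c = p then b * v p.rev else if c = m then -(φ b / b) * v m
        else if c = p.rev then (1 / φ b) * v p else v c)
    (i : Fin (n / 2)) :
    ∃ N : UG n φ, IsMono (sref n i) N.1.1 ∧
      ∀ u : (EL φ (rk n) : Subgroup (UG n φ)),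
        trep (UG n φ) (Flg n K) (N * u) (stE (aU n K) (sgU ε)) ∈
          stV (EL φ (rk n)) (aU n K) (sgU ε) := by
  by_cases h : i.val + 1 < n / 2
  · exact short_node ε hε i h
  · rcases Nat.mod_two_eq_zero_or_one n with hpar | hpar
    · have hn : 2 * (n / 2) = n := by omega
      obtain ⟨e, he0, he⟩ := hlong hn
      exact long_node ε hε i h hn e he0 he
    · have hn : 2 * (n / 2) + 1 = n := by omega
      exact su3_node ε hε i h hn hN3

/-- The Steinberg submodule is stable under the group. -/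
theorem ug_stable [Invol φ] (ε : WU n →* ℤˣ)
    (hN : ∀ i : Fin (n / 2), ∃ N : UG n φ, IsMono (sref n i) N.1.1 ∧
      ∀ u : (EL φ (rk n) : Subgroup (UG n φ)),
        trep (UG n φ) (Flg n K) (N * u) (stE (aU n K) (sgU ε)) ∈
          stV (EL φ (rk n)) (aU n K) (sgU ε)) :
    ∀ g : UG n φ, ∀ v ∈ stV (EL φ (rk n)) (aU n K) (sgU ε),
      trep (UG n φ) (Flg n K) g v ∈ stV (EL φ (rk n)) (aU n K) (sgU ε) := by
  classical
  obtain ⟨T, hT⟩ : ∃ T : Set (UG n φ), T = {g | ∀ u : (EL φ (rk n) : Subgroup (UG n φ)),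
      trep (UG n φ) (Flg n K) (g * u) (stE (aU n K) (sgU ε)) ∈
        stV (EL φ (rk n)) (aU n K) (sgU ε)} := ⟨_, rfl⟩
  have hTmem : ∀ g, g ∈ T ↔ ∀ u : (EL φ (rk n) : Subgroup (UG n φ)),
      trep (UG n φ) (Flg n K) (g * u) (stE (aU n K) (sgU ε)) ∈
        stV (EL φ (rk n)) (aU n K) (sgU ε) := by
    intro g
    rw [hT]
    rfl
  apply stV_stable_of (EL φ (rk n)) (aU n K) (sgU ε) T ?_ (fun g hg => (hTmem g).1 hg)
  apply Cfsg.Agent.Lib.Helper30.StU.ug_gen (Subgroup.closure T)
  · intro g hg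
    apply Subgroup.subset_closure
    rw [hTmem]
    intro u
    exact trep_mem_stV _ _ _ _ (mul_mem hg u.2)
  · rintro t ⟨d, hd⟩
    apply Subgroup.subset_closure
    rw [hTmem]
    intro u
    have e : t * (u : UG n φ) = (t * u * t⁻¹) * t := by group
    rw [e, trep_mul_apply, trep_stE_of_fix t (aU n K) (sgU ε) (fun w => diag_fix t d hd w.1)]
    exact trep_mem_stV _ _ _ _ (conj_mem_EL (mem_PL_of_diag hd _) u.2)
  · intro i
    obtain ⟨N, hN1, hN2⟩ := hN i
    exact ⟨N, Subgroup.subset_closure ((hTmem N).2 hN2), hN1⟩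

end Cfsg.Agent.H88.StU
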