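import Mathlib

/-!
# S2649 (every extension of `M₂₃` by its Golay code module splits): definitions and piece statements

Plan (helper88).  Let `P` be a Sylow 2-subgroup of `M₂₃` with polycyclic generators `gen 0 … gen 6`;
its elements are indexed by `e < 128` (`elt gen e` = product of the `gen i` over the set bits of `e`,
lowest index first) and `MUL` is its multiplication table.  For an extension `E` we lift the
generators, take the section `s e = elt ĝ e` and its cocycle `F a b` (an 11-bit code of a code word).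
The cocycle identity, the vanishing `F a (2^k) = 0` for `a < 2^k`, and the stability under three
fusion elements are the hypotheses `CoreHyp`; the combinatorial core (collection by `phiF` and a
kernel-checked linear certificate) gives `CoreConcl`; then `P` has a complement and Gaschütz finishes.
-/

set_option autoImplicit false

namespace Cfsg.Agent.H88.X23


/-! ### bit-level linear algebra over `𝔽₂`: vectors are 11-bit codes, matrices are column functions -/

/-- parity of the bitwise AND of the lowest `n` bits -/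
def pdot (n a b : ℕ) : Bool :=
  (List.range n).foldr (fun i acc => xor (a.testBit i && b.testBit i) acc) false

/-- apply the matrix with columns `M 0, …, M 10` to the code `c` -/
def mapply (M : ℕ → ℕ) (c : ℕ) : ℕ :=
  (List.range 11).foldr (fun i acc => (if c.testBit i then M i else 0) ^^^ acc) 0

/-- row `r` of the matrix, as an 11-bit mask -/
def rowm (M : ℕ → ℕ) (r : ℕ) : ℕ :=
  (List.range 11).foldr (fun i acc => (if (M i).testBit r then 2 ^ i else 0) ^^^ acc) 0

/-- the transpose applied to a row mask -/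
def tapply (M : ℕ → ℕ) (ρ : ℕ) : ℕ :=
  (List.range 11).foldr (fun i acc => (if pdot 11 ρ (M i) then 2 ^ i else 0) ^^^ acc) 0

/-- evaluation of a big mask (11 bits per variable) on an assignment of codes to `nv` variables -/
def pdotV (nv m : ℕ) (val : ℕ → ℕ) : Bool :=
  (List.range nv).foldr (fun v acc => xor (pdot 11 (m >>> (11 * v)) (val v)) acc) false

/-- a term `(kind, p, q, v)`: a matrix applied to the variable `v` -/
abbrev Term := ℕ × ℕ × ℕ × ℕ

/-- the matrices that occur -/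
structure Mats where
  MC : ℕ → ℕ → ℕ
  GC : ℕ → ℕ → ℕ
  SM : ℕ → ℕ → ℕ → ℕ

/-- value of a term: kind 0 is the identity, kind 1 is `MC p`, kind 2 is `GC p ∘ MC q`, other kinds
are `SM p q` -/
def termVal (C : Mats) (val : ℕ → ℕ) (t : Term) : ℕ :=
  if t.1 = 0 then val t.2.2.2
  else if t.1 = 1 then mapply (C.MC t.2.1) (val t.2.2.2)
  else if t.1 = 2 then mapply (C.GC t.2.1) (mapply (C.MC t.2.2.1) (val t.2.2.2))
  else mapply (C.SM t.2.1 t.2.2.1) (val t.2.2.2)

/-- row `r` of a term, as a mask on the bits of all variables -/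
def termRow (C : Mats) (r : ℕ) (t : Term) : ℕ :=
  (if t.1 = 0 then 2 ^ r
  else if t.1 = 1 then rowm (C.MC t.2.1) r
  else if t.1 = 2 then tapply (C.MC t.2.2.1) (rowm (C.GC t.2.1) r)
  else rowm (C.SM t.2.1 t.2.2.1) r) <<< (11 * t.2.2.2)

/-- value of a sum of terms -/
def vfVal (C : Mats) (val : ℕ → ℕ) (l : List Term) : ℕ :=
  (l.map (termVal C val)).foldr (fun a b => a ^^^ b) 0

/-- row `r` of a sum of terms -/
def vfRow (C : Mats) (r : ℕ) (l : List Term) : ℕ :=
  (l.map (termRow C r)).foldr (fun a b => a ^^^ b) 0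

/-- field `j` (of width `w`) of a packed table -/
def fld (w tab j : ℕ) : ℕ := (tab >>> (w * j)) % 2 ^ w

/-- XOR of the fields `j < n` of the table selected by the bits of `sel` -/
def xorSel (w tab sel : ℕ) : ℕ → ℕ
  | 0 => 0
  | j + 1 => (if sel.testBit j then fld w tab j else 0) ^^^ xorSel w tab sel j

/-- PIECE `X23-BITS`: the bit-level lemmas. -/
def StBits : Prop :=
  (∀ (M : ℕ → ℕ) (v w : ℕ), mapply M (v ^^^ w) = mapply M v ^^^ mapply M w) ∧
  (∀ (M : ℕ → ℕ), mapply M 0 = 0) ∧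
  (∀ (M : ℕ → ℕ) (c : ℕ), (∀ i < 11, M i < 2048) → mapply M c < 2048) ∧
  (∀ (M : ℕ → ℕ) (c r : ℕ), (mapply M c).testBit r = pdot 11 (rowm M r) c) ∧
  (∀ (M : ℕ → ℕ) (ρ c : ℕ), pdot 11 ρ (mapply M c) = pdot 11 (tapply M ρ) c) ∧
  (∀ (M : ℕ → ℕ) (r : ℕ), rowm M r < 2048) ∧
  (∀ (M : ℕ → ℕ) (ρ : ℕ), tapply M ρ < 2048) ∧
  (∀ (c r : ℕ), r < 11 → c.testBit r = pdot 11 (2 ^ r) c) ∧
  (∀ (nv m m' : ℕ) (val : ℕ → ℕ), pdotV nv (m ^^^ m') val = xor (pdotV nv m val) (pdotV nv m' val)) ∧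
  (∀ (nv : ℕ) (val : ℕ → ℕ), pdotV nv 0 val = false) ∧
  (∀ (nv v0 ρ : ℕ) (val : ℕ → ℕ), v0 < nv → ρ < 2048 →
    pdotV nv (ρ <<< (11 * v0)) val = pdot 11 ρ (val v0)) ∧
  (∀ c : ℕ, c < 2048 → (∀ r < 11, c.testBit r = false) → c = 0)

/-- PIECE `X23-VF` (uses `StBits`): a bit of the value of a sum of terms is the evaluation of its
row mask; and a selected XOR of masks that evaluate to `false` evaluates to `false`. -/
def StVF : Prop :=
  (∀ (C : Mats) (nv : ℕ) (val : ℕ → ℕ) (l : List Term) (r : ℕ), r < 11 →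
    (∀ t ∈ l, t.2.2.2 < nv) → (vfVal C val l).testBit r = pdotV nv (vfRow C r l) val) ∧
  (∀ (nv w tab sel : ℕ) (val : ℕ → ℕ) (n : ℕ), (∀ j < n, pdotV nv (fld w tab j) val = false) →
    pdotV nv (xorSel w tab sel n) val = false)

/-! ### collection -/

/-- the form of `F e (2^i)`: a list of triples `(x, k, i)` standing for `act x (F (2^k) (2^i))`;
`none` if the fuel runs out -/
def phiF (MUL : ℕ → ℕ → ℕ) : ℕ → ℕ → ℕ → Option (List (ℕ × ℕ × ℕ))
  | 0, _, _ => none
  | f + 1, e, i =>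
    if e < 2 ^ i then some []
    else
      (List.range 7).foldl (fun acc l =>
        if (MUL (2 ^ Nat.log2 e) (2 ^ i)).testBit l then
          (match acc, phiF MUL f (MUL (e - 2 ^ Nat.log2 e) (MUL (2 ^ Nat.log2 e) (2 ^ i) % 2 ^ l)) l with
            | some L, some L' => some (L ++ L')
            | _, _ => none)
        else acc) (some [(e - 2 ^ Nat.log2 e, Nat.log2 e, i)])

/-- the form of `F a b` -/
def PhiL (MUL : ℕ → ℕ → ℕ) (fuel a b : ℕ) : Option (List (ℕ × ℕ × ℕ)) :=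
  (List.range 7).foldl (fun acc l =>
    if b.testBit l then
      (match acc, phiF MUL fuel (MUL a (b % 2 ^ l)) l with
        | some L, some L' => some (L ++ L')
        | _, _ => none)
    else acc) (some [])

/-- value of a form -/
def evalL (act : ℕ → ℕ → ℕ) (F : ℕ → ℕ → ℕ) (L : List (ℕ × ℕ × ℕ)) : ℕ :=
  (L.map (fun t => act t.1 (F (2 ^ t.2.1) (2 ^ t.2.2)))).foldr (fun a b => a ^^^ b) 0

/-- PIECE `X23-COLLECT`: a cocycle `F` on the indices `< 128` that vanishes on the pairs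
`(a, 2^k)`, `a < 2^k`, is given by the forms `PhiL`. -/
def StCollect : Prop :=
  ∀ (MUL : ℕ → ℕ → ℕ) (act : ℕ → ℕ → ℕ) (F : ℕ → ℕ → ℕ),
    (∀ a < 128, ∀ b < 128, MUL a b < 128) →
    (∀ a < 128, MUL a 0 = a) →
    (∀ k < 7, ∀ a < 2 ^ k, MUL a (2 ^ k) = a + 2 ^ k) →
    (∀ a, act a 0 = 0) →
    (∀ a v w, act a (v ^^^ w) = act a v ^^^ act a w) →
    F 0 0 = 0 →
    (∀ k < 7, ∀ a < 2 ^ k, F a (2 ^ k) = 0) →
    (∀ a < 128, ∀ b < 128, ∀ c < 128,
      act a (F b c) ^^^ F a (MUL b c) = F a b ^^^ F (MUL a b) c) →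
    ∀ fuel, ∀ a < 128, ∀ b < 128, ∀ L, PhiL MUL fuel a b = some L → F a b = evalL act F L

/-! ### the extension side -/

/-- the product of `gen i` over the set bits `i < 7` of `e`, lowest index first -/
def elt {M : Type*} [Monoid M] (gen : ℕ → M) (e : ℕ) : M :=
  ((List.range 7).map (fun i => if e.testBit i then gen i else 1)).prod

/-- what the extension gives: a normalised cocycle `F` on the indices of `P`, with values 11-bit
codes, and for the three fusion elements the functions `W t` witnessing stability -/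
def CoreHyp (MUL : ℕ → ℕ → ℕ) (MC GC : ℕ → ℕ → ℕ) (RL : ℕ → List ℕ) (cj : ℕ → ℕ → ℕ)
    (F : ℕ → ℕ → ℕ) (W : ℕ → ℕ → ℕ) : Prop :=
  (∀ a b, F a b < 2048) ∧ (∀ t r, W t r < 2048) ∧ F 0 0 = 0 ∧
  (∀ k < 7, ∀ a < 2 ^ k, F a (2 ^ k) = 0) ∧
  (∀ a < 128, ∀ b < 128, ∀ c < 128,
    mapply (MC a) (F b c) ^^^ F a (MUL b c) = F a b ^^^ F (MUL a b) c) ∧
  (∀ t < 3, ∀ r1 ∈ RL t, ∀ r2 ∈ RL t,
    F (cj t r1) (cj t r2) ^^^ mapply (GC t) (F r1 r2) =
      W t r1 ^^^ mapply (MC (cj t r1)) (W t r2) ^^^ W t (MUL r1 r2))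

/-- the cocycle is a coboundary -/
def CoreConcl (MUL : ℕ → ℕ → ℕ) (MC : ℕ → ℕ → ℕ) (F : ℕ → ℕ → ℕ) : Prop :=
  ∃ U : ℕ → ℕ, (∀ a, U a < 2048) ∧
    ∀ a < 128, ∀ b < 128, F a b = U a ^^^ mapply (MC a) (U b) ^^^ U (MUL a b)

end Cfsg.Agent.H88.X23
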