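import Mathlib
import Cfsg.Agent.H88.X23Base
import Cfsg.Agent.H88.X23Data

/-!
# S2649: the equations of the linear certificate and their kernel checks (helper88)
-/

set_option autoImplicit false

namespace Cfsg.Agent.H88.X23

/-- bounded universal quantifier, in a form that the kernel evaluates -/
def allN (f : ℕ → Bool) : ℕ → Bool
  | 0 => true
  | n + 1 => f n && allN f n

theorem allN_iff (f : ℕ → Bool) (n : ℕ) : allN f n = true ↔ ∀ k < n, f k = true := by
  induction n with
  | zero => simp [allN]
  | succ n ih =>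
    rw [allN, Bool.and_eq_true, ih]
    constructor
    · rintro ⟨h1, h2⟩ k hk
      rcases Nat.lt_succ_iff_lt_or_eq.mp hk with h | rfl
      · exact h2 k h
      · exact h1
    · intro h
      exact ⟨h n (Nat.lt_succ_self n), fun k hk => h k (Nat.lt_succ_of_lt hk)⟩

/-- the matrices of the certificate -/
def CC : Mats := ⟨mcT, gcT, smT⟩

/-- the form of `F a b` -/
def PH (a b : ℕ) : List (ℕ × ℕ × ℕ) := (PhiL mulT 12 a b).getD []

/-- index of the tail variable `F (2^k) (2^i)`, `i ≤ k < 7` -/
def tv (k i : ℕ) : ℕ := k * (k + 1) / 2 + i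

/-- the tail variable of a triple -/
def tvar (x : ℕ × ℕ × ℕ) : ℕ := tv x.2.1 x.2.2

/-- offsets of the stability variables -/
def woff (t : ℕ) : ℕ := if t = 0 then 0 else if t = 1 then 4 else 12

/-- index of the stability variable `W t r` -/
def wv (t r : ℕ) : ℕ := 28 + woff t + (RLd t).idxOf r

/-- the cocycle identity at `(a, b, c)` -/
def consVF (a b c : ℕ) : List Term :=
  (PH b c).map (fun x => (1, mulT a x.1, 0, tvar x)) ++
    (PH a (mulT b c) ++ PH a b ++ PH (mulT a b) c).map (fun x => (1, x.1, 0, tvar x))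

/-- the stability equation at `(t, r1, r2)` -/
def stabVF (t r1 r2 : ℕ) : List Term :=
  (PH (cjT t r1) (cjT t r2)).map (fun x => (1, x.1, 0, tvar x)) ++
    ((PH r1 r2).map (fun x => (2, t, x.1, tvar x)) ++
      [(0, 0, 0, wv t r1), (1, cjT t r1, 0, wv t r2), (0, 0, 0, wv t (mulT r1 r2))])

/-- the definition of `u j` from the tails -/
def udefR (j : ℕ) : List Term := (List.range 28).map (fun rel => (3, j, rel, rel))

/-- the equation defining `u j` -/
def udefVF (j : ℕ) : List Term := (0, 0, 0, 56 + j) :: udefR j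

/-- all equations -/
def eqL : List (List Term) :=
  consL.map (fun x => consVF x.1 x.2.1 x.2.2) ++
    (stabL.map (fun x => stabVF x.1 x.2.1 x.2.2) ++ (List.range 7).map udefVF)

/-- the set bits `l` of `e` with the prefixes `e % 2^l` -/
def bitTerms (e : ℕ) : List (ℕ × ℕ) :=
  (List.range 7).filterMap (fun l => if e.testBit l then some (e % 2 ^ l, l) else none)

/-- the goal: the tail `(k, i)` of the corrected cocycle vanishes -/
def goalVF (k i : ℕ) : List Term :=
  (0, 0, 0, tv k i) :: (1, 0, 0, 56 + k) :: (1, 2 ^ k, 0, 56 + i) ::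
    (bitTerms (mulT (2 ^ k) (2 ^ i))).map (fun p => (1, p.1, 0, 56 + p.2))

/-! ### kernel checks -/

def chkMul : Bool :=
  allN (fun a => allN (fun b => Nat.blt (mulT a b) 128) 128 && Nat.beq (mulT a 0) a) 128

def chkTop : Bool :=
  allN (fun k => allN (fun a => Nat.beq (mulT a (2 ^ k)) (a + 2 ^ k)) (2 ^ k)) 7

def chkPhi : Bool :=
  allN (fun e => allN (fun i => match phiF mulT 12 e i with
    | some L => L.all (fun x => Nat.blt x.1 128 && (Nat.ble x.2.2 x.2.1 && Nat.blt x.2.1 7))
    | none => false) 7) 128

def chkRows : Bool :=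
  allN (fun q => allN (fun s =>
    Nat.beq (vfRow CC s (eqL.getD q [])) (fld 693 rowTab (11 * q + s))) 11 &&
    (eqL.getD q []).all (fun t => Nat.blt t.2.2.2 63)) 70

def chkCert : Bool :=
  allN (fun k => allN (fun i => allN (fun r =>
    Nat.beq (vfRow CC r (goalVF k i)) (xorSel 693 rowTab (fld 770 certTab (11 * tv k i + r)) 770)) 11 &&
    (goalVF k i).all (fun t => Nat.blt t.2.2.2 63)) (k + 1)) 7

theorem chkMul_ok : chkMul = true := by decide +kernel

theorem chkTop_ok : chkTop = true := by decide +kernel

theorem chkPhi_ok : chkPhi = true := by decide +kernel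

theorem chkRows_ok : chkRows = true := by decide +kernel

theorem chkCert_ok : chkCert = true := by decide +kernel

end Cfsg.Agent.H88.X23
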