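import Mathlib
import Cfsg.Agent.H88.X23Eqs

/-!
# S2649: statements of the pieces of the combinatorial core (helper88)
-/

set_option autoImplicit false

namespace Cfsg.Agent.H88.X23

/-- PIECE `X23-PHI`: the forms of all `F a b` exist with fuel 12 and have admissible entries
(from `chkPhi_ok` and `chkMul_ok`). -/
def StPhi : Prop :=
  ∀ a < 128, ∀ b < 128, ∃ L, PhiL mulT 12 a b = some L ∧
    ∀ x ∈ L, x.1 < 128 ∧ x.2.2 ≤ x.2.1 ∧ x.2.1 < 7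

/-- PIECE `X23-FIN`: a normalised cocycle whose tails are the coboundary tails of `u` is a
coboundary. -/
def StFin : Prop :=
  ∀ (MUL : ℕ → ℕ → ℕ) (MC : ℕ → ℕ → ℕ) (F : ℕ → ℕ → ℕ) (u : ℕ → ℕ),
    (∀ a < 128, ∀ b < 128, MUL a b < 128) →
    (∀ a < 128, MUL a 0 = a) →
    (∀ k < 7, ∀ a < 2 ^ k, MUL a (2 ^ k) = a + 2 ^ k) →
    (∀ a < 128, ∀ b < 128, ∀ c < 128, MUL (MUL a b) c = MUL a (MUL b c)) →
    (∀ a i, MC a i < 2048) →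
    (∀ a < 128, ∀ x < 128, ∀ v < 2048,
      mapply (MC a) (mapply (MC x) v) = mapply (MC (MUL a x)) v) →
    (∀ a < 128, ∀ b < 128, ∃ L, PhiL MUL 12 a b = some L ∧
      ∀ x ∈ L, x.1 < 128 ∧ x.2.2 ≤ x.2.1 ∧ x.2.1 < 7) →
    (∀ a b, F a b < 2048) → (∀ j, u j < 2048) →
    F 0 0 = 0 →
    (∀ k < 7, ∀ a < 2 ^ k, F a (2 ^ k) = 0) →
    (∀ a < 128, ∀ b < 128, ∀ c < 128,
      mapply (MC a) (F b c) ^^^ F a (MUL b c) = F a b ^^^ F (MUL a b) c) →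
    (∀ k < 7, ∀ i ≤ k, F (2 ^ k) (2 ^ i) ^^^ (mapply (MC 0) (u k) ^^^ (mapply (MC (2 ^ k)) (u i) ^^^
      ((bitTerms (MUL (2 ^ k) (2 ^ i))).map
        (fun p => mapply (MC p.1) (u p.2))).foldr (fun a b => a ^^^ b) 0)) = 0) →
    CoreConcl MUL MC F

/-- PIECE `X23-VALS`: values of sums of terms. -/
def StVals : Prop :=
  (∀ (C : Mats) (val : ℕ → ℕ) (l1 l2 : List Term),
    vfVal C val (l1 ++ l2) = vfVal C val l1 ^^^ vfVal C val l2) ∧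
  (∀ (C : Mats) (val val' : ℕ → ℕ) (l : List Term),
    (∀ t ∈ l, val t.2.2.2 = val' t.2.2.2) → vfVal C val l = vfVal C val' l) ∧
  (∀ (C : Mats) (val : ℕ → ℕ) (l : List Term),
    (∀ a i, C.MC a i < 2048) → (∀ a i, C.GC a i < 2048) → (∀ a b i, C.SM a b i < 2048) →
    (∀ v, val v < 2048) → vfVal C val l < 2048) ∧
  (∀ (C : Mats) (val : ℕ → ℕ) (F : ℕ → ℕ → ℕ) (var : ℕ × ℕ × ℕ → ℕ) (L : List (ℕ × ℕ × ℕ)),
    (∀ x ∈ L, val (var x) = F (2 ^ x.2.1) (2 ^ x.2.2)) →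
    vfVal C val (L.map (fun x => (1, x.1, 0, var x))) =
      evalL (fun a v => mapply (C.MC a) v) F L) ∧
  (∀ (C : Mats) (MUL : ℕ → ℕ → ℕ) (val : ℕ → ℕ) (F : ℕ → ℕ → ℕ) (var : ℕ × ℕ × ℕ → ℕ) (a : ℕ)
      (L : List (ℕ × ℕ × ℕ)),
    (∀ x ∈ L, val (var x) = F (2 ^ x.2.1) (2 ^ x.2.2)) →
    (∀ x ∈ L, mapply (C.MC a) (mapply (C.MC x.1) (F (2 ^ x.2.1) (2 ^ x.2.2))) =
      mapply (C.MC (MUL a x.1)) (F (2 ^ x.2.1) (2 ^ x.2.2))) →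
    vfVal C val (L.map (fun x => (1, MUL a x.1, 0, var x))) =
      mapply (C.MC a) (evalL (fun a v => mapply (C.MC a) v) F L)) ∧
  (∀ (C : Mats) (val : ℕ → ℕ) (F : ℕ → ℕ → ℕ) (var : ℕ × ℕ × ℕ → ℕ) (t : ℕ)
      (L : List (ℕ × ℕ × ℕ)),
    (∀ x ∈ L, val (var x) = F (2 ^ x.2.1) (2 ^ x.2.2)) →
    vfVal C val (L.map (fun x => (2, t, x.1, var x))) =
      mapply (C.GC t) (evalL (fun a v => mapply (C.MC a) v) F L))

end Cfsg.Agent.H88.X23
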