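import Mathlib
import Cfsg.Prelude.Def_JComponents

/-!
# Existence of `J(T)`-components: the four-group clause (pieces for S2948 / S2949)

`W4`: for `A` elementary abelian of largest order in the 2-group `T`, `K` with `O₂(K) ≤ T` of index 3,
`A ≤ N(K)` and some `a ∈ A` acting nontrivially on `K / O₂(K)`:
`W_K = [Ω₁(Z(O₂(K))), K]` is trivial or a four-group.

Abstract pieces (Mathlib only): `MB` (module bound), `S3` (square lemma), `Core`.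
-/

set_option autoImplicit false

namespace Cfsg.Agent.H88.Jc

universe u

/-- The common fixed points of a set of automorphisms. -/
def fix {U : Type u} [Group U] (S : Set (MulAut U)) : Subgroup U where
  carrier := {x | ∀ σ ∈ S, σ x = x}
  one_mem' := by intro σ _; simp
  mul_mem' := by
    intro a b ha hb σ hσ
    simp only [Set.mem_ofPred_eq] at ha hb
    simp [ha σ hσ, hb σ hσ]
  inv_mem' := by
    intro a ha σ hσ
    simp only [Set.mem_ofPred_eq] at ha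
    simp [ha σ hσ]

/-- The subgroup `[U, ξ]` generated by the elements `ξ u * u⁻¹`. -/
def comm {U : Type u} [Group U] (ξ : MulAut U) : Subgroup U :=
  Subgroup.closure (Set.range fun u : U => ξ u * u⁻¹)

/-- MB (module bound): an abelian 2-group of automorphisms of an elementary abelian 2-group `M`
whose only fixed points are `1` and `c ≠ 1` has order at most `|M| / 2`. -/
def StMB : Prop := ∀ {M : Type u} [Group M] [Finite M], (∀ m : M, m * m = 1) →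
  ∀ (S : Subgroup (MulAut M)), (∀ σ ∈ S, ∀ τ ∈ S, σ * τ = τ * σ) → (∀ σ ∈ S, σ * σ = 1) →
  ∀ c : M, c ≠ 1 → (∀ σ ∈ S, σ c = c) →
  (∀ m : M, (∀ σ ∈ S, σ m = m) → m = 1 ∨ m = c) →
  2 * Nat.card ↥S ≤ Nat.card M

/-- S3 (square lemma): `ξ` of order dividing 3 inverted by the involution `α`, `Y` invariant
under both with no nontrivial `ξ`-fixed point: `|Y| = |C_Y(α)|²`. -/
def StS3 : Prop := ∀ {U : Type u} [Group U] [Finite U], (∀ m : U, m * m = 1) →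
  ∀ (ξ α : MulAut U), ξ ^ 3 = 1 → α * α = 1 → α * ξ * α⁻¹ = ξ⁻¹ →
  ∀ (Y : Subgroup U), (∀ y ∈ Y, ξ y ∈ Y) → (∀ y ∈ Y, α y ∈ Y) → (∀ y ∈ Y, ξ y = y → y = 1) →
  Nat.card ↥Y = Nat.card ↥(Y ⊓ fix {α}) ^ 2

/-- Core: the linear-algebra heart.  `BO` is the best-offender inequality in the form
`|C_U(𝔅)| ≤ |𝔸 : 𝔅| |C_U(𝔸)|` for all subgroups `𝔅 ≤ 𝔸`. -/
def StCore : Prop := ∀ {U : Type u} [Group U] [Finite U], (∀ m : U, m * m = 1) →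
  ∀ (ξ : MulAut U), ξ ^ 3 = 1 →
  ∀ (𝔸 : Subgroup (MulAut U)), (∀ σ ∈ 𝔸, ∀ τ ∈ 𝔸, σ * τ = τ * σ) → (∀ σ ∈ 𝔸, σ * σ = 1) →
  (∀ σ ∈ 𝔸, σ * ξ * σ⁻¹ = ξ ∨ σ * ξ * σ⁻¹ = ξ⁻¹) →
  (∃ α ∈ 𝔸, α * ξ * α⁻¹ = ξ⁻¹) →
  (∀ 𝔅 : Subgroup (MulAut U), 𝔅 ≤ 𝔸 →
    Nat.card ↥(fix (𝔅 : Set (MulAut U))) ≤
      𝔅.relIndex 𝔸 * Nat.card ↥(fix (𝔸 : Set (MulAut U)))) →
  Nat.card ↥(comm ξ) = 1 ∨ Nat.card ↥(comm ξ) = 4

/-- W4: the four-group clause. -/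
def StW4 : Prop := ∀ {G : Type u} [Group G] [Finite G] (T A K : Subgroup G),
  IsPGroup 2 ↥T → A ≤ T → (∀ x ∈ A, ∀ y ∈ A, x * y = y * x) → (∀ x ∈ A, x * x = 1) →
  (∀ B : Subgroup G, B ≤ T → (∀ x ∈ B, ∀ y ∈ B, x * y = y * x) → (∀ x ∈ B, x * x = 1) →
    Nat.card ↥B ≤ Nat.card ↥A) →
  Cfsg.pCoreOf 2 K ≤ T → (Cfsg.pCoreOf 2 K).relIndex K = 3 →
  A ≤ Subgroup.normalizer (K : Set G) →
  ∀ a : G, a ∈ A → (∃ k ∈ K, a * k * a⁻¹ * k⁻¹ ∉ Cfsg.pCoreOf 2 K) →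
  Cfsg.wOf K = ⊥ ∨ (Nat.card ↥(Cfsg.wOf K) = 4 ∧ ∀ w ∈ Cfsg.wOf K, w * w = 1)

end Cfsg.Agent.H88.Jc
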