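import Cfsg.Agent.H88.StUF
import Cfsg.Agent.H80.StUSyl
import Cfsg.Agent.H77.StUCen
import Cfsg.Agent.H44.CharAux

/-!
helper88: the Steinberg character of `PU n φ` (layer 2: the involution is "good", as for the
Frobenius of a field with `q²` elements), and the transfer along a group isomorphism.
-/

set_option autoImplicit false

namespace Cfsg.Agent.H88.StU

open Matrix Cfsg.Agent.H88.Un Cfsg.Agent.H78.StSL Cfsg.Agent.H78.StM Cfsg.Agent.H50.AutPSL

/-- Transfer of a "Steinberg character" along a group isomorphism. -/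
theorem steinberg_transfer {G H : Type*} [Group G] [Group H] [Finite G] (e : G ≃* H) (p : ℕ)
    [Fact p.Prime]
    (h : ∃ χ : G → ℂ, Cfsg.IsIrrCharacter G χ ∧
      ∀ P : Sylow p G, χ 1 = Nat.card P ∧ ∀ x : G, x ∈ P → x ≠ 1 → χ x = 0) :
    ∃ χ : H → ℂ, Cfsg.IsIrrCharacter H χ ∧
      ∀ P : Sylow p H, χ 1 = Nat.card P ∧ ∀ x : H, x ∈ P → x ≠ 1 → χ x = 0 := by
  obtain ⟨χ, hχ, hP⟩ := h
  classical
  have hfin : Finite H := Finite.of_equiv G e.toEquiv
  letI : Fintype G := Fintype.ofFinite G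
  letI : Fintype H := Fintype.ofFinite H
  refine ⟨fun y => χ (e.symm y), Cfsg.Agent.H44.isIrrCharacter_comp_mulEquiv e.symm hχ, ?_⟩
  intro P
  have hle : (P : Subgroup H) ≤ e.toMonoidHom.range := by
    intro y _
    exact ⟨e.symm y, e.apply_symm_apply y⟩
  obtain ⟨h1, h2⟩ := hP (P.comapOfInjective e.toMonoidHom e.injective hle)
  have hmem : ∀ x : G, x ∈ P.comapOfInjective e.toMonoidHom e.injective hle ↔ e x ∈ P :=
    fun x => Iff.rfl
  constructor
  · show χ (e.symm 1) = _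
    rw [map_one, h1]
    congr 1
    apply Nat.card_congr
    exact
      { toFun := fun x => ⟨e x.1, (hmem x.1).1 x.2⟩
        invFun := fun y => ⟨e.symm y.1, (hmem _).2 (by rw [e.apply_symm_apply]; exact y.2)⟩
        left_inv := fun x => Subtype.ext (e.symm_apply_apply x.1)
        right_inv := fun y => Subtype.ext (e.apply_symm_apply y.1) }
  · intro x hx hx1
    apply h2
    · rw [hmem, e.apply_symm_apply]
      exact hx
    · intro e1
      apply hx1
      rw [← e.apply_symm_apply x, e1, map_one]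

variable {n : ℕ} {K : Type*} [Field K] [Fintype K] {φ : K →+* K}

/-- The Steinberg character of `PU n φ`. -/
theorem pu_steinberg [Invol φ] (hG : Good φ) (p : ℕ) [Fact p.Prime] [CharP K p] (hn : 2 ≤ n) :
    ∃ χ : PU n φ → ℂ, Cfsg.IsIrrCharacter (PU n φ) χ ∧
      ∀ P : Sylow p (PU n φ), χ 1 = Nat.card P ∧ ∀ x : PU n φ, x ∈ P → x ≠ 1 → χ x = 0 := by
  classical
  obtain ⟨ε, hε⟩ := Cfsg.Agent.H14.StU.exists_wu_sign n
  have hnodes := ug_nodes (φ := φ) (K := K) ε hε (fun _ => hG.ex_eps) (fun p m hm hpm => by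
    have hpm' : p ≠ m := by
      intro e
      rw [e] at hpm
      omega
    obtain ⟨N, hN⟩ := su3_N hG hm hpm'
    exact ⟨N, 1, one_ne_zero, hN⟩)
  have hlift : ∀ i : Fin (n / 2), ∃ N : UG n φ, IsMono (sref n i) N.1.1 := fun i => by
    obtain ⟨N, h, _⟩ := hnodes i
    exact ⟨N, h⟩
  obtain ⟨hUp, hUi⟩ := Cfsg.Agent.H80.StU.ug_sylow (n := n) hG p
  refine steinberg_quot p (EL φ (rk n)) (aU n K) (sgU ε) (apt 1) (fun u hu => ug_fix u hu)
    (fun w => ug_orbit hlift w) ⟨Fin.revPerm, Cfsg.Agent.H14.StU.revPerm_mem_wu n⟩ ?_ ?_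
    (ug_stable ε hnodes) hUp hUi (Subgroup.center _) ?_
  · show (((ε ⟨Fin.revPerm, Cfsg.Agent.H14.StU.revPerm_mem_wu n⟩ : ℤˣ) : ℤ) : ℂ) ≠ 0
    rcases Int.units_eq_one_or (ε ⟨Fin.revPerm, Cfsg.Agent.H14.StU.revPerm_mem_wu n⟩) with h | h <;>
      simp [h]
  · intro v hv w h
    obtain ⟨h1, h2⟩ := ug_big v hv w.1 h
    exact ⟨h1, Subtype.ext h2⟩
  · intro z hz
    refine ⟨fun u _ => (Subgroup.mem_center_iff.mp hz u).symm, fun w => ?_⟩
    obtain ⟨d, hd⟩ := Cfsg.Agent.H77.StU.ug_center_scalar hn hG z hz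
    exact diag_fix z _ hd w.1

/-- The Steinberg character of `PSU_n(q)`. -/
theorem psu_steinberg {F : Type*} [Field F] [Fintype F] (p : ℕ) [Fact p.Prime] [CharP F p]
    (n q : ℕ) (hn : 2 ≤ n) (hF : Fintype.card F = q ^ 2) :
    ∃ χ : Cfsg.PSU n F q → ℂ, Cfsg.IsIrrCharacter (Cfsg.PSU n F q) χ ∧
      ∀ P : Sylow p (Cfsg.PSU n F q), χ 1 = Nat.card P ∧
        ∀ x : Cfsg.PSU n F q, x ∈ P → x ≠ 1 → χ x = 0 := by
  obtain ⟨φ, hφ, hinv⟩ := Cfsg.Agent.H7.exists_frob hF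
  have : Invol φ := ⟨hinv⟩
  have hG : Good φ := good_frob hF hφ
  obtain ⟨D, hD⟩ := exists_D (n := n) hG
  have hq : q ≠ 0 := by
    have := Cfsg.Agent.H7.two_le_of_card_sq hF
    omega
  exact steinberg_transfer (toPSU hφ hq D hD) p (pu_steinberg hG p hn)

end Cfsg.Agent.H88.StU
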