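import Mathlib

/-!
# The Baer difference of two extensions with the same kernel module (helper88, for S2651)

For `π : E →* M`, `π' : E' →* M` and an equivariant isomorphism `ι` between the kernels, the quotient
of the fibre product by the diagonal copy of the kernel is again an extension of `M` by the kernel,
and a complement in it gives an isomorphism `E ≃* E'`.
-/

set_option autoImplicit false

namespace Cfsg.Agent.H88.Baer

universe u v w

variable {E : Type u} {E' : Type v} {M : Type w} [Group E] [Group E'] [Group M]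

/-- the fibre product -/
def FP (π : E →* M) (π' : E' →* M) : Subgroup (E × E') where
  carrier := {p | π p.1 = π' p.2}
  mul_mem' := by
    intro a b ha hb
    show π (a.1 * b.1) = π' (a.2 * b.2)
    rw [map_mul, map_mul]
    have ha' : π a.1 = π' a.2 := ha
    have hb' : π b.1 = π' b.2 := hb
    rw [ha', hb']
  one_mem' := by
    show π 1 = π' 1
    rw [map_one, map_one]
  inv_mem' := by
    intro a ha
    show π a.1⁻¹ = π' a.2⁻¹
    have ha' : π a.1 = π' a.2 := ha
    rw [map_inv, map_inv, ha']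

theorem mem_FP (π : E →* M) (π' : E' →* M) (p : E × E') : p ∈ FP π π' ↔ π p.1 = π' p.2 := Iff.rfl

/-- the diagonal copy of the kernel in the fibre product -/
def Dl (π : E →* M) (π' : E' →* M) (ι : π.ker ≃* π'.ker) : Subgroup ↥(FP π π') where
  carrier := {p | ∃ n : π.ker, p.1 = ((n : E), ((ι n : π'.ker) : E'))}
  mul_mem' := by
    rintro a b ⟨n, hn⟩ ⟨m, hm⟩
    refine ⟨n * m, ?_⟩
    rw [Subgroup.coe_mul, hn, hm, map_mul]
    rfl
  one_mem' := ⟨1, by rw [map_one]; rfl⟩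
  inv_mem' := by
    rintro a ⟨n, hn⟩
    refine ⟨n⁻¹, ?_⟩
    rw [Subgroup.coe_inv, hn, map_inv]
    rfl

theorem mem_Dl (π : E →* M) (π' : E' →* M) (ι : π.ker ≃* π'.ker) (p : ↥(FP π π')) :
    p ∈ Dl π π' ι ↔ ∃ n : π.ker, p.1 = ((n : E), ((ι n : π'.ker) : E')) := Iff.rfl

/-- the diagonal is normal when `ι` is equivariant -/
theorem dl_normal (π : E →* M) (π' : E' →* M) (ι : π.ker ≃* π'.ker)
    (hι : ∀ (g : E) (g' : E') (n : π.ker) (m : π.ker), π g = π' g' → (m : E) = g * n * g⁻¹ →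
      ((ι m : π'.ker) : E') = g' * ι n * g'⁻¹) : (Dl π π' ι).Normal := by
  constructor
  rintro a ⟨n, hn⟩ p
  have hp : π p.1.1 = π' p.1.2 := p.2
  have hm : p.1.1 * (n : E) * p.1.1⁻¹ ∈ π.ker := by
    rw [MonoidHom.mem_ker, map_mul, map_mul, map_inv, MonoidHom.mem_ker.mp n.2, mul_one,
      mul_inv_cancel]
  refine ⟨⟨_, hm⟩, ?_⟩
  have h2 := hι p.1.1 p.1.2 n ⟨_, hm⟩ hp rfl
  rw [Subgroup.coe_mul, Subgroup.coe_mul, Subgroup.coe_inv, hn]
  ext
  · rfl
  · exact h2.symm

section quot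

variable (π : E →* M) (π' : E' →* M) (ι : π.ker ≃* π'.ker) [hD : (Dl π π' ι).Normal]

/-- the Baer difference -/
abbrev BD : Type (max u v) := ↥(FP π π') ⧸ Dl π π' ι

/-- the quotient map -/
def mkD : ↥(FP π π') →* BD π π' ι := QuotientGroup.mk' (Dl π π' ι)

theorem mkD_surj : Function.Surjective (mkD π π' ι) := QuotientGroup.mk'_surjective _

theorem mkD_eq_one (p : ↥(FP π π')) : mkD π π' ι p = 1 ↔ p ∈ Dl π π' ι :=
  QuotientGroup.eq_one_iff p

/-- the projection of the Baer difference -/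
def πD : BD π π' ι →* M :=
  QuotientGroup.lift (Dl π π' ι) (π.comp ((MonoidHom.fst E E').comp (FP π π').subtype)) (by
    rintro p ⟨n, hn⟩
    show π p.1.1 = 1
    rw [hn]
    exact MonoidHom.mem_ker.mp n.2)

theorem πD_mk (p : ↥(FP π π')) : πD π π' ι (mkD π π' ι p) = π p.1.1 := rfl

theorem πD_surj (hπ' : Function.Surjective π') (hπ : Function.Surjective π) :
    Function.Surjective (πD π π' ι) := by
  intro m
  obtain ⟨g, rfl⟩ := hπ m
  obtain ⟨g', hg'⟩ := hπ' (π g)
  exact ⟨mkD π π' ι ⟨(g, g'), hg'.symm⟩, rfl⟩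

/-- the kernel of `π`, inside the fibre product -/
def jF : π.ker →* ↥(FP π π') where
  toFun n := ⟨((n : E), 1), by
    show π n = π' 1
    rw [map_one]
    exact MonoidHom.mem_ker.mp n.2⟩
  map_one' := rfl
  map_mul' a b := by
    apply Subtype.ext
    show (((a * b : π.ker) : E), (1 : E')) = ((a : E), (1 : E')) * ((b : E), (1 : E'))
    rw [Prod.mk_mul_mk, mul_one]
    rfl

/-- the kernel of `π`, inside the Baer difference -/
def jD : π.ker →* BD π π' ι := (mkD π π' ι).comp (jF π π')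

theorem jD_apply (n : π.ker) : jD π π' ι n = mkD π π' ι (jF π π' n) := rfl

theorem jD_inj : Function.Injective (jD π π' ι) := by
  rw [injective_iff_map_eq_one]
  intro n hn
  rw [jD_apply, mkD_eq_one] at hn
  obtain ⟨m, hm⟩ := hn
  have h1 : (n : E) = m := congrArg Prod.fst hm
  have h2 : (1 : E') = ((ι m : π'.ker) : E') := congrArg Prod.snd hm
  have h3 : ι m = 1 := Subtype.ext h2.symm
  have h4 : m = 1 := by
    rw [← ι.map_one] at h3
    exact ι.injective h3
  apply Subtype.ext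
  rw [h1, h4]

/-- an element of the fibre product with both coordinates in the kernels -/
theorem mkD_ker (p : ↥(FP π π')) (n : π.ker) (n' : π'.ker) (h1 : p.1.1 = n) (h2 : p.1.2 = n') :
    mkD π π' ι p = jD π π' ι (n * (ι.symm n')⁻¹) := by
  rw [jD_apply]
  have e : p = jF π π' (n * (ι.symm n')⁻¹) * ⟨(((ι.symm n' : π.ker) : E), (n' : E')), by
      show π (ι.symm n' : π.ker) = π' n'
      rw [MonoidHom.mem_ker.mp (ι.symm n').2, MonoidHom.mem_ker.mp n'.2]⟩ := by
    apply Subtype.ext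
    rw [Subgroup.coe_mul]
    ext
    · show p.1.1 = ((n * (ι.symm n')⁻¹ : π.ker) : E) * ((ι.symm n' : π.ker) : E)
      rw [← Subgroup.coe_mul, inv_mul_cancel_right, h1]
    · show p.1.2 = 1 * (n' : E')
      rw [one_mul, h2]
  rw [e, map_mul]
  have h3 : mkD π π' ι ⟨(((ι.symm n' : π.ker) : E), (n' : E')), by
      show π (ι.symm n' : π.ker) = π' n'
      rw [MonoidHom.mem_ker.mp (ι.symm n').2, MonoidHom.mem_ker.mp n'.2]⟩ = 1 := by
    rw [mkD_eq_one]
    refine ⟨ι.symm n', ?_⟩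
    rw [ι.apply_symm_apply]
  rw [h3, mul_one]

theorem jD_range : (jD π π' ι).range = (πD π π' ι).ker := by
  ext d
  constructor
  · rintro ⟨n, rfl⟩
    rw [MonoidHom.mem_ker, jD_apply, πD_mk]
    exact MonoidHom.mem_ker.mp n.2
  · intro hd
    obtain ⟨p, rfl⟩ := mkD_surj π π' ι d
    rw [MonoidHom.mem_ker, πD_mk] at hd
    have hp : π p.1.1 = π' p.1.2 := p.2
    have hd' : π' p.1.2 = 1 := by rw [← hp, hd]
    exact ⟨_, (mkD_ker π π' ι p ⟨p.1.1, hd⟩ ⟨p.1.2, hd'⟩ rfl rfl).symm⟩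

/-- conjugation on the kernel of the Baer difference is conjugation in `E` -/
theorem conj_jD (p : ↥(FP π π')) (n : π.ker) (m : π.ker) (hm : (m : E) = p.1.1 * n * p.1.1⁻¹) :
    mkD π π' ι p * jD π π' ι n * (mkD π π' ι p)⁻¹ = jD π π' ι m := by
  rw [jD_apply, jD_apply, ← map_inv, ← map_mul, ← map_mul]
  congr 1
  apply Subtype.ext
  rw [Subgroup.coe_mul, Subgroup.coe_mul, Subgroup.coe_inv]
  ext
  · exact hm.symm
  · show p.1.2 * 1 * p.1.2⁻¹ = 1
    rw [mul_one, mul_inv_cancel]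

/-- a complement in the Baer difference gives an isomorphism -/
theorem iso_of_compl (hπ : Function.Surjective π) (hπ' : Function.Surjective π')
    (H : Subgroup (BD π π' ι)) (h1 : H ⊓ (πD π π' ι).ker = ⊥) (h2 : H ⊔ (πD π π' ι).ker = ⊤) :
    Nonempty (E ≃* E') := by
  -- the preimage of the complement
  let C : Subgroup ↥(FP π π') := H.comap (mkD π π' ι)
  let f1 : ↥C →* E := (MonoidHom.fst E E').comp ((FP π π').subtype.comp C.subtype)
  let f2 : ↥C →* E' := (MonoidHom.snd E E').comp ((FP π π').subtype.comp C.subtype)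
  have hf1 : ∀ c : ↥C, f1 c = c.1.1.1 := fun _ => rfl
  have hf2 : ∀ c : ↥C, f2 c = c.1.1.2 := fun _ => rfl
  have hdec : ∀ p : ↥(FP π π'), ∃ q : ↥(FP π π'), q ∈ C ∧ ∃ n : π.ker,
      mkD π π' ι p = mkD π π' ι q * jD π π' ι n := by
    intro p
    have hp : mkD π π' ι p ∈ H ⊔ (πD π π' ι).ker := by rw [h2]; exact Subgroup.mem_top _
    rw [← SetLike.mem_coe, Subgroup.mul_normal] at hp
    obtain ⟨h, hh, k, hk, hhk⟩ := hp
    obtain ⟨q, rfl⟩ := mkD_surj π π' ι h
    have hk' : k ∈ (jD π π' ι).range := by rw [jD_range]; exact hk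
    obtain ⟨n, rfl⟩ := hk'
    exact ⟨q, hh, n, hhk.symm⟩
  have hdl : ∀ m : π.ker, π ((m : E)) = π' ((ι m : π'.ker) : E') := by
    intro m
    rw [MonoidHom.mem_ker.mp m.2, MonoidHom.mem_ker.mp (ι m).2]
  have hdlC : ∀ (q : ↥(FP π π')) (m : π.ker), q ∈ C →
      q * ⟨((m : E), ((ι m : π'.ker) : E')), hdl m⟩ ∈ C := by
    intro q m hq
    show mkD π π' ι (q * _) ∈ H
    rw [map_mul]
    have : mkD π π' ι ⟨((m : E), ((ι m : π'.ker) : E')), hdl m⟩ = 1 := by
      rw [mkD_eq_one]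
      exact ⟨m, rfl⟩
    rw [this, mul_one]
    exact hq
  have hsplit : ∀ (p q : ↥(FP π π')) (n : π.ker), mkD π π' ι p = mkD π π' ι q * jD π π' ι n →
      ∃ m : π.ker, p.1.1 = q.1.1 * n * m ∧ p.1.2 = q.1.2 * ((ι m : π'.ker) : E') := by
    intro p q n h
    have h3 : mkD π π' ι ((q * jF π π' n)⁻¹ * p) = 1 := by
      rw [map_mul, map_inv, map_mul, h]
      exact inv_mul_cancel _
    rw [mkD_eq_one] at h3
    obtain ⟨m, hm⟩ := h3
    refine ⟨m, ?_, ?_⟩
    · have this : (q.1.1 * n)⁻¹ * p.1.1 = (m : E) := congrArg Prod.fst hm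
      rw [← this]
      group
    · have this : (q.1.2 * 1)⁻¹ * p.1.2 = ((ι m : π'.ker) : E') := congrArg Prod.snd hm
      rw [← this]
      group
  have inj1 : Function.Injective f1 := by
    rw [injective_iff_map_eq_one]
    intro c hc
    rw [hf1] at hc
    have hp : π c.1.1.1 = π' c.1.1.2 := c.1.2
    have hk : π' c.1.1.2 = 1 := by rw [← hp, hc, map_one]
    have hmem : mkD π π' ι c.1 ∈ H ⊓ (πD π π' ι).ker := by
      refine Subgroup.mem_inf.mpr ⟨c.2, ?_⟩
      rw [MonoidHom.mem_ker, πD_mk, hc, map_one]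
    rw [h1, Subgroup.mem_bot, mkD_eq_one] at hmem
    obtain ⟨m, hm⟩ := hmem
    have e1 : (m : E) = 1 := by rw [← hc]; exact (congrArg Prod.fst hm).symm
    have e2 : m = 1 := Subtype.ext e1
    have e3 : c.1.1.2 = 1 := by
      have := congrArg Prod.snd hm
      rw [this, e2, map_one]
      rfl
    apply Subtype.ext
    apply Subtype.ext
    ext
    · exact hc
    · exact e3
  have inj2 : Function.Injective f2 := by
    rw [injective_iff_map_eq_one]
    intro c hc
    rw [hf2] at hc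
    have hp : π c.1.1.1 = π' c.1.1.2 := c.1.2
    have hk : π c.1.1.1 = 1 := by rw [hp, hc, map_one]
    have hmem : mkD π π' ι c.1 ∈ H ⊓ (πD π π' ι).ker := by
      refine Subgroup.mem_inf.mpr ⟨c.2, ?_⟩
      rw [MonoidHom.mem_ker, πD_mk, hk]
    rw [h1, Subgroup.mem_bot] at hmem
    have e0 : mkD π π' ι c.1 = jD π π' ι (⟨c.1.1.1, hk⟩ * (ι.symm 1)⁻¹) :=
      mkD_ker π π' ι c.1 ⟨c.1.1.1, hk⟩ 1 rfl hc
    rw [hmem, map_one, inv_one, mul_one] at e0
    have e1 : (⟨c.1.1.1, hk⟩ : π.ker) = 1 := by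
      apply jD_inj π π' ι
      rw [← e0, map_one]
    have e2 : c.1.1.1 = 1 := congrArg Subtype.val e1
    apply Subtype.ext
    apply Subtype.ext
    ext
    · exact e2
    · exact hc
  have surj1 : Function.Surjective f1 := by
    intro g
    obtain ⟨g', hg'⟩ := hπ' (π g)
    obtain ⟨q, hq, n, hn⟩ := hdec ⟨(g, g'), hg'.symm⟩
    obtain ⟨m, hm1, -⟩ := hsplit _ q n hn
    refine ⟨⟨_, hdlC q (n * m) hq⟩, ?_⟩
    rw [hf1]
    show q.1.1 * ((n * m : π.ker) : E) = g
    rw [Subgroup.coe_mul, ← mul_assoc]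
    exact hm1.symm
  have surj2 : Function.Surjective f2 := by
    intro g'
    obtain ⟨g, hg⟩ := hπ (π' g')
    obtain ⟨q, hq, n, hn⟩ := hdec ⟨(g, g'), hg⟩
    obtain ⟨m, -, hm2⟩ := hsplit _ q n hn
    refine ⟨⟨_, hdlC q m hq⟩, ?_⟩
    rw [hf2]
    exact hm2.symm
  exact ⟨(MulEquiv.ofBijective f1 ⟨inj1, surj1⟩).symm.trans (MulEquiv.ofBijective f2 ⟨inj2, surj2⟩)⟩

end quot

end Cfsg.Agent.H88.Baer
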