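import Mathlib
import Cfsg.Agent.H88.Baer

/-!
# Codes on the Baer difference, and the identification of the kernels (helper88, for S2651)
-/

set_option autoImplicit false

namespace Cfsg.Agent.H88.Baer

universe u v w

variable {E : Type u} {E' : Type v} {M : Type w} [Group E] [Group E'] [Group M]

section code

variable (π : E →* M) (π' : E' →* M) (ι : π.ker ≃* π'.ker) [hD : (Dl π π' ι).Normal]
  (code : E → ℕ)

open Classical in
/-- the code on the kernel of the Baer difference, transported from the code on `π.ker` -/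
noncomputable def codeD (d : BD π π' ι) : ℕ :=
  if h : ∃ n : π.ker, jD π π' ι n = d then code ((h.choose : π.ker) : E) else 0

theorem codeD_jD (n : π.ker) : codeD π π' ι code (jD π π' ι n) = code n := by
  have h : ∃ m : π.ker, jD π π' ι m = jD π π' ι n := ⟨n, rfl⟩
  unfold codeD
  rw [dif_pos h]
  have e : h.choose = n := jD_inj π π' ι h.choose_spec
  rw [e]

theorem exists_jD (d : BD π π' ι) (hd : d ∈ (πD π π' ι).ker) : ∃ n : π.ker, jD π π' ι n = d := by
  rw [← jD_range] at hd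
  exact hd

theorem codeD_lt (k1 : ∀ x, code x < 2048) (d : BD π π' ι) : codeD π π' ι code d < 2048 := by
  unfold codeD
  split_ifs
  · exact k1 _
  · norm_num

theorem codeD_mul (k2 : ∀ x ∈ π.ker, ∀ y ∈ π.ker, code (x * y) = code x ^^^ code y) :
    ∀ x ∈ (πD π π' ι).ker, ∀ y ∈ (πD π π' ι).ker,
      codeD π π' ι code (x * y) = codeD π π' ι code x ^^^ codeD π π' ι code y := by
  intro x hx y hy
  obtain ⟨n, rfl⟩ := exists_jD π π' ι x hx
  obtain ⟨m, rfl⟩ := exists_jD π π' ι y hy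
  rw [← map_mul, codeD_jD, codeD_jD, codeD_jD, Subgroup.coe_mul]
  exact k2 _ n.2 _ m.2

theorem codeD_inj (k3 : ∀ x ∈ π.ker, ∀ y ∈ π.ker, code x = code y → x = y) :
    ∀ x ∈ (πD π π' ι).ker, ∀ y ∈ (πD π π' ι).ker,
      codeD π π' ι code x = codeD π π' ι code y → x = y := by
  intro x hx y hy h
  obtain ⟨n, rfl⟩ := exists_jD π π' ι x hx
  obtain ⟨m, rfl⟩ := exists_jD π π' ι y hy
  rw [codeD_jD, codeD_jD] at h
  have e : n = m := Subtype.ext (k3 _ n.2 _ m.2 h)
  rw [e]

theorem codeD_onto (k4 : ∀ c < 2048, ∃ x ∈ π.ker, code x = c) :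
    ∀ c < 2048, ∃ x ∈ (πD π π' ι).ker, codeD π π' ι code x = c := by
  intro c hc
  obtain ⟨x, hx, rfl⟩ := k4 c hc
  refine ⟨jD π π' ι ⟨x, hx⟩, ?_, codeD_jD π π' ι code ⟨x, hx⟩⟩
  rw [← jD_range]
  exact ⟨_, rfl⟩

/-- a conjugation rule for the code on `E` passes to the Baer difference -/
theorem codeD_conj (m : M) (T : ℕ → ℕ)
    (h : ∀ g, π g = m → ∀ x ∈ π.ker, code (g * x * g⁻¹) = T (code x)) :
    ∀ g : BD π π' ι, πD π π' ι g = m → ∀ x ∈ (πD π π' ι).ker,
      codeD π π' ι code (g * x * g⁻¹) = T (codeD π π' ι code x) := by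
  intro g hg x hx
  obtain ⟨p, rfl⟩ := mkD_surj π π' ι g
  obtain ⟨n, rfl⟩ := exists_jD π π' ι x hx
  rw [πD_mk] at hg
  have hm : p.1.1 * (n : E) * p.1.1⁻¹ ∈ π.ker := by
    rw [MonoidHom.mem_ker, map_mul, map_mul, map_inv, MonoidHom.mem_ker.mp n.2, mul_one,
      mul_inv_cancel]
  rw [conj_jD π π' ι p n ⟨_, hm⟩ rfl, codeD_jD, codeD_jD]
  exact h _ hg _ n.2

/-- the code of the class of a pair of kernel elements -/
theorem codeD_mk (code' : E' → ℕ)
    (k2 : ∀ x ∈ π.ker, ∀ y ∈ π.ker, code (x * y) = code x ^^^ code y)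
    (hc : ∀ n : π.ker, code' ((ι n : π'.ker) : E') = code n)
    (p : ↥(FP π π')) (hp : π p.1.1 = 1) :
    codeD π π' ι code (mkD π π' ι p) = code p.1.1 ^^^ code' p.1.2 := by
  have hp0 : π p.1.1 = π' p.1.2 := p.2
  have hp' : π' p.1.2 = 1 := by rw [← hp0, hp]
  have code_one : code 1 = 0 := by
    have h := k2 1 (one_mem _) 1 (one_mem _)
    rw [mul_one] at h
    have h2 : code 1 ^^^ code 1 = 0 := Nat.xor_self _
    rw [← h] at h2
    exact h2
  have code_inv : ∀ x ∈ π.ker, code x⁻¹ = code x := by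
    intro x hx
    have h := k2 x hx x⁻¹ (inv_mem hx)
    rw [mul_inv_cancel, code_one] at h
    exact (Nat.xor_eq_zero_iff.mp h.symm).symm
  obtain ⟨n, hn⟩ : ∃ n : π.ker, (n : E) = p.1.1 := ⟨⟨p.1.1, MonoidHom.mem_ker.mpr hp⟩, rfl⟩
  obtain ⟨n', hn'⟩ : ∃ n' : π'.ker, (n' : E') = p.1.2 := ⟨⟨p.1.2, MonoidHom.mem_ker.mpr hp'⟩, rfl⟩
  rw [mkD_ker π π' ι p n n' hn.symm hn'.symm, codeD_jD, Subgroup.coe_mul, Subgroup.coe_inv,
    k2 _ n.2 _ (inv_mem (ι.symm n').2), code_inv _ (ι.symm n').2, ← hn, ← hn']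
  have h := hc (ι.symm n')
  rw [ι.apply_symm_apply] at h
  rw [← h]

end code

/-- two surjections from an additive group onto subgroups `K`, `K'` with the same kernel identify
`K` with `K'` -/
theorem exists_iota {V : Type*} [AddCommGroup V] (K : Subgroup E) (K' : Subgroup E')
    (t : V → E) (t' : V → E') (ht : ∀ w, t w ∈ K) (ht' : ∀ w, t' w ∈ K')
    (hadd : ∀ v w, t (v + w) = t v * t w) (hadd' : ∀ v w, t' (v + w) = t' v * t' w)
    (hs : ∀ n ∈ K, ∃ w, t w = n) (hs' : ∀ n ∈ K', ∃ w, t' w = n)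
    (hk : ∀ w, t w = 1 ↔ t' w = 1) :
    ∃ ι : K ≃* K', ∀ (w : V) (n : K), (n : E) = t w → ((ι n : K') : E') = t' w := by
  have t0 : t 0 = 1 := by
    have h := hadd 0 0
    rw [add_zero] at h
    exact (mul_eq_left.mp h.symm)
  have t0' : t' 0 = 1 := by
    have h := hadd' 0 0
    rw [add_zero] at h
    exact (mul_eq_left.mp h.symm)
  have tneg : ∀ w, t (-w) = (t w)⁻¹ := by
    intro w
    have h := hadd w (-w)
    rw [add_neg_cancel, t0] at h
    exact eq_inv_of_mul_eq_one_right h.symm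
  have tneg' : ∀ w, t' (-w) = (t' w)⁻¹ := by
    intro w
    have h := hadd' w (-w)
    rw [add_neg_cancel, t0'] at h
    exact eq_inv_of_mul_eq_one_right h.symm
  have key : ∀ v w, t v = t w ↔ t' v = t' w := by
    intro v w
    have h1 : t v = t w ↔ t (v + -w) = 1 := by
      rw [hadd, tneg, mul_inv_eq_one]
    have h2 : t' v = t' w ↔ t' (v + -w) = 1 := by
      rw [hadd', tneg', mul_inv_eq_one]
    rw [h1, h2]
    exact hk _
  choose c hc using fun n : K => hs n n.2
  choose c' hc' using fun n : K' => hs' n n.2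
  let f : K →* K' :=
    { toFun := fun n => ⟨t' (c n), ht' _⟩
      map_one' := by
        apply Subtype.ext
        show t' (c 1) = 1
        rw [← hk, hc]
        rfl
      map_mul' := by
        intro a b
        apply Subtype.ext
        show t' (c (a * b)) = t' (c a) * t' (c b)
        rw [← hadd', ← key, hc, hadd, hc, hc]
        rfl }
  have hf : ∀ (w : V) (n : K), (n : E) = t w → ((f n : K') : E') = t' w := by
    intro w n hn
    show t' (c n) = t' w
    rw [← key, hc, hn]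
  have inj : Function.Injective f := by
    rw [injective_iff_map_eq_one]
    intro n hn
    have h1 : t' (c n) = 1 := congrArg Subtype.val hn
    rw [← hk, hc] at h1
    exact Subtype.ext h1
  have surj : Function.Surjective f := by
    intro n'
    refine ⟨⟨t (c' n'), ht _⟩, ?_⟩
    apply Subtype.ext
    rw [hf (c' n') ⟨t (c' n'), ht _⟩ rfl, hc']
  exact ⟨MulEquiv.ofBijective f ⟨inj, surj⟩, hf⟩

end Cfsg.Agent.H88.Baer
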