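import Mathlib
import Cfsg.Agent.H88.FamCrit

/-!
helper88: the family criterion for simplicity of the `p`-fusion system of a finite group,
with the data given on an isomorphic copy of the group.
-/

set_option autoImplicit false

namespace Cfsg.Agent.H88

open Cfsg

/-- The centric-family criterion, with the data given on a group isomorphic to the group. -/
theorem simple_of_centric_family_equiv {G G' : Type*} [Group G] [Group G'] [Finite G]
    [Finite G'] (e : G ≃* G') (p : ℕ) [Fact p.Prime]
    (P : Sylow p G) (hP1 : (P : Subgroup G) ≠ ⊥)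
    (hcl : ∀ T : Subgroup G, T ≤ (P : Subgroup G) → T ≠ ⊥ →
      (∀ x ∈ T, ∀ d : G, d * x * d⁻¹ ∈ (P : Subgroup G) → d * x * d⁻¹ ∈ T) →
      T = (P : Subgroup G))
    (𝓔 : Set (Subgroup G))
    (h𝓔 : ∀ E ∈ 𝓔, E ≤ (P : Subgroup G) ∧
      (P : Subgroup G) ≤ Subgroup.normalizer (E : Set G) ∧ Subgroup.centralizer (E : Set G) ≤ E)
    (hb : ∀ g ∈ Subgroup.normalizer ((P : Subgroup G) : Set G),
      g ∈ Subgroup.closure {x : G | x ∈ Subgroup.normalizer ((P : Subgroup G) : Set G) ∧
        ∃ E ∈ 𝓔, x ∈ Subgroup.closure {y : G | y ∈ Subgroup.normalizer (E : Set G) ∧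
          ∃ k : ℕ, orderOf y = p ^ k}})
    (S : Sylow p G') : (groupFusionSystem (S : Subgroup G')).IsSimple p := by
  have hmapmem : ∀ (H : Subgroup G) (y : G'), y ∈ H.map e.toMonoidHom ↔ e.symm y ∈ H := by
    intro H y
    constructor
    · rintro ⟨x, hx, rfl⟩
      show e.symm (e x) ∈ H
      rw [e.symm_apply_apply]
      exact hx
    · intro h
      exact ⟨e.symm y, h, e.apply_symm_apply y⟩
  obtain ⟨P', hP'⟩ : ∃ P' : Sylow p G', (P' : Subgroup G') = (P : Subgroup G).map e.toMonoidHom := by
    refine ⟨⟨(P : Subgroup G).map e.toMonoidHom, P.isPGroup'.map _, ?_⟩, rfl⟩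
    intro Q hQ hle
    have h1 : (P : Subgroup G) ≤ Q.map e.symm.toMonoidHom := by
      intro x hx
      exact ⟨e x, hle ⟨x, hx, rfl⟩, e.symm_apply_apply x⟩
    have h2 := P.is_maximal' (hQ.map _) h1
    apply le_antisymm _ hle
    intro y hy
    rw [hmapmem]
    have h3 : e.symm y ∈ Q.map e.symm.toMonoidHom := ⟨y, hy, rfl⟩
    rw [h2] at h3
    exact h3
  have hnorm : ∀ (H : Subgroup G) (y : G'),
      y ∈ Subgroup.normalizer ((H.map e.toMonoidHom : Subgroup G') : Set G') ↔
        e.symm y ∈ Subgroup.normalizer (H : Set G) := by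
    intro H y
    rw [Subgroup.mem_normalizer_iff, Subgroup.mem_normalizer_iff]
    constructor
    · intro h x
      have h1 := h (e x)
      rw [hmapmem, hmapmem, e.symm_apply_apply, map_mul, map_mul, e.symm_apply_apply,
        map_inv] at h1
      exact h1
    · intro h z
      rw [hmapmem, hmapmem, map_mul, map_mul, map_inv]
      exact h (e.symm z)
  apply simple_of_centric_family_model p P' ?_ ?_
    ((fun E : Subgroup G => E.map e.toMonoidHom) '' 𝓔) ?_ ?_ S
  · intro h
    apply hP1
    rw [eq_bot_iff]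
    intro x hx
    have h1 : e x ∈ (P' : Subgroup G') := by
      rw [hP']
      exact ⟨x, hx, rfl⟩
    rw [h, Subgroup.mem_bot] at h1
    rw [Subgroup.mem_bot]
    exact e.injective (h1.trans (map_one e).symm)
  · intro T' hT' hT'1 hcl'
    rw [hP'] at hT' hcl' ⊢
    have h1 := hcl (T'.comap e.toMonoidHom) ?_ ?_ ?_
    · apply le_antisymm hT'
      intro y hy
      rw [hmapmem, ← h1, Subgroup.mem_comap] at hy
      have e1 : e.toMonoidHom (e.symm y) = y := e.apply_symm_apply y
      rw [e1] at hy
      exact hy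
    · intro x hx
      have h2 := hT' (Subgroup.mem_comap.1 hx)
      rw [hmapmem] at h2
      have e1 : e.symm (e.toMonoidHom x) = x := e.symm_apply_apply x
      rw [e1] at h2
      exact h2
    · intro h
      apply hT'1
      rw [eq_bot_iff]
      intro y hy
      have h2 : e.symm y ∈ T'.comap e.toMonoidHom := by
        rw [Subgroup.mem_comap]
        have e1 : e.toMonoidHom (e.symm y) = y := e.apply_symm_apply y
        rw [e1]
        exact hy
      rw [h, Subgroup.mem_bot] at h2
      rw [Subgroup.mem_bot]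
      have h3 := congrArg e h2
      rw [e.apply_symm_apply, map_one] at h3
      exact h3
    · intro x hx d hd
      rw [Subgroup.mem_comap] at hx ⊢
      have h2 := hcl' _ hx (e d) (by
        rw [hmapmem]
        have e1 : e.symm (e d * e.toMonoidHom x * (e d)⁻¹) = d * x * d⁻¹ := by
          rw [map_mul, map_mul, map_inv, e.symm_apply_apply]
          congr 2
          exact e.symm_apply_apply x
        rw [e1]
        exact hd)
      have e2 : e.toMonoidHom (d * x * d⁻¹) = e d * e.toMonoidHom x * (e d)⁻¹ := by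
        rw [map_mul, map_mul, map_inv]
        rfl
      rw [e2]
      exact h2
  · rintro _ ⟨E, hE, rfl⟩
    obtain ⟨h1, h2, h3⟩ := h𝓔 E hE
    rw [hP']
    refine ⟨Subgroup.map_mono h1, ?_, ?_⟩
    · intro y hy
      rw [hmapmem] at hy
      rw [hnorm]
      exact h2 hy
    · intro y hy
      rw [hmapmem]
      apply h3
      rw [Subgroup.mem_centralizer_iff] at hy ⊢
      intro x hx
      have h4 := hy (e x) ⟨x, hx, rfl⟩
      apply e.injective
      rw [map_mul, map_mul, e.apply_symm_apply]
      exact h4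
  · intro g' hg'
    rw [hP', hnorm] at hg'
    have h1 := hb _ hg'
    have h2 : g' = e.toMonoidHom (e.symm g') := (e.apply_symm_apply g').symm
    rw [h2]
    have h3 := Subgroup.mem_map_of_mem e.toMonoidHom h1
    rw [MonoidHom.map_closure] at h3
    refine Subgroup.closure_mono ?_ h3
    rintro _ ⟨x, ⟨hx1, E, hE, hx2⟩, rfl⟩
    refine ⟨?_, E.map e.toMonoidHom, ⟨E, hE, rfl⟩, ?_⟩
    · rw [hP', hnorm]
      have e1 : e.symm (e.toMonoidHom x) = x := e.symm_apply_apply x
      rw [e1]
      exact hx1
    · have h4 := Subgroup.mem_map_of_mem e.toMonoidHom hx2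
      rw [MonoidHom.map_closure] at h4
      refine Subgroup.closure_mono ?_ h4
      rintro _ ⟨y, ⟨hy1, k, hk⟩, rfl⟩
      refine ⟨?_, k, ?_⟩
      · rw [hnorm]
        have e1 : e.symm (e.toMonoidHom y) = y := e.symm_apply_apply y
        rw [e1]
        exact hy1
      · rw [← hk]
        exact MulEquiv.orderOf_eq e y

end Cfsg.Agent.H88
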