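import Cfsg.Agent.H88.FactorSat
import Cfsg.Agent.H88.PPower
import Cfsg.Agent.H88.Basic
import Cfsg.Agent.H86.FusExt

set_option autoImplicit false

/-!
Grün's lemma for fusion systems: a perfect saturated fusion system (`hyp(F) = S`) has `Z₂(F) = Z(F)`.
-/

namespace Cfsg.Agent.H88

open Cfsg Cfsg.FusionSystem Cfsg.Agent.H86

variable {Ω : Type*} [Group Ω] {S : Subgroup Ω} {Ω' : Type*} [Group Ω']

theorem central_fixed' {F : FusionSystem S} {Z : Subgroup Ω} (hZ : F.IsCentral Z) {D : Subgroup Ω}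
    {f : Ω → Ω} (hf : Mor F D f) {z : Ω} (hzD : z ∈ D) (hzZ : z ∈ Z) : f z = z := by
  obtain ⟨f', -, hf'P, hf'Z⟩ := central_extend hZ hf
  rw [← hf'P z hzD, hf'Z z hzZ]

section

variable {F : FusionSystem S} {S' : Subgroup Ω'} {θ : S →* Ω'} {E : FusionSystem S'}

/-- Step A: the preimage of a central subgroup of `F/Z(F)` is moved by maps of `F` only inside cosets
of `Z(F)`. -/
lemma grun_stepA [Finite S] {p : ℕ} [Fact p.Prime] (hS : IsPGroup p S) (hF : F.IsSaturated p)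
    (hE : F.IsFactorSystem F.center θ E) {Q' : Subgroup Ω'} (hQ' : E.IsCentral Q')
    {P : Subgroup Ω} {f : Ω → Ω} (hf : Mor F P f) {x : Ω} (hxP : x ∈ P)
    (hx : x ∈ preimageAlong θ Q') : x⁻¹ * f x ∈ F.center := by
  have hZc : F.IsCentral F.center := isCentral_center F
  have hZcl : F.StronglyClosed F.center := central_stronglyClosed hZc
  obtain ⟨f', hf', H⟩ := factor_induced_any hS hF hZcl hE hf
  have hfix : f' (tot θ x) = tot θ x :=
    central_fixed' hQ' hf' (tot_mem_imageAlong hf.le hxP) (mem_preimageAlong_iff.1 hx).2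
  rw [H x hxP] at hfix
  exact (tot_eq_iff hE (hf.le hxP) (hf.mem hxP)).1 hfix.symm

/-- Step B: the commutator map with such an element is invariant under maps of `F`. -/
lemma grun_stepB [Finite S] {p : ℕ} [Fact p.Prime] (hS : IsPGroup p S) (hF : F.IsSaturated p)
    (hE : F.IsFactorSystem F.center θ E) {Q' : Subgroup Ω'} (hQ' : E.IsCentral Q')
    {P : Subgroup Ω} {f : Ω → Ω} (hf : Mor F P f) {u : Ω} (hu : u ∈ P) {x : Ω}
    (hx : x ∈ preimageAlong θ Q') :
    x⁻¹ * f u * x * (f u)⁻¹ = x⁻¹ * u * x * u⁻¹ := by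
  have hZc : F.IsCentral F.center := isCentral_center F
  have hZcl : F.StronglyClosed F.center := central_stronglyClosed hZc
  have hZS : F.center ≤ S := hZc.1
  have hxS : x ∈ S := (mem_preimageAlong_iff.1 hx).1
  have hxQ' : tot θ x ∈ Q' := (mem_preimageAlong_iff.1 hx).2
  have hcomm : ∀ z ∈ F.center, ∀ s ∈ S, s * z = z * s := fun z hz s hs =>
    F.center_le_centralizer hz s hs
  -- the induced map, extended over `Q'`, lifted
  obtain ⟨f', hf', H⟩ := factor_induced_any hS hF hZcl hE hf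
  obtain ⟨f'', hf'', hf''P, hf''Q⟩ := central_extend hQ' hf'
  obtain ⟨g, hg, Hg⟩ := factor_lift hE hf''
  have huD : u ∈ preimageAlong θ (imageAlong θ P ⊔ Q') :=
    mem_preimageAlong_iff.2 ⟨hf.le hu, Subgroup.mem_sup_left (tot_mem_imageAlong hf.le hu)⟩
  have hxD : x ∈ preimageAlong θ (imageAlong θ P ⊔ Q') :=
    mem_preimageAlong_iff.2 ⟨hxS, Subgroup.mem_sup_right hxQ'⟩
  have h1 : tot θ (g u) = tot θ (f u) := by
    rw [← Hg u huD, hf''P _ (tot_mem_imageAlong hf.le hu), H u hu]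
  have h2 : tot θ (g x) = tot θ x := by
    rw [← Hg x hxD, hf''Q _ hxQ']
  have hz1 : (f u)⁻¹ * g u ∈ F.center := (tot_eq_iff hE (hf.mem hu) (hg.mem huD)).1 h1.symm
  have hz2 : x⁻¹ * g x ∈ F.center := (tot_eq_iff hE hxS (hg.mem hxD)).1 h2.symm
  -- the commutator is central, hence fixed by `g`
  have hc : x⁻¹ * u * x * u⁻¹ ∈ F.center := by
    have h3 := grun_stepA hS hF hE hQ' (Mor.conj F (le_refl S) (S.inv_mem (hf.le hu))) hxS hx
    have e : x⁻¹ * (u⁻¹ * x * u⁻¹⁻¹) = u⁻¹ * (x⁻¹ * u * x * u⁻¹)⁻¹ * u := by group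
    rw [e] at h3
    have h4 := stronglyClosed_conj_mem hZcl (hf.le hu) h3
    have e2 : u * (u⁻¹ * (x⁻¹ * u * x * u⁻¹)⁻¹ * u) * u⁻¹ = (x⁻¹ * u * x * u⁻¹)⁻¹ := by group
    rw [e2] at h4
    simpa using F.center.inv_mem h4
  have hcD : x⁻¹ * u * x * u⁻¹ ∈ preimageAlong θ (imageAlong θ P ⊔ Q') :=
    Subgroup.mul_mem _ (Subgroup.mul_mem _ (Subgroup.mul_mem _ (Subgroup.inv_mem _ hxD) huD) hxD)
      (Subgroup.inv_mem _ huD)
  have hfix := central_fixed' hZc hg hcD hc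
  rw [hg.map_mul (Subgroup.mul_mem _ (Subgroup.mul_mem _ (Subgroup.inv_mem _ hxD) huD) hxD)
      (Subgroup.inv_mem _ huD),
    hg.map_mul (Subgroup.mul_mem _ (Subgroup.inv_mem _ hxD) huD) hxD,
    hg.map_mul (Subgroup.inv_mem _ hxD) huD, hg.map_inv hxD, hg.map_inv huD] at hfix
  -- substitute `g u = f u * z₁`, `g x = x * z₂`
  have e1 : g u = f u * ((f u)⁻¹ * g u) := by group
  have e2 : g x = x * (x⁻¹ * g x) := by group
  have hfu : f u ∈ S := hf.mem hu
  have c1 := hcomm _ hz1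
  have c2 := hcomm _ hz2
  rw [← hfix, e1, e2]
  have k1 : x * (x⁻¹ * g x) = (x⁻¹ * g x) * x := c2 x hxS
  have k2 : f u * ((f u)⁻¹ * g u) = ((f u)⁻¹ * g u) * f u := c1 (f u) hfu
  have k3 : x * ((f u)⁻¹ * g u) = ((f u)⁻¹ * g u) * x := c1 x hxS
  have k4 : f u * (x⁻¹ * g x) = (x⁻¹ * g x) * f u := c2 (f u) hfu
  have k5 : (x⁻¹ * g x) * ((f u)⁻¹ * g u) = ((f u)⁻¹ * g u) * (x⁻¹ * g x) :=
    (c1 _ (hZS hz2))
  -- all of `z₁, z₂` commute with everything in sight
  rw [k1, k2]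
  have : ((x⁻¹ * g x) * x)⁻¹ * (((f u)⁻¹ * g u) * f u) * ((x⁻¹ * g x) * x) *
      (((f u)⁻¹ * g u) * f u)⁻¹ =
      x⁻¹ * ((x⁻¹ * g x)⁻¹ * ((f u)⁻¹ * g u) * (f u * (x⁻¹ * g x)) * x) *
        (f u)⁻¹ * ((f u)⁻¹ * g u)⁻¹ := by group
  rw [this, k4]
  have : x⁻¹ * ((x⁻¹ * g x)⁻¹ * ((f u)⁻¹ * g u) * ((x⁻¹ * g x) * f u) * x) * (f u)⁻¹ *
      ((f u)⁻¹ * g u)⁻¹ =
      x⁻¹ * ((x⁻¹ * g x)⁻¹ * (((f u)⁻¹ * g u) * (x⁻¹ * g x)) * f u * x) * (f u)⁻¹ *
        ((f u)⁻¹ * g u)⁻¹ := by group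
  rw [this, ← k5]
  have : x⁻¹ * ((x⁻¹ * g x)⁻¹ * ((x⁻¹ * g x) * ((f u)⁻¹ * g u)) * f u * x) * (f u)⁻¹ *
      ((f u)⁻¹ * g u)⁻¹ =
      x⁻¹ * (((f u)⁻¹ * g u) * f u) * x * (f u)⁻¹ * ((f u)⁻¹ * g u)⁻¹ := by group
  rw [this, ← k2]
  have : x⁻¹ * (f u * ((f u)⁻¹ * g u)) * x * (f u)⁻¹ * ((f u)⁻¹ * g u)⁻¹ =
      x⁻¹ * f u * (((f u)⁻¹ * g u) * x) * (f u)⁻¹ * ((f u)⁻¹ * g u)⁻¹ := by group
  rw [this, ← k3]
  have : x⁻¹ * f u * (x * ((f u)⁻¹ * g u)) * (f u)⁻¹ * ((f u)⁻¹ * g u)⁻¹ =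
      x⁻¹ * f u * x * (((f u)⁻¹ * g u) * (f u)⁻¹) * ((f u)⁻¹ * g u)⁻¹ := by group
  rw [this]
  have k6 : ((f u)⁻¹ * g u) * (f u)⁻¹ = (f u)⁻¹ * ((f u)⁻¹ * g u) :=
    (c1 _ (S.inv_mem hfu)).symm
  rw [k6]
  group

/-- Step C: if `hyp(F) = S`, such an element is central in `S`. -/
lemma grun_stepC [Finite S] {p : ℕ} [Fact p.Prime] (hS : IsPGroup p S) (hF : F.IsSaturated p)
    (hperf : F.hyperfocalSubgroup p = S)
    (hE : F.IsFactorSystem F.center θ E) {Q' : Subgroup Ω'} (hQ' : E.IsCentral Q') {x : Ω}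
    (hx : x ∈ preimageAlong θ Q') : ∀ s ∈ S, s * x = x * s := by
  have hZc : F.IsCentral F.center := isCentral_center F
  have hxS : x ∈ S := (mem_preimageAlong_iff.1 hx).1
  have hle : F.hyperfocalSubgroup p ≤ Subgroup.centralizer ({x} : Set Ω) := by
    unfold hyperfocalSubgroup
    rw [Subgroup.closure_le]
    rintro _ ⟨P, α, u, hPS, -, rfl⟩
    have hαm : Mor F P (autFun P (α : MulAut P)) := (mem_autGroup_iff hPS _).1 α.2
    have hB := grun_stepB hS hF hE hQ' hαm u.2 hx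
    rw [autFun_apply] at hB
    have hc : x⁻¹ * (u : Ω) * x * (u : Ω)⁻¹ ∈ F.center := by
      have h3 := grun_stepA hS hF hE hQ' (Mor.conj F (le_refl S) (S.inv_mem (hPS u.2))) hxS hx
      have e : x⁻¹ * ((u : Ω)⁻¹ * x * (u : Ω)⁻¹⁻¹) =
          (u : Ω)⁻¹ * (x⁻¹ * (u : Ω) * x * (u : Ω)⁻¹)⁻¹ * (u : Ω) := by group
      rw [e] at h3
      have h4 := stronglyClosed_conj_mem (central_stronglyClosed hZc) (hPS u.2) h3
      have e2 : (u : Ω) * ((u : Ω)⁻¹ * (x⁻¹ * (u : Ω) * x * (u : Ω)⁻¹)⁻¹ * (u : Ω)) * (u : Ω)⁻¹ =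
          (x⁻¹ * (u : Ω) * x * (u : Ω)⁻¹)⁻¹ := by group
      rw [e2] at h4
      simpa using F.center.inv_mem h4
    have hcu : (u : Ω) * (x⁻¹ * (u : Ω) * x * (u : Ω)⁻¹) = (x⁻¹ * (u : Ω) * x * (u : Ω)⁻¹) * (u : Ω) :=
      F.center_le_centralizer hc _ (hPS u.2)
    rw [SetLike.mem_coe, Subgroup.mem_centralizer_iff]
    intro y hy
    rw [Set.mem_singleton_iff] at hy
    subst hy
    -- `y * (u⁻¹ α(u)) = (u⁻¹ α(u)) * y`
    have e1 : y⁻¹ * (((α : MulAut P) u : P) : Ω) * y =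
        (y⁻¹ * (u : Ω) * y * (u : Ω)⁻¹) * (((α : MulAut P) u : P) : Ω) := by
      rw [← hB]; group
    have e2 : y⁻¹ * (u : Ω) * y = (y⁻¹ * (u : Ω) * y * (u : Ω)⁻¹) * (u : Ω) := by group
    have e3 : y⁻¹ * ((u : Ω)⁻¹ * (((α : MulAut P) u : P) : Ω)) * y =
        (y⁻¹ * (u : Ω) * y)⁻¹ * (y⁻¹ * (((α : MulAut P) u : P) : Ω) * y) := by group
    have e4 : y⁻¹ * ((u : Ω)⁻¹ * (((α : MulAut P) u : P) : Ω)) * y =
        (u : Ω)⁻¹ * (((α : MulAut P) u : P) : Ω) := by
      rw [e3, e1, e2]; group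
    calc y * ((u : Ω)⁻¹ * (((α : MulAut P) u : P) : Ω))
        = y * (y⁻¹ * ((u : Ω)⁻¹ * (((α : MulAut P) u : P) : Ω)) * y) := by rw [e4]
      _ = (u : Ω)⁻¹ * (((α : MulAut P) u : P) : Ω) * y := by group
  rw [hperf] at hle
  intro s hs
  have := Subgroup.mem_centralizer_iff.1 (hle hs) x (Set.mem_singleton x)
  exact this.symm

/-- Step D: if `hyp(F) = S`, the preimage of a central subgroup of `F/Z(F)` is central in `F`. -/
lemma grun_stepD [Finite S] {p : ℕ} [Fact p.Prime] (hS : IsPGroup p S) (hF : F.IsSaturated p)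
    (hperf : F.hyperfocalSubgroup p = S)
    (hE : F.IsFactorSystem F.center θ E) {Q' : Subgroup Ω'} (hQ' : E.IsCentral Q') :
    F.IsCentral (preimageAlong θ Q') := by
  have hZc : F.IsCentral F.center := isCentral_center F
  have hZ₂S : preimageAlong θ Q' ≤ S := preimageAlong_le θ Q'
  have hp : p.Prime := Fact.out
  have key : ∀ R : Subgroup Ω, (R = S ∨ F.IsEssential p R) → preimageAlong θ Q' ≤ R ∧
      ∀ α ∈ F.autGroup R, imgS (preimageAlong θ Q') (autFun R α) = preimageAlong θ Q' ∧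
        (True → ∀ x ∈ preimageAlong θ Q', autFun R α x = x) := by
    intro R hR
    have hcen : F.IsCentric R := by
      rcases hR with rfl | h
      · exact centric_top F
      · exact h.1
    have hfn : F.IsFullyNormalized R := by
      rcases hR with rfl | h
      · refine ⟨le_rfl, fun Q _ => ?_⟩
        have hle : normalizerIn R Q ≤ normalizerIn R R := fun x hx => ⟨hx.1, Subgroup.le_normalizer hx.1⟩
        have : Finite (normalizerIn R R) := finite_of_le (S := R) inf_le_left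
        exact Nat.card_le_card_of_injective (Subgroup.inclusion hle) (Subgroup.inclusion_injective hle)
      · exact h.2.1
    have hRS : R ≤ S := hcen.1
    have hZ₂R : preimageAlong θ Q' ≤ R := by
      intro x hx
      apply hcen.2 R (isConj_refl F hRS)
      rw [mem_centralizerIn_iff]
      exact ⟨hZ₂S hx, fun y hy => grun_stepC hS hF hperf hE hQ' hx y (hRS hy)⟩
    have hfinR : Finite R := finite_of_le hRS
    have hfinA : Finite (F.autGroup R) := inferInstance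
    obtain ⟨-, -, P₀, hP₀⟩ := saturated_fullyNormalized hS hF hfn
    have hfix : ∀ α ∈ F.autGroup R, ∀ x ∈ preimageAlong θ Q', autFun R α x = x := by
      intro α hα x hx
      have hxR : x ∈ R := hZ₂R hx
      -- the stabilizer of `x` in `Aut_F(R)`
      have htop : (⟨α, hα⟩ : F.autGroup R) ∈ pResidual p (F.autGroup R) ⊔ (P₀ : Subgroup (F.autGroup R)) := by
        rw [pResidual_sup_sylow p P₀]
        exact Subgroup.mem_top _
      have hle : pResidual p (F.autGroup R) ⊔ (P₀ : Subgroup (F.autGroup R)) ≤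
          MulAction.stabilizer (F.autGroup R) (⟨x, hxR⟩ : R) := by
        apply sup_le
        · unfold pResidual
          rw [Subgroup.closure_le]
          intro g hg
          have hg' : Nat.Coprime (orderOf g) p := hg
          rw [SetLike.mem_coe, MulAction.mem_stabilizer_iff]
          -- `δ = x⁻¹ g(x) ∈ Z(F)`
          have hgm : Mor F R (autFun R (g : MulAut R)) := (mem_autGroup_iff hRS _).1 g.2
          have hδ := grun_stepA hS hF hE hQ' hgm hxR hx
          rw [autFun_of_mem _ hxR] at hδ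
          have hpow : ∀ i : ℕ, ((((g : MulAut R) ^ i) ⟨x, hxR⟩ : R) : Ω) =
              x * (x⁻¹ * (((g : MulAut R) ⟨x, hxR⟩ : R) : Ω)) ^ i := by
            intro i
            induction i with
            | zero => simp
            | succ i ih =>
              have hδR : (x⁻¹ * (((g : MulAut R) ⟨x, hxR⟩ : R) : Ω)) ^ i ∈ R :=
                R.pow_mem (R.mul_mem (R.inv_mem hxR) (SetLike.coe_mem _)) i
              have hδZ : (x⁻¹ * (((g : MulAut R) ⟨x, hxR⟩ : R) : Ω)) ^ i ∈ F.center :=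
                F.center.pow_mem hδ i
              have e1 : ((g : MulAut R) ^ i) ⟨x, hxR⟩ =
                  ⟨x, hxR⟩ * ⟨(x⁻¹ * (((g : MulAut R) ⟨x, hxR⟩ : R) : Ω)) ^ i, hδR⟩ :=
                Subtype.ext ih
              rw [pow_succ', MulAut.mul_apply, e1, map_mul]
              have e2 := central_fixed' hZc hgm hδR hδZ
              rw [autFun_of_mem _ hδR] at e2
              show (((g : MulAut R) ⟨x, hxR⟩ : R) : Ω) * (((g : MulAut R)
                ⟨(x⁻¹ * (((g : MulAut R) ⟨x, hxR⟩ : R) : Ω)) ^ i, hδR⟩ : R) : Ω) = _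
              rw [e2, pow_succ', ← mul_assoc, mul_inv_cancel_left]
          have h1 := hpow (orderOf (g : MulAut R))
          rw [pow_orderOf_eq_one] at h1
          have h2 : (x⁻¹ * (((g : MulAut R) ⟨x, hxR⟩ : R) : Ω)) ^ (orderOf (g : MulAut R)) = 1 := by
            have : x = x * (x⁻¹ * (((g : MulAut R) ⟨x, hxR⟩ : R) : Ω)) ^ (orderOf (g : MulAut R)) := h1
            exact (mul_left_cancel (a := x) (by rw [mul_one]; exact this)).symm
          obtain ⟨k, hk⟩ := hS ⟨x⁻¹ * (((g : MulAut R) ⟨x, hxR⟩ : R) : Ω),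
            S.mul_mem (S.inv_mem (hRS hxR)) (hRS (SetLike.coe_mem _))⟩
          have hk' : (x⁻¹ * (((g : MulAut R) ⟨x, hxR⟩ : R) : Ω)) ^ (p ^ k) = 1 :=
            congrArg Subtype.val hk
          have hd1 := orderOf_dvd_of_pow_eq_one h2
          have hd2 := orderOf_dvd_of_pow_eq_one hk'
          rw [Subgroup.orderOf_coe] at hd1
          have hcop : Nat.Coprime (orderOf g) (p ^ k) := Nat.Coprime.pow_right k hg'
          have h3 : orderOf (x⁻¹ * (((g : MulAut R) ⟨x, hxR⟩ : R) : Ω)) = 1 :=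
            Nat.eq_one_of_dvd_coprimes hcop hd1 hd2
          have h4 : x⁻¹ * (((g : MulAut R) ⟨x, hxR⟩ : R) : Ω) = 1 := orderOf_eq_one_iff.1 h3
          apply Subtype.ext
          show (((g : MulAut R) ⟨x, hxR⟩ : R) : Ω) = x
          exact (inv_mul_eq_one.1 h4).symm
        · rw [hP₀]
          intro g hg
          rw [MulAction.mem_stabilizer_iff]
          obtain ⟨s, hs, H⟩ := (mem_autInducedBy_iff S R _).1 (Subgroup.mem_subgroupOf.1 hg)
          apply Subtype.ext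
          show (((g : MulAut R) ⟨x, hxR⟩ : R) : Ω) = x
          rw [H, grun_stepC hS hF hperf hE hQ' hx s hs]
          group
      have h5 := hle htop
      rw [MulAction.mem_stabilizer_iff] at h5
      rw [autFun_of_mem _ hxR]
      exact congrArg Subtype.val h5
    refine ⟨hZ₂R, fun α hα => ⟨?_, fun _ => hfix α hα⟩⟩
    have hαm : Mor F R (autFun R α) := (mem_autGroup_iff hRS α).1 hα
    have hfinZ : Finite (preimageAlong θ Q') := finite_of_le hZ₂S
    exact imgS_eq_of_maps (hαm.restrict hZ₂R) (fun x hx => by rw [hfix α hα x hx]; exact hx)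
  rw [isCentral_iff]
  refine ⟨hZ₂S, fun P f hf => ?_⟩
  obtain ⟨f', hf', h1, -, h2⟩ := alperin_ext hS hF (preimageAlong θ Q') True key P f hf
  exact ⟨f', hf', h1, h2 trivial⟩

/-- **Grün's lemma for fusion systems**: if `hyp(F) = S` then `F/Z(F)` has trivial centre. -/
theorem grun_center_eq_bot [Finite S] {p : ℕ} [Fact p.Prime] (hS : IsPGroup p S)
    (hF : F.IsSaturated p) (hperf : F.hyperfocalSubgroup p = S)
    (hE : F.IsFactorSystem F.center θ E) : E.center = ⊥ := by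
  unfold FusionSystem.center
  rw [eq_bot_iff]
  apply sSup_le
  intro Q' hQ'
  have hcen : F.IsCentral (preimageAlong θ Q') := grun_stepD hS hF hperf hE hQ'
  have hle : preimageAlong θ Q' ≤ F.center := le_sSup hcen
  intro y hy
  obtain ⟨x, hxS, rfl⟩ := exists_tot_eq hE (hQ'.1 hy)
  have hx : x ∈ preimageAlong θ Q' := mem_preimageAlong_iff.2 ⟨hxS, hy⟩
  rw [Subgroup.mem_bot]
  exact (tot_eq_one_iff hE hxS).2 (hle hx)

end

end Cfsg.Agent.H88
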