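import Mathlib
import Cfsg.Prelude.Def_FusionSystem
import Cfsg.Prelude.Def_Spor_J2

set_option autoImplicit false

/-!
helper88: statement file for the team project S5321 (the 2-fusion system of the Hall-Janko group
is simple). Everything is stated for an arbitrary finite group `G` carrying a `JData`: an
involution `z` whose centralizer `C` has a normal subgroup `R` of order 32 with centre `{1, z}`,
all squares in `{1, z}`, `C / R` isomorphic to `A5`, an element of `C` which does not act on `R`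
as an inner automorphism, and a conjugate of `z` in `R` other than `z`.
-/

namespace Cfsg.Agent.H88.JF

universe u

/-- The data. `φ` is a surjection of the centralizer of `z` onto `A5` with kernel `R`. -/
structure JData (G : Type u) [Group G] where
  z : G
  R : Subgroup G
  φ : ↥(Subgroup.centralizer ({z} : Set G)) →* alternatingGroup (Fin 5)
  hz1 : z ≠ 1
  hz2 : z * z = 1
  hzR : z ∈ R
  hcard : Nat.card R = 32
  hcen : ∀ c ∈ R, (∀ a ∈ R, a * c = c * a) → c = 1 ∨ c = z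
  hsq : ∀ a ∈ R, a * a = 1 ∨ a * a = z
  hsurj : Function.Surjective φ
  hker : ∀ c : ↥(Subgroup.centralizer ({z} : Set G)), φ c = 1 ↔ (c : G) ∈ R
  hRC : R ≤ Subgroup.centralizer ({z} : Set G)
  hW : ∃ c : G, c * z = z * c ∧ ∃ a ∈ R, c * a * c⁻¹ ≠ a ∧ c * a * c⁻¹ ≠ z * a
  hFu : ∃ g : G, g * z * g⁻¹ ∈ R ∧ g * z * g⁻¹ ≠ z

/-- (CR) `R` is self-centralizing in `G`. -/
def StmtCR : Prop :=
  ∀ (G : Type u) [Group G] [Finite G] (D : JData G),
    Subgroup.centralizer (D.R : Set G) ≤ D.R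

/-- (GEN) the normalizer of `R` is generated by its 2-elements. -/
def StmtGEN : Prop :=
  ∀ (G : Type u) [Group G] [Finite G] (D : JData G),
    ∀ g ∈ Subgroup.normalizer (D.R : Set G),
      g ∈ Subgroup.closure {y : G | y ∈ Subgroup.normalizer (D.R : Set G) ∧
        ∃ k : ℕ, orderOf y = 2 ^ k}

/-- (NZ) a 2-subgroup `S` containing `R` has centre `{1, z}`: it and its normalizer centralize
`z`, and every nontrivial normal subgroup of `S` contains `z`. -/
def StmtNZ : Prop :=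
  ∀ (G : Type u) [Group G] [Finite G] (D : JData G),
    Subgroup.centralizer (D.R : Set G) ≤ D.R →
    ∀ S : Subgroup G, IsPGroup 2 S → D.R ≤ S →
      S ≤ Subgroup.centralizer ({D.z} : Set G) ∧
      Subgroup.normalizer (S : Set G) ≤ Subgroup.centralizer ({D.z} : Set G) ∧
      ∀ T : Subgroup G, T ≤ S → T ≠ ⊥ → (∀ s ∈ S, ∀ t ∈ T, s * t * s⁻¹ ∈ T) → D.z ∈ T

/-- (IRR) a subgroup of `R` properly containing `{1, z}` and normalized by the centralizer of
`z` is `R`. -/
def StmtIRR : Prop :=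
  ∀ (G : Type u) [Group G] [Finite G] (D : JData G),
    Subgroup.centralizer (D.R : Set G) ≤ D.R →
    ∀ M : Subgroup G, M ≤ D.R → D.z ∈ M → (∃ m ∈ M, m ≠ 1 ∧ m ≠ D.z) →
      (∀ c : G, c * D.z = D.z * c → ∀ m ∈ M, c * m * c⁻¹ ∈ M) → D.R ≤ M

/-- (X1) in a group of order 32 with centre `{1, z}` and all squares in `{1, z}`, the centralizer
of a noncentral element is nonabelian. -/
def StmtX1 : Prop :=
  ∀ (P : Type u) [Group P] (z : P), Nat.card P = 32 → (∀ a : P, a * z = z * a) →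
    (∀ c : P, (∀ a : P, a * c = c * a) → c = 1 ∨ c = z) →
    (∀ a : P, a * a = 1 ∨ a * a = z) →
    ∀ w : P, w ≠ 1 → w ≠ z →
      ∃ a b : P, a * w = w * a ∧ b * w = w * b ∧ a * b * a⁻¹ * b⁻¹ = z

/-- (A5AB) the 2-subgroups of `A5` are abelian. -/
def StmtA5AB : Prop :=
  ∀ P : Subgroup (alternatingGroup (Fin 5)), IsPGroup 2 P → ∀ x ∈ P, ∀ y ∈ P, x * y = y * x

/-- (A5INV) the nontrivial 2-elements of `A5` are conjugate. -/
def StmtA5INV : Prop :=
  ∀ σ τ : alternatingGroup (Fin 5), σ ≠ 1 → τ ≠ 1 → (∃ k : ℕ, σ ^ 2 ^ k = 1) →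
    (∃ k : ℕ, τ ^ 2 ^ k = 1) → ∃ n : alternatingGroup (Fin 5), n * σ * n⁻¹ = τ

/-- (F1) if a conjugate `g z g⁻¹ ≠ z` lies in `R`, then `g⁻¹ z g` lies in `R`. -/
def StmtF1 : Prop :=
  ∀ (G : Type u) [Group G] [Finite G] (D : JData G),
    (∀ w ∈ D.R, w ≠ 1 → w ≠ D.z → ∃ a ∈ D.R, ∃ b ∈ D.R,
      a * w = w * a ∧ b * w = w * b ∧ a * b * a⁻¹ * b⁻¹ = D.z) →
    (∀ P : Subgroup (alternatingGroup (Fin 5)), IsPGroup 2 P →
      ∀ x ∈ P, ∀ y ∈ P, x * y = y * x) →
    ∀ g : G, g * D.z * g⁻¹ ∈ D.R → g * D.z * g⁻¹ ≠ D.z → g⁻¹ * D.z * g ∈ D.R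

/-- (J2) the Hall-Janko group carries such data (`z` the image of a reflection). -/
def StmtJ2 : Prop := Nonempty (JData.{0} Cfsg.Spor.J2)

/-- The abstract theorem. -/
def StmtMain : Prop :=
  ∀ (G : Type u) [Group G] [Finite G] (_D : JData G),
    ∃ S : Sylow 2 G, (Cfsg.groupFusionSystem (S : Subgroup G)).IsSimple 2

end Cfsg.Agent.H88.JF
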