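import Cfsg.Agent.H88.JcW4a

/-!
# W4: the four-group clause, from the abstract core
-/

set_option autoImplicit false
open Cfsg

namespace Cfsg.Agent.H88.Jc

universe u

theorem w4 (hCore : StCore.{u}) : StW4.{u} := by
  intro G _ _ T A K hT hAT hAc hA2 hAmax hQT h3 hAK a haA hex
  obtain ⟨k, hkK, hak⟩ := hex
  classical
  set Q := pCoreOf 2 K with hQdef
  set U := omegaCenterOf Q with hUdef
  have hQK : Q ≤ K := Cfsg.Agent.H51.pCoreOf_le 2 K
  have hKNQ : K ≤ Subgroup.normalizer (Q : Set G) := Cfsg.Agent.H51.le_normalizer_pCoreOf 2 K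
  have hANQ : A ≤ Subgroup.normalizer (Q : Set G) := hAK.trans (pcore_normalizer K)
  have hNU : Subgroup.normalizer (Q : Set G) ≤ Subgroup.normalizer (U : Set G) :=
    omega_normalizer Q
  have hKN : K ≤ Subgroup.normalizer (U : Set G) := hKNQ.trans hNU
  have hAN : A ≤ Subgroup.normalizer (U : Set G) := hANQ.trans hNU
  have hUQ : U ≤ Q := omega_le' Q
  have hkQ : k ∉ Q := by
    intro hk
    apply hak
    have h1 : a * k * a⁻¹ ∈ Q := (Subgroup.mem_normalizer_iff.mp (hANQ haA) k).mp hk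
    exact mul_mem h1 (inv_mem hk)
  have hQtriv : ∀ (q : G) (hq : q ∈ Q) (hqN : q ∈ Subgroup.normalizer (U : Set G)),
      cj U ⟨q, hqN⟩ = 1 := by
    intro q hq hqN
    ext u
    rw [cj_apply]
    simp only [MulAut.one_apply]
    have := omega_comm Q u.2 hq
    calc q * (u : G) * q⁻¹ = (u : G) * q * q⁻¹ := by rw [this]
      _ = u := by group
  have hUsq : ∀ m : ↥U, m * m = 1 := by
    intro m
    ext
    simpa using omega_sq Q m.2
  set kk : ↥(Subgroup.normalizer (U : Set G)) := ⟨k, hKN hkK⟩ with hkk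
  set ξ : MulAut ↥U := cj U kk with hξ
  have hk3 : k ^ 3 ∈ Q := cube_mem K Q hQK hKNQ h3 hkK
  have hξ3 : ξ ^ 3 = 1 := by
    have h1 : ξ ^ 3 = cj U (kk ^ 3) := (map_pow (cj U) kk 3).symm
    have e : kk ^ 3 = ⟨k ^ 3, hKN (pow_mem hkK 3)⟩ := by
      ext; simp [hkk]
    rw [h1, e]
    exact hQtriv _ hk3 _
  have hconj : ∀ (b : G) (hb : b ∈ A),
      (b * k * b⁻¹ * k⁻¹ ∈ Q ∧ cj U ⟨b, hAN hb⟩ * ξ * (cj U ⟨b, hAN hb⟩)⁻¹ = ξ) ∨
      (b * k * b⁻¹ * k⁻¹ ∉ Q ∧ cj U ⟨b, hAN hb⟩ * ξ * (cj U ⟨b, hAN hb⟩)⁻¹ = ξ⁻¹) := by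
    intro b hb
    have hbK : b * k * b⁻¹ ∈ K := (Subgroup.mem_normalizer_iff.mp (hAK hb) k).mp hkK
    have hbnQ : b * k * b⁻¹ ∉ Q := by
      intro h
      apply hkQ
      exact (Subgroup.mem_normalizer_iff.mp (hANQ hb) k).mpr h
    have e0 : cj U ⟨b, hAN hb⟩ * ξ * (cj U ⟨b, hAN hb⟩)⁻¹ = cj U ⟨b * k * b⁻¹, hKN hbK⟩ := by
      rw [hξ, ← map_inv, ← map_mul, ← map_mul]
      congr 1
    rcases tri K Q hQK hKNQ h3 hkK hkQ hbK with h | h | h
    · exact absurd h hbnQ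
    · left
      refine ⟨h, ?_⟩
      rw [e0]
      have e1 : (⟨b * k * b⁻¹, hKN hbK⟩ : ↥(Subgroup.normalizer (U : Set G))) =
          ⟨b * k * b⁻¹ * k⁻¹, hKN (hQK h)⟩ * kk := by
        ext; simp [hkk]
      rw [e1, map_mul, hQtriv _ h _, one_mul]
    · right
      have hn : b * k * b⁻¹ * k⁻¹ ∉ Q := by
        intro h'
        have hkk2 : k * k ∈ Q := by
          have := mul_mem (inv_mem h') h
          have e : (b * k * b⁻¹ * k⁻¹)⁻¹ * (b * k * b⁻¹ * k) = k * k := by group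
          rwa [e] at this
        apply hkQ
        have e : k = k ^ 3 * (k * k)⁻¹ := by group
        rw [e]; exact mul_mem hk3 (inv_mem hkk2)
      refine ⟨hn, ?_⟩
      rw [e0]
      have e1 : (⟨b * k * b⁻¹, hKN hbK⟩ : ↥(Subgroup.normalizer (U : Set G))) =
          ⟨b * k * b⁻¹ * k, hKN (hQK h)⟩ * kk⁻¹ := by
        ext; simp [hkk]
      rw [e1, map_mul, hQtriv _ h _, one_mul, map_inv]
  -- the image of A
  set 𝔸 : Subgroup (MulAut ↥U) :=
    (A.subgroupOf (Subgroup.normalizer (U : Set G))).map (cj U) with h𝔸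
  have hmem : ∀ σ : MulAut ↥U, σ ∈ 𝔸 ↔ ∃ b, ∃ hb : b ∈ A, cj U ⟨b, hAN hb⟩ = σ := by
    intro σ
    constructor
    · rintro ⟨n, hn, rfl⟩
      exact ⟨n.1, Subgroup.mem_subgroupOf.mp hn, rfl⟩
    · rintro ⟨b, hb, rfl⟩
      exact ⟨⟨b, hAN hb⟩, Subgroup.mem_subgroupOf.mpr hb, rfl⟩
  have h𝔸comm : ∀ σ ∈ 𝔸, ∀ τ ∈ 𝔸, σ * τ = τ * σ := by
    intro σ hσ τ hτ
    obtain ⟨b, hb, rfl⟩ := (hmem σ).mp hσ
    obtain ⟨c, hc, rfl⟩ := (hmem τ).mp hτ
    rw [← map_mul, ← map_mul]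
    congr 1
    ext
    exact hAc b hb c hc
  have h𝔸sq : ∀ σ ∈ 𝔸, σ * σ = 1 := by
    intro σ hσ
    obtain ⟨b, hb, rfl⟩ := (hmem σ).mp hσ
    rw [← map_mul]
    have : (⟨b, hAN hb⟩ : ↥(Subgroup.normalizer (U : Set G))) * ⟨b, hAN hb⟩ = 1 := by
      ext
      exact hA2 b hb
    rw [this, map_one]
  have h𝔸ξ : ∀ σ ∈ 𝔸, σ * ξ * σ⁻¹ = ξ ∨ σ * ξ * σ⁻¹ = ξ⁻¹ := by
    intro σ hσ
    obtain ⟨b, hb, rfl⟩ := (hmem σ).mp hσ
    rcases hconj b hb with h | h
    · exact Or.inl h.2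
    · exact Or.inr h.2
  have h𝔸α : ∃ α ∈ 𝔸, α * ξ * α⁻¹ = ξ⁻¹ := by
    refine ⟨cj U ⟨a, hAN haA⟩, (hmem _).mpr ⟨a, haA, rfl⟩, ?_⟩
    rcases hconj a haA with h | h
    · exact absurd h.1 hak
    · exact h.2
  -- the best-offender inequality
  have hBO : ∀ 𝔅 : Subgroup (MulAut ↥U), 𝔅 ≤ 𝔸 →
      Nat.card ↥(fix (𝔅 : Set (MulAut ↥U))) ≤
        𝔅.relIndex 𝔸 * Nat.card ↥(fix (𝔸 : Set (MulAut ↥U))) := by
    intro 𝔅 h𝔅
    set A' : Subgroup ↥(Subgroup.normalizer (U : Set G)) :=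
      A.subgroupOf (Subgroup.normalizer (U : Set G)) with hA'
    set B' : Subgroup ↥(Subgroup.normalizer (U : Set G)) := 𝔅.comap (cj U) ⊓ A' with hB'
    set B : Subgroup G := B'.map (Subgroup.normalizer (U : Set G)).subtype with hB
    set C : Subgroup G := (fix (𝔅 : Set (MulAut ↥U))).map U.subtype with hC
    have hBmem : ∀ x ∈ B, ∃ hx : x ∈ A, cj U ⟨x, hAN hx⟩ ∈ 𝔅 := by
      rintro x ⟨n, hn, rfl⟩
      exact ⟨Subgroup.mem_subgroupOf.mp hn.2, hn.1⟩
    have hCmem : ∀ c ∈ C, ∃ hc : c ∈ U, ∀ σ ∈ 𝔅, σ ⟨c, hc⟩ = ⟨c, hc⟩ := by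
      rintro c ⟨w, hw, rfl⟩
      exact ⟨w.2, fun σ hσ => hw σ hσ⟩
    have hBC : ∀ x ∈ B, ∀ c ∈ C, x * c = c * x := by
      intro x hx c hc
      obtain ⟨hxA, hx𝔅⟩ := hBmem x hx
      obtain ⟨hcU, hcfix⟩ := hCmem c hc
      have := congrArg (fun w : ↥U => (w : G)) (hcfix _ hx𝔅)
      simp only [cj_apply] at this
      calc x * c = x * c * x⁻¹ * x := by group
        _ = c * x := by rw [this]
    have hBA : B ≤ A := fun x hx => (hBmem x hx).1
    have hCU : C ≤ U := fun c hc => (hCmem c hc).1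
    have hgen : ∀ x ∈ (B : Set G) ∪ C, ∀ y ∈ (B : Set G) ∪ C, x * y = y * x := by
      intro x hx y hy
      rcases hx with hx | hx <;> rcases hy with hy | hy
      · exact hAc x (hBA hx) y (hBA hy)
      · exact hBC x hx y hy
      · exact (hBC y hy x hx).symm
      · have := omega_comm Q (hCU hy) (hUQ (hCU hx))
        exact this
    have hsup : B ⊔ C = Subgroup.closure ((B : Set G) ∪ C) := by
      rw [Subgroup.closure_union, Subgroup.closure_eq, Subgroup.closure_eq]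
    have hEcomm : ∀ x ∈ B ⊔ C, ∀ y ∈ B ⊔ C, x * y = y * x := by
      have h1 : (B : Set G) ∪ C ⊆ Subgroup.centralizer ((B : Set G) ∪ C) := by
        intro x hx
        rw [SetLike.mem_coe, Subgroup.mem_centralizer_iff]
        intro y hy
        exact hgen y hy x hx
      have h2 : Subgroup.closure ((B : Set G) ∪ C) ≤ Subgroup.centralizer ((B : Set G) ∪ C) :=
        (Subgroup.closure_le _).mpr h1
      have h3 : (B : Set G) ∪ C ⊆
          Subgroup.centralizer (Subgroup.closure ((B : Set G) ∪ C) : Set G) := by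
        intro x hx
        rw [SetLike.mem_coe, Subgroup.mem_centralizer_iff]
        intro y hy
        have := Subgroup.mem_centralizer_iff.mp (h2 hy) x hx
        exact this.symm
      have h4 : Subgroup.closure ((B : Set G) ∪ C) ≤
          Subgroup.centralizer (Subgroup.closure ((B : Set G) ∪ C) : Set G) :=
        (Subgroup.closure_le _).mpr h3
      intro x hx y hy
      rw [hsup] at hx hy
      exact (Subgroup.mem_centralizer_iff.mp (h4 hy) x hx)
    have hEsq : ∀ x ∈ B ⊔ C, x * x = 1 := by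
      intro x hx
      have hx' := hx
      rw [hsup] at hx'
      induction hx' using Subgroup.closure_induction with
      | mem y hy =>
        rcases hy with hy | hy
        · exact hA2 y (hBA hy)
        · exact omega_sq Q (hCU hy)
      | one => simp
      | mul y z hy hz ihy ihz =>
        have hy' : y ∈ B ⊔ C := by rw [hsup]; exact hy
        have hz' : z ∈ B ⊔ C := by rw [hsup]; exact hz
        have hc := hEcomm z hz' y hy'
        calc y * z * (y * z) = y * (z * y) * z := by group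
          _ = y * (y * z) * z := by rw [hc]
          _ = (y * y) * (z * z) := by group
          _ = 1 := by rw [ihy hy', ihz hz']; simp
      | inv y hy ih =>
        have hy' : y ∈ B ⊔ C := by rw [hsup]; exact hy
        have : y⁻¹ * y⁻¹ = (y * y)⁻¹ := by group
        rw [this, ih hy']; simp
    have hET : B ⊔ C ≤ T := sup_le (hBA.trans hAT) ((hCU.trans hUQ).trans hQT)
    have hmax := hAmax (B ⊔ C) hET hEcomm hEsq
    have hmul := card_mul_le B C
    have hinf : Nat.card ↥(B ⊓ C) ≤ Nat.card ↥(fix (𝔸 : Set (MulAut ↥U))) := by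
      have hle : B ⊓ C ≤ (fix (𝔸 : Set (MulAut ↥U))).map U.subtype := by
        intro x hx
        have hxA : x ∈ A := hBA hx.1
        have hxU : x ∈ U := hCU hx.2
        refine ⟨⟨x, hxU⟩, ?_, rfl⟩
        intro σ hσ
        obtain ⟨b, hb, rfl⟩ := (hmem σ).mp hσ
        ext
        rw [cj_apply]
        show b * x * b⁻¹ = x
        rw [hAc b hb x hxA]; group
      calc Nat.card ↥(B ⊓ C) ≤ Nat.card ↥((fix (𝔸 : Set (MulAut ↥U))).map U.subtype) :=
            Subgroup.card_le_of_le hle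
        _ = Nat.card ↥(fix (𝔸 : Set (MulAut ↥U))) :=
            Subgroup.card_map_of_injective U.subtype_injective
    have hCcard : Nat.card ↥C = Nat.card ↥(fix (𝔅 : Set (MulAut ↥U))) :=
      Subgroup.card_map_of_injective U.subtype_injective
    have hBcard : Nat.card ↥B = Nat.card ↥B' :=
      Subgroup.card_map_of_injective (Subgroup.subtype_injective _)
    have hAcard : Nat.card ↥A' = Nat.card ↥A :=
      Nat.card_congr (Subgroup.subgroupOfEquivOfLe hAN).toEquiv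
    have hrel : B'.relIndex A' = 𝔅.relIndex 𝔸 := by
      rw [hB', Subgroup.inf_relIndex_right, Subgroup.relIndex_comap]
    have hBA' : Nat.card ↥B' * B'.relIndex A' = Nat.card ↥A' := by
      have := Subgroup.relIndex_mul_relIndex (⊥ : Subgroup _) B' A' bot_le inf_le_right
      rwa [Subgroup.relIndex_bot_left, Subgroup.relIndex_bot_left] at this
    have hBpos : 0 < Nat.card ↥B := Nat.card_pos
    have hfin : Nat.card ↥B * Nat.card ↥(fix (𝔅 : Set (MulAut ↥U))) ≤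
        Nat.card ↥B * (𝔅.relIndex 𝔸 * Nat.card ↥(fix (𝔸 : Set (MulAut ↥U)))) := by
      calc Nat.card ↥B * Nat.card ↥(fix (𝔅 : Set (MulAut ↥U)))
          = Nat.card ↥B * Nat.card ↥C := by rw [hCcard]
        _ ≤ Nat.card ↥(B ⊔ C) * Nat.card ↥(B ⊓ C) := hmul
        _ ≤ Nat.card ↥A * Nat.card ↥(fix (𝔸 : Set (MulAut ↥U))) := Nat.mul_le_mul hmax hinf
        _ = Nat.card ↥B * (𝔅.relIndex 𝔸 * Nat.card ↥(fix (𝔸 : Set (MulAut ↥U)))) := by
            rw [← hAcard, ← hBA', hrel, hBcard]; ring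
    exact Nat.le_of_mul_le_mul_left hfin hBpos
  have hcore := hCore hUsq ξ hξ3 𝔸 h𝔸comm h𝔸sq h𝔸ξ h𝔸α hBO
  -- wOf K = image of comm ξ
  have hγ : ∀ (g : G) (hg : g ∈ K) (u : ↥U), u * (cj U ⟨g, hKN hg⟩ u)⁻¹ ∈ comm ξ := by
    intro g hg u
    rcases tri K Q hQK hKNQ h3 hkK hkQ hg with h | h | h
    · rw [hQtriv g h _]; simp
    · have e1 : (⟨g, hKN hg⟩ : ↥(Subgroup.normalizer (U : Set G))) =
          ⟨g * k⁻¹, hKN (hQK h)⟩ * kk := by
        ext; simp [hkk]
      rw [e1, map_mul, hQtriv _ h _, one_mul]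
      have : u * (ξ u)⁻¹ = (ξ u * u⁻¹)⁻¹ := by group
      rw [← hξ, this]
      exact inv_mem (Subgroup.subset_closure ⟨u, rfl⟩)
    · have e1 : (⟨g, hKN hg⟩ : ↥(Subgroup.normalizer (U : Set G))) =
          ⟨g * k, hKN (hQK h)⟩ * kk⁻¹ := by
        ext; simp [hkk]
      rw [e1, map_mul, hQtriv _ h _, one_mul, map_inv, ← hξ]
      have : u * (ξ⁻¹ u)⁻¹ = ξ (ξ⁻¹ u) * (ξ⁻¹ u)⁻¹ := by simp
      rw [this]
      exact Subgroup.subset_closure ⟨ξ⁻¹ u, rfl⟩
  have hW : wOf K = (comm ξ).map U.subtype := by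
    apply le_antisymm
    · show ⁅U, K⁆ ≤ _
      rw [Subgroup.commutator_le]
      intro u hu g hg
      refine ⟨⟨u, hu⟩ * (cj U ⟨g, hKN hg⟩ ⟨u, hu⟩)⁻¹, hγ g hg ⟨u, hu⟩, ?_⟩
      simp only [Subgroup.coe_subtype, Subgroup.coe_mul, Subgroup.coe_inv, cj_apply,
        commutatorElement_def]
      group
    · rw [Subgroup.map_le_iff_le_comap, comm, Subgroup.closure_le]
      rintro _ ⟨u, rfl⟩
      show ((ξ u * u⁻¹ : ↥U) : G) ∈ ⁅U, K⁆
      rw [Subgroup.commutator_comm]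
      have := Subgroup.commutator_mem_commutator hkK u.2
      simpa [commutatorElement_def, hξ, hkk, cj_apply] using this
  have hcard : Nat.card ↥(wOf K) = Nat.card ↥(comm ξ) := by
    rw [hW]
    exact Subgroup.card_map_of_injective U.subtype_injective
  rcases hcore with h1 | h4
  · left
    rw [← hcard] at h1
    exact Subgroup.eq_bot_of_card_eq _ h1
  · right
    refine ⟨by rw [hcard, h4], ?_⟩
    intro w hw
    rw [hW] at hw
    obtain ⟨v, _, rfl⟩ := hw
    exact omega_sq Q v.2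

end Cfsg.Agent.H88.Jc
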