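import Cfsg.Agent.H88.JcDefs
import Cfsg.Agent.H51.Amalgam

/-!
# Glue for W4, part a: conjugation action, `Ω₁(Z(Q))`, index-3 trichotomy
-/

set_option autoImplicit false
open Cfsg

namespace Cfsg.Agent.H88.Jc

universe u
variable {G : Type u} [Group G]

/-- Conjugation action of the normalizer of `H` on `H`. -/
def cj (H : Subgroup G) : ↥(Subgroup.normalizer (H : Set G)) →* MulAut ↥H where
  toFun g :=
    { toFun := fun u => ⟨(g : G) * u * (g : G)⁻¹, (Subgroup.mem_normalizer_iff.mp g.2 u).mp u.2⟩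
      invFun := fun u => ⟨(g : G)⁻¹ * u * (g : G), by
        have := (Subgroup.mem_normalizer_iff.mp (inv_mem g.2) u).mp u.2
        simpa using this⟩
      left_inv := fun u => by ext; simp [mul_assoc]
      right_inv := fun u => by ext; simp [mul_assoc]
      map_mul' := fun u v => by ext; simp [mul_assoc] }
  map_one' := by ext; simp
  map_mul' := fun g h => by ext; simp [mul_assoc]

theorem cj_apply (H : Subgroup G) (g : ↥(Subgroup.normalizer (H : Set G))) (u : ↥H) :
    ((cj H g u : ↥H) : G) = (g : G) * u * (g : G)⁻¹ := rfl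

theorem omega_le (Q : Subgroup G) :
    omegaCenterOf Q ≤ Q ⊓ Subgroup.centralizer (Q : Set G) := by
  unfold omegaCenterOf omegaOne
  rw [Subgroup.closure_le]
  intro x hx
  exact hx.1

theorem omega_le' (Q : Subgroup G) : omegaCenterOf Q ≤ Q := fun _ hx => (omega_le Q hx).1

theorem omega_comm (Q : Subgroup G) {u q : G} (hu : u ∈ omegaCenterOf Q) (hq : q ∈ Q) :
    q * u = u * q := by
  have h2 : u ∈ Subgroup.centralizer (Q : Set G) := (omega_le Q hu).2
  exact Subgroup.mem_centralizer_iff.mp h2 q hq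

theorem omega_sq (Q : Subgroup G) {u : G} (hu : u ∈ omegaCenterOf Q) : u * u = 1 := by
  have hmem : ∀ x ∈ omegaCenterOf Q, x ∈ Q ⊓ Subgroup.centralizer (Q : Set G) :=
    fun x hx => omega_le Q hx
  unfold omegaCenterOf omegaOne at hu
  induction hu using Subgroup.closure_induction with
  | mem x hx => have := hx.2; rwa [pow_two] at this
  | one => simp
  | mul x y hx hy ihx ihy =>
    have hxm : x ∈ Q ⊓ Subgroup.centralizer (Q : Set G) := by
      have : x ∈ omegaCenterOf Q := hx
      exact hmem x this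
    have hym : y ∈ Q ⊓ Subgroup.centralizer (Q : Set G) := by
      have : y ∈ omegaCenterOf Q := hy
      exact hmem y this
    have hc : y * x = x * y := by
      have h2 : x ∈ Subgroup.centralizer (Q : Set G) := hxm.2
      exact Subgroup.mem_centralizer_iff.mp h2 y hym.1
    calc x * y * (x * y) = x * (y * x) * y := by group
      _ = x * (x * y) * y := by rw [hc]
      _ = (x * x) * (y * y) := by group
      _ = 1 := by rw [ihx, ihy]; simp
  | inv x hx ih =>
    have : x⁻¹ * x⁻¹ = (x * x)⁻¹ := by group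
    rw [this, ih]; simp

/-- The normalizer of `Q` normalizes `Ω₁(Z(Q))`. -/
theorem omega_normalizer (Q : Subgroup G) :
    Subgroup.normalizer (Q : Set G) ≤ Subgroup.normalizer (omegaCenterOf Q : Set G) := by
  have key : ∀ g : G, g ∈ Subgroup.normalizer (Q : Set G) → ∀ u ∈ omegaCenterOf Q, g * u * g⁻¹ ∈ omegaCenterOf Q := by
    intro g hg u hu
    unfold omegaCenterOf omegaOne at hu ⊢
    induction hu using Subgroup.closure_induction with
    | mem x hx =>
      apply Subgroup.subset_closure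
      refine ⟨⟨(Subgroup.mem_normalizer_iff.mp hg x).mp hx.1.1, ?_⟩, ?_⟩
      · show g * x * g⁻¹ ∈ Subgroup.centralizer (Q : Set G)
        rw [Subgroup.mem_centralizer_iff]
        intro q hq
        have hq' : g⁻¹ * q * g ∈ Q := by
          have := (Subgroup.mem_normalizer_iff.mp (inv_mem hg) q).mp hq
          simpa using this
        have hc : x ∈ Subgroup.centralizer (Q : Set G) := hx.1.2
        have h1 := Subgroup.mem_centralizer_iff.mp hc _ hq'
        calc q * (g * x * g⁻¹) = g * ((g⁻¹ * q * g) * x) * g⁻¹ := by group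
          _ = g * (x * (g⁻¹ * q * g)) * g⁻¹ := by rw [h1]
          _ = g * x * g⁻¹ * q := by group
      · have := hx.2
        calc (g * x * g⁻¹) ^ 2 = g * x ^ 2 * g⁻¹ := by rw [pow_two, pow_two]; group
          _ = 1 := by rw [this]; group
    | one => simp
    | mul x y _ _ ihx ihy =>
      have : g * (x * y) * g⁻¹ = (g * x * g⁻¹) * (g * y * g⁻¹) := by group
      rw [this]; exact mul_mem ihx ihy
    | inv x _ ih =>
      have : g * x⁻¹ * g⁻¹ = (g * x * g⁻¹)⁻¹ := by group
      rw [this]; exact inv_mem ih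
  intro g hg
  rw [Subgroup.mem_normalizer_iff]
  intro h
  refine ⟨fun hh => key g hg h hh, fun hh => ?_⟩
  have := key g⁻¹ (inv_mem hg) _ hh
  have e : g⁻¹ * (g * h * g⁻¹) * g⁻¹⁻¹ = h := by group
  rwa [e] at this

/-- The normalizer of `K` normalizes `O₂(K)`. -/
theorem pcore_normalizer (K : Subgroup G) :
    Subgroup.normalizer (K : Set G) ≤ Subgroup.normalizer (pCoreOf 2 K : Set G) := by
  intro a ha
  have hK : K.map (MulAut.conj a).toMonoidHom = K := by
    ext y
    simp only [Subgroup.mem_map, MulEquiv.coe_toMonoidHom, MulAut.conj_apply]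
    constructor
    · rintro ⟨x, hx, rfl⟩
      exact (Subgroup.mem_normalizer_iff.mp ha x).mp hx
    · intro hy
      refine ⟨a⁻¹ * y * a, ?_, by group⟩
      have := (Subgroup.mem_normalizer_iff.mp (inv_mem ha) y).mp hy
      simpa using this
  have h := Cfsg.Agent.H51.pCoreOf_map 2 K (MulAut.conj a)
  rw [hK] at h
  rw [Subgroup.mem_normalizer_iff]
  intro q
  constructor
  · intro hq
    rw [h]
    exact ⟨q, hq, by simp [MulAut.conj_apply]⟩
  · intro hq
    rw [h] at hq
    obtain ⟨q', hq', e⟩ := hq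
    have : q' = q := by
      have e' : a * q' * a⁻¹ = a * q * a⁻¹ := by simpa [MulAut.conj_apply] using e
      have := congrArg (fun z => a⁻¹ * z * a) e'
      simpa [mul_assoc] using this
    rwa [← this]

/-- In a group of order 3, a nontrivial element is `g` or `g⁻¹` for any nontrivial `g`. -/
theorem three_lemma {H : Type*} [Group H] (h3 : Nat.card H = 3) (g h : H) (hg : g ≠ 1)
    (hh : h ≠ 1) : h = g ∨ h = g⁻¹ := by
  classical
  have : Finite H := Nat.finite_of_card_ne_zero (by omega)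
  letI := Fintype.ofFinite H
  have hgi : g ≠ g⁻¹ := by
    intro e
    have h2 : g ^ 2 = 1 := by
      rw [pow_two]
      calc g * g = g * g⁻¹ := by rw [← e]
        _ = 1 := by simp
    have h3' : g ^ 3 = 1 := by
      have := pow_card_eq_one' (G := H) (x := g)
      rwa [h3] at this
    apply hg
    calc g = g ^ 3 * (g ^ 2)⁻¹ := by group
      _ = 1 := by rw [h2, h3']; simp
  by_contra hcon
  push Not at hcon
  have hc : ({1, g, g⁻¹, h} : Finset H).card = 4 := by
    rw [Finset.card_insert_of_notMem, Finset.card_insert_of_notMem, Finset.card_pair]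
    · exact fun e => hcon.2 e.symm
    · simp only [Finset.mem_insert, Finset.mem_singleton, not_or]
      exact ⟨hgi, fun e => hcon.1 e.symm⟩
    · simp only [Finset.mem_insert, Finset.mem_singleton, not_or]
      refine ⟨fun e => hg e.symm, ?_, fun e => hh e.symm⟩
      intro e
      apply hg
      have : g⁻¹ = 1 := e.symm
      simpa using this
  have := Finset.card_le_univ ({1, g, g⁻¹, h} : Finset H)
  rw [hc, ← Nat.card_eq_fintype_card, h3] at this
  omega

/-- Index-3 trichotomy. -/
theorem tri (K Q : Subgroup G) (hQK : Q ≤ K) (hKN : K ≤ Subgroup.normalizer (Q : Set G)) (h3 : Q.relIndex K = 3)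
    {k : G} (hk : k ∈ K) (hkQ : k ∉ Q) {g : G} (hg : g ∈ K) :
    g ∈ Q ∨ g * k⁻¹ ∈ Q ∨ g * k ∈ Q := by
  have : (Q.subgroupOf K).Normal := (Subgroup.normal_subgroupOf_iff_le_normalizer hQK).mpr hKN
  have hcard : Nat.card (↥K ⧸ Q.subgroupOf K) = 3 := h3
  have hk1 : (QuotientGroup.mk (⟨k, hk⟩ : ↥K) : ↥K ⧸ Q.subgroupOf K) ≠ 1 := by
    rw [Ne, QuotientGroup.eq_one_iff]
    exact fun h => hkQ (by simpa [Subgroup.mem_subgroupOf] using h)
  by_cases hgQ : g ∈ Q
  · exact Or.inl hgQ
  · right
    have hg1 : (QuotientGroup.mk (⟨g, hg⟩ : ↥K) : ↥K ⧸ Q.subgroupOf K) ≠ 1 := by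
      rw [Ne, QuotientGroup.eq_one_iff]
      exact fun h => hgQ (by simpa [Subgroup.mem_subgroupOf] using h)
    rcases three_lemma hcard _ _ hk1 hg1 with e | e
    · left
      have : (QuotientGroup.mk ((⟨g, hg⟩ : ↥K) * (⟨k, hk⟩ : ↥K)⁻¹) : ↥K ⧸ Q.subgroupOf K) = 1 := by
        rw [QuotientGroup.mk_mul, QuotientGroup.mk_inv, e]; simp
      rw [QuotientGroup.eq_one_iff] at this
      simpa [Subgroup.mem_subgroupOf] using this
    · right
      have : (QuotientGroup.mk ((⟨g, hg⟩ : ↥K) * (⟨k, hk⟩ : ↥K)) : ↥K ⧸ Q.subgroupOf K) = 1 := by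
        rw [QuotientGroup.mk_mul, e]; simp
      rw [QuotientGroup.eq_one_iff] at this
      simpa [Subgroup.mem_subgroupOf] using this

/-- `k³ ∈ Q`. -/
theorem cube_mem (K Q : Subgroup G) (hQK : Q ≤ K) (hKN : K ≤ Subgroup.normalizer (Q : Set G))
    (h3 : Q.relIndex K = 3) {k : G} (hk : k ∈ K) : k ^ 3 ∈ Q := by
  have : (Q.subgroupOf K).Normal := (Subgroup.normal_subgroupOf_iff_le_normalizer hQK).mpr hKN
  have := Subgroup.pow_index_mem (Q.subgroupOf K) (⟨k, hk⟩ : ↥K)
  have h3' : (Q.subgroupOf K).index = 3 := h3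
  rw [h3'] at this
  simpa [Subgroup.mem_subgroupOf] using this

/-- product inequality. -/
theorem card_mul_le [Finite G] (B C : Subgroup G) :
    Nat.card ↥B * Nat.card ↥C ≤ Nat.card ↥(B ⊔ C) * Nat.card ↥(B ⊓ C) := by
  have e1 : Nat.card ↥B * B.relIndex (B ⊔ C) = Nat.card ↥(B ⊔ C) := by
    have := Subgroup.relIndex_mul_relIndex (⊥ : Subgroup G) B (B ⊔ C) bot_le le_sup_left
    rwa [Subgroup.relIndex_bot_left, Subgroup.relIndex_bot_left] at this
  have e2 : Nat.card ↥(B ⊓ C) * (B ⊓ C).relIndex C = Nat.card ↥C := by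
    have := Subgroup.relIndex_mul_relIndex (⊥ : Subgroup G) (B ⊓ C) C bot_le inf_le_right
    rwa [Subgroup.relIndex_bot_left, Subgroup.relIndex_bot_left] at this
  have e3 : (B ⊓ C).relIndex C = B.relIndex C := Subgroup.inf_relIndex_right B C
  have e4 : B.relIndex C ≤ B.relIndex (B ⊔ C) :=
    Subgroup.relIndex_le_of_le_right le_sup_right (fun h => by
      have hd := Subgroup.relIndex_dvd_card B (B ⊔ C)
      rw [h, zero_dvd_iff] at hd
      exact (Nat.card_pos (α := ↥(B ⊔ C))).ne' hd)
  calc Nat.card ↥B * Nat.card ↥C = Nat.card ↥B * (Nat.card ↥(B ⊓ C) * B.relIndex C) := by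
        rw [← e2, e3]
    _ ≤ Nat.card ↥B * (Nat.card ↥(B ⊓ C) * B.relIndex (B ⊔ C)) := by gcongr
    _ = Nat.card ↥(B ⊔ C) * Nat.card ↥(B ⊓ C) := by rw [← e1]; ring

end Cfsg.Agent.H88.Jc
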