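import Mathlib
import Cfsg.Agent.H88.PSL3B
import Cfsg.Agent.H42.SU3Grp
import Cfsg.Agent.H61.GU2Sylow
import Cfsg.Agent.H7.SU2
import Cfsg.Agent.S0280

/-!
helper88: the `2`-fusion system of `PSU(3, q)`, `q` odd — general tools (classes of elements of
`SU(3, q)` in `PSU(3, q)`, Gram criterion, involutions), arithmetic of the order, and the case
`q ≡ 3 (mod 4)` (wreathed Sylow `2`-subgroup inside the monomial group).
-/

set_option autoImplicit false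
set_option linter.unusedSectionVars false

namespace Cfsg.Agent.H88.U3

open Matrix Cfsg Cfsg.Agent.H88.L3

open scoped MatrixGroups

section Gen

variable {F : Type*} [Field F] [Fintype F] {q : ℕ}

/-- The class in `PSU(3, q)` of an element of `SU(3, q)`. -/
def pmk (q : ℕ) (g : SL(3, F)) (hg : g ∈ SU 3 F q) : PSU 3 F q :=
  QuotientGroup.mk (⟨g, hg⟩ : SU 3 F q)

theorem pmk_mul (g h : SL(3, F)) (hg : g ∈ SU 3 F q) (hh : h ∈ SU 3 F q) :
    pmk q g hg * pmk q h hh = pmk q (g * h) (mul_mem hg hh) := rfl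

theorem pmk_congr {g h : SL(3, F)} (e : g = h) (hg : g ∈ SU 3 F q) (hh : h ∈ SU 3 F q) :
    pmk q g hg = pmk q h hh := by
  subst e
  rfl

theorem pmk_one : pmk q (1 : SL(3, F)) (one_mem _) = 1 := rfl

theorem pmk_pow (g : SL(3, F)) (hg : g ∈ SU 3 F q) (k : ℕ) :
    pmk q g hg ^ k = pmk q (g ^ k) (pow_mem hg k) := by
  unfold pmk
  rw [← QuotientGroup.mk_pow]
  rfl

theorem pmk_zpow (g : SL(3, F)) (hg : g ∈ SU 3 F q) (k : ℤ) :
    pmk q g hg ^ k = pmk q (g ^ k) (zpow_mem hg k) := by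
  unfold pmk
  rw [← QuotientGroup.mk_zpow]
  rfl

theorem pmk_inv (g : SL(3, F)) (hg : g ∈ SU 3 F q) :
    (pmk q g hg)⁻¹ = pmk q g⁻¹ (inv_mem hg) := rfl

theorem pmk_surj (x : PSU 3 F q) : ∃ (g : SL(3, F)) (hg : g ∈ SU 3 F q), x = pmk q g hg := by
  obtain ⟨u, rfl⟩ := QuotientGroup.mk_surjective x
  exact ⟨u.1, u.2, rfl⟩

/-- Central elements of `SU(3, q)` have order dividing `3`. -/
theorem center_pow_three (hF : Fintype.card F = q ^ 2) (z : SU 3 F q)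
    (hz : z ∈ Subgroup.center (SU 3 F q)) : z ^ 3 = 1 := by
  have hc := Cfsg.Agent.H7.card_center_SU hF 3 (by norm_num)
  have h3 : Nat.gcd 3 (q + 1) ∣ 3 := Nat.gcd_dvd_left 3 (q + 1)
  have h1 : orderOf (⟨z, hz⟩ : Subgroup.center (SU 3 F q)) ∣ 3 := by
    refine (orderOf_dvd_natCard _).trans ?_
    rw [hc]
    exact h3
  have h2 := orderOf_dvd_iff_pow_eq_one.1 h1
  exact congrArg Subtype.val h2

/-- An element of `2`-power order of `SU(3, q)` with trivial class in `PSU(3, q)` is trivial. -/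
theorem eq_one_of_pmk_eq_one (hF : Fintype.card F = q ^ 2) (g : SL(3, F)) (hg : g ∈ SU 3 F q)
    (k : ℕ) (hk : g ^ 2 ^ k = 1) (h : pmk q g hg = 1) : g = 1 := by
  have hz : (⟨g, hg⟩ : SU 3 F q) ∈ Subgroup.center (SU 3 F q) := (QuotientGroup.eq_one_iff _).1 h
  have h3 := center_pow_three hF _ hz
  have h3' : g ^ 3 = 1 := congrArg Subtype.val h3
  have hcop : Nat.Coprime 3 (2 ^ k) := Nat.Coprime.pow_right k (by norm_num)
  have hg1 : g ^ Nat.gcd 3 (2 ^ k) = 1 := pow_gcd_eq_one.2 ⟨h3', hk⟩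
  rw [Nat.Coprime.gcd_eq_one hcop, pow_one] at hg1
  exact hg1

/-- All involutions of `PSU(3, q)`, `q` odd, are conjugate. -/
theorem psu3_invol_conj (hF : Fintype.card F = q ^ 2) (h2 : (2 : F) ≠ 0) (a b : PSU 3 F q)
    (ha : orderOf a = 2) (hb : orderOf b = 2) : ∃ d : PSU 3 F q, d * a * d⁻¹ = b := by
  have key : ∀ a : PSU 3 F q, orderOf a = 2 → ∃ u : SU 3 F q, u ≠ 1 ∧ u * u = 1 ∧
      a = QuotientGroup.mk u := by
    intro a ha
    obtain ⟨u0, rfl⟩ := QuotientGroup.mk_surjective a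
    have hsq : (QuotientGroup.mk u0 : PSU 3 F q) * QuotientGroup.mk u0 = 1 := by
      have h := pow_orderOf_eq_one (QuotientGroup.mk u0 : PSU 3 F q)
      rw [ha, pow_two] at h
      exact h
    have hz : u0 * u0 ∈ Subgroup.center (SU 3 F q) := by
      rw [← QuotientGroup.mk_mul, QuotientGroup.eq_one_iff] at hsq
      exact hsq
    have hz3 : (u0 * u0) ^ 3 = 1 := center_pow_three hF _ hz
    have hmk : (QuotientGroup.mk (u0 * u0 * u0) : PSU 3 F q) = QuotientGroup.mk u0 := by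
      rw [QuotientGroup.mk_mul, QuotientGroup.mk_mul, hsq, one_mul]
    have huu : (u0 * u0 * u0) * (u0 * u0 * u0) = 1 := by
      rw [← hz3]
      simp only [pow_succ, pow_zero, one_mul, mul_assoc]
    have hne : u0 * u0 * u0 ≠ 1 := by
      intro h
      rw [h] at hmk
      have h1 : (QuotientGroup.mk u0 : PSU 3 F q) = 1 := by
        rw [← hmk]
        rfl
      rw [h1, orderOf_one] at ha
      omega
    exact ⟨u0 * u0 * u0, hne, huu, hmk.symm⟩
  obtain ⟨u, hu1, hu2, rfl⟩ := key a ha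
  obtain ⟨w, hw1, hw2, rfl⟩ := key b hb
  obtain ⟨g, hg⟩ := Cfsg.Agent.H42.su3_inv_conj hF h2 u w hu1 hu2 hw1 hw2
  refine ⟨QuotientGroup.mk g, ?_⟩
  rw [← hg]
  rfl

end Gen

section Gram

variable {F : Type*} [Field F] [Fintype F] {q : ℕ}

theorem gram_mul (φ : F →+* F) {n : ℕ} (M N : Matrix (Fin n) (Fin n) F)
    (hM : Mᵀ * M.map φ = 1) (hN : Nᵀ * N.map φ = 1) : (M * N)ᵀ * (M * N).map φ = 1 := by
  rw [Matrix.transpose_mul, Matrix.map_mul]
  calc Nᵀ * Mᵀ * (M.map φ * N.map φ) = Nᵀ * (Mᵀ * M.map φ) * N.map φ := by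
        simp only [Matrix.mul_assoc]
    _ = 1 := by rw [hM, Matrix.mul_one, hN]

theorem gram_one (φ : F →+* F) {n : ℕ} :
    (1 : Matrix (Fin n) (Fin n) F)ᵀ * (1 : Matrix (Fin n) (Fin n) F).map φ = 1 := by
  rw [Matrix.transpose_one, Matrix.map_one _ (map_zero φ) (map_one φ), Matrix.mul_one]

theorem gram_pow (φ : F →+* F) {n : ℕ} (M : Matrix (Fin n) (Fin n) F)
    (hM : Mᵀ * M.map φ = 1) (k : ℕ) : (M ^ k)ᵀ * (M ^ k).map φ = 1 := by
  induction k with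
  | zero =>
    rw [pow_zero]
    exact gram_one φ
  | succ k ih =>
    rw [pow_succ]
    exact gram_mul φ _ _ ih hM

/-- The Gram criterion for membership of `SU`. -/
theorem mem_SU_of_gram (φ : F →+* F) (hφ : ∀ a, φ a = a ^ q) {n : ℕ}
    (g : Matrix.SpecialLinearGroup (Fin n) F) (h : g.1ᵀ * g.1.map φ = 1) : g ∈ SU n F q := by
  rw [Cfsg.Agent.H7.mem_SU_iff]
  exact fun u v => Cfsg.Agent.H61.herm_preserves_of_gram φ hφ _ h u v

/-- Elements of `SU` satisfy the Gram identity. -/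
theorem gram_of_mem_SU (φ : F →+* F) (hφ : ∀ a, φ a = a ^ q) (hq : q ≠ 0) {n : ℕ}
    (g : Matrix.SpecialLinearGroup (Fin n) F) (h : g ∈ SU n F q) : g.1ᵀ * g.1.map φ = 1 := by
  have h1 := Cfsg.Agent.H7.GUI_transpose_mul_map hq (Matrix.SpecialLinearGroup.toGL g) h
  have e : (fun x : F => x ^ q) = ⇑φ := funext (fun a => (hφ a).symm)
  rw [e] at h1
  exact h1

theorem unit_norm (φ : F →+* F) (hφ : ∀ a, φ a = a ^ q) (a : Fˣ) (ha : a ^ (q + 1) = 1) :
    (a : F) * φ (a : F) = 1 := by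
  rw [hφ, ← pow_succ', ← Units.val_pow_eq_pow_val, ha]
  rfl

theorem dX_mem (φ : F →+* F) (hφ : ∀ a, φ a = a ^ q) (a : Fˣ) (ha : a ^ (q + 1) = 1) :
    dX a ∈ SU 3 F q := by
  apply mem_SU_of_gram φ hφ
  have h1 := unit_norm φ hφ a ha
  have h2 : ((a : F))⁻¹ * (φ (a : F))⁻¹ = 1 := by rw [← mul_inv, h1, inv_one]
  rw [dX_coe]
  ext i j
  fin_cases i <;> fin_cases j <;> simp [Matrix.mul_apply, Fin.sum_univ_three, h1, h2]

theorem dY_mem (φ : F →+* F) (hφ : ∀ a, φ a = a ^ q) (a : Fˣ) (ha : a ^ (q + 1) = 1) :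
    dY a ∈ SU 3 F q := by
  apply mem_SU_of_gram φ hφ
  have h1 := unit_norm φ hφ a ha
  have h2 : ((a : F))⁻¹ * (φ (a : F))⁻¹ = 1 := by rw [← mul_inv, h1, inv_one]
  rw [dY_coe]
  ext i j
  fin_cases i <;> fin_cases j <;> simp [Matrix.mul_apply, Fin.sum_univ_three, h1, h2]

theorem tau3_mem (φ : F →+* F) (hφ : ∀ a, φ a = a ^ q) : tau3 F ∈ SU 3 F q := by
  apply mem_SU_of_gram φ hφ
  rw [tau3_coe]
  ext i j
  fin_cases i <;> fin_cases j <;> simp [Matrix.mul_apply, Fin.sum_univ_three]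

theorem perm3_mem (φ : F →+* F) (hφ : ∀ a, φ a = a ^ q) : perm3 F ∈ SU 3 F q := by
  apply mem_SU_of_gram φ hφ
  rw [perm3_coe]
  ext i j
  fin_cases i <;> fin_cases j <;> simp [Matrix.mul_apply, Fin.sum_univ_three]

end Gram

/-- Auxiliary: the `2`-part of a product. -/
theorem arith_aux (g N A B C α β u v : ℕ) (hgN : g * N = A * B ^ 2 * C) (hC : Odd C)
    (hA : A = 2 ^ α * u) (hB : B = 2 ^ β * v) (hu : Odd u) (hv : Odd v) :
    ¬ 2 ^ (α + 2 * β + 1) ∣ N := by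
  intro hdiv
  subst hA hB
  have hgN' : g * N = 2 ^ (α + 2 * β) * (u * v ^ 2 * C) := by
    rw [hgN]
    ring
  have hd : 2 ^ (α + 2 * β + 1) ∣ g * N := Dvd.dvd.mul_left hdiv g
  rw [hgN', pow_succ] at hd
  have h2d : 2 ∣ u * v ^ 2 * C := (Nat.mul_dvd_mul_iff_left (by positivity)).1 hd
  have ho : Odd (u * v ^ 2 * C) := Odd.mul (Odd.mul hu hv.pow) hC
  exact (Nat.not_even_iff_odd.2 ho) (even_iff_two_dvd.2 h2d)

/-- The `2`-part of the order of `PSU(3, q)`. -/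
theorem arithU (q N g : ℕ) (hodd : q % 2 = 1) (hq : 3 ≤ q)
    (hN : g * ((q + 1) * N) = q ^ 3 * ((q + 1) * (q ^ 2 - 1) * (q ^ 3 + 1)))
    (α β u v : ℕ) (hu : Odd u) (hv : Odd v) (h1 : q - 1 = 2 ^ α * u) (h2 : q + 1 = 2 ^ β * v) :
    ¬ 2 ^ (α + 2 * β + 1) ∣ N := by
  obtain ⟨a, rfl⟩ : ∃ a, q = 2 * a + 1 := ⟨q / 2, by omega⟩
  have e1 : 2 * a + 1 - 1 = 2 * a := by omega
  have c1 : (2 * a + 1) ^ 2 - 1 = 2 * a * (2 * a + 1 + 1) := by
    have : (2 * a + 1) ^ 2 = 2 * a * (2 * a + 1 + 1) + 1 := by ring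
    omega
  have c2 : (2 * a + 1) ^ 3 + 1 = (2 * a + 1 + 1) * (4 * a ^ 2 + 2 * a + 1) := by ring
  rw [e1] at h1
  rw [c1, c2] at hN
  have hgN : g * N = (2 * a) * (2 * a + 1 + 1) ^ 2 *
      ((2 * a + 1) ^ 3 * (4 * a ^ 2 + 2 * a + 1)) := by
    have h0 : 0 < 2 * a + 1 + 1 := by omega
    apply Nat.eq_of_mul_eq_mul_left h0
    have e : (2 * a + 1 + 1) * (g * N) = g * ((2 * a + 1 + 1) * N) := by ring
    rw [e, hN]
    ring
  refine arith_aux g N _ _ _ α β u v hgN ?_ h1 h2 hu hv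
  apply Odd.mul
  · exact Odd.pow ⟨a, rfl⟩
  · exact ⟨2 * a ^ 2 + a, by ring⟩

section CaseA

variable {F : Type*} [Field F] [Fintype F] {q : ℕ}

/-- The case `q ≡ 3 (mod 4)`. -/
theorem caseA (hF : Fintype.card F = q ^ 2) (h2 : (2 : F) ≠ 0) {n : ℕ} (hn : 2 ≤ n) (ω : Fˣ)
    (hω : orderOf ω = 2 ^ n) (hωq : ω ^ (q + 1) = 1)
    (hcard : ¬ 2 ^ (2 * n + 2) ∣ Nat.card (PSU 3 F q)) (S : Sylow 2 (PSU 3 F q)) :
    (groupFusionSystem (S : Subgroup (PSU 3 F q))).IsSimple 2 := by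
  obtain ⟨φ, hφ⟩ := Cfsg.Agent.H61.exists_frobHom hF
  have hmX : ∀ a : Fˣ, a ^ (q + 1) = 1 → dX a ∈ SU 3 F q := fun a ha => dX_mem φ hφ a ha
  have hmY : ∀ a : Fˣ, a ^ (q + 1) = 1 → dY a ∈ SU 3 F q := fun a ha => dY_mem φ hφ a ha
  have hmτ : tau3 F ∈ SU 3 F q := tau3_mem φ hφ
  have hmp : perm3 F ∈ SU 3 F q := perm3_mem φ hφ
  have hωz : ∀ i : ℤ, (ω ^ i) ^ (q + 1) = 1 := by
    intro i
    rw [← zpow_natCast, ← _root_.zpow_mul, mul_comm, _root_.zpow_mul, zpow_natCast, hωq,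
      _root_.one_zpow]
  obtain ⟨x, hxdef⟩ : ∃ x : PSU 3 F q, x = pmk q (dX ω) (hmX ω hωq) := ⟨_, rfl⟩
  obtain ⟨y, hydef⟩ : ∃ y : PSU 3 F q, y = pmk q (dY ω) (hmY ω hωq) := ⟨_, rfl⟩
  obtain ⟨τ, hτdef⟩ : ∃ τ : PSU 3 F q, τ = pmk q (tau3 F) hmτ := ⟨_, rfl⟩
  have hωn : ω ^ 2 ^ n = 1 := by
    rw [← hω]
    exact pow_orderOf_eq_one ω
  have hxz : ∀ i : ℤ, x ^ i = pmk q (dX (ω ^ i)) (hmX _ (hωz i)) := by
    intro i
    rw [hxdef, pmk_zpow]
    exact pmk_congr (map_zpow (dXHom F) ω i).symm _ _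
  have hyz : ∀ i : ℤ, y ^ i = pmk q (dY (ω ^ i)) (hmY _ (hωz i)) := by
    intro i
    rw [hydef, pmk_zpow]
    exact pmk_congr (map_zpow (dYHom F) ω i).symm _ _
  have d : Cfsg.Agent.H88.Wr.Data x y τ n := by
    refine ⟨?_, ?_, ?_, ?_, ?_⟩
    · rw [hxdef, hydef, pmk_mul, pmk_mul]
      exact pmk_congr (dX_dY_comm ω ω) _ _
    · rw [hτdef, pmk_mul]
      exact (pmk_congr tau3_sq _ (one_mem _)).trans pmk_one
    · rw [mul_inv_eq_iff_eq_mul, hτdef, hxdef, hydef, pmk_mul, pmk_mul]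
      exact pmk_congr (tau3_dX ω) _ _
    · have h := hxz ((2 ^ n : ℕ) : ℤ)
      rw [zpow_natCast] at h
      rw [h]
      refine (pmk_congr ?_ _ (one_mem _)).trans pmk_one
      rw [zpow_natCast, hωn]
      exact dX_one
    · intro i j hij
      rw [hxz, hyz, pmk_mul] at hij
      have hi : (ω ^ i) ^ 2 ^ n = 1 := by
        rw [← zpow_natCast, ← _root_.zpow_mul, mul_comm, _root_.zpow_mul, zpow_natCast, hωn,
          _root_.one_zpow]
      have hj : (ω ^ j) ^ 2 ^ n = 1 := by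
        rw [← zpow_natCast, ← _root_.zpow_mul, mul_comm, _root_.zpow_mul, zpow_natCast, hωn,
          _root_.one_zpow]
      have hpow : (dX (ω ^ i) * dY (ω ^ j)) ^ 2 ^ n = 1 := by
        have hc : Commute (dX (ω ^ i)) (dY (ω ^ j)) := dX_dY_comm _ _
        rw [hc.mul_pow]
        have e1 : dX (ω ^ i) ^ 2 ^ n = 1 := by
          have := (map_pow (dXHom F) (ω ^ i) (2 ^ n)).symm
          rw [hi, map_one] at this
          exact this
        have e2 : dY (ω ^ j) ^ 2 ^ n = 1 := by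
          have := (map_pow (dYHom F) (ω ^ j) (2 ^ n)).symm
          rw [hj, map_one] at this
          exact this
        rw [e1, e2, mul_one]
      have h1 := eq_one_of_pmk_eq_one hF _ _ n hpow hij
      have hr : (dX (ω ^ i) * dY (ω ^ j)).1 = (1 : SL(3, F)).1 := congrArg Subtype.val h1
      have h00 := congrFun (congrFun hr 0) 0
      have h11 := congrFun (congrFun hr 1) 1
      rw [sl3_mul_apply, dX_coe, dY_coe] at h00 h11
      simp at h00 h11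
      have hN : ((2 ^ n : ℕ) : ℤ) = (2 : ℤ) ^ n := by push_cast; rfl
      rw [← hN, ← hω]
      have h00' : ω ^ i = 1 :=
        Units.ext (by rw [Units.val_zpow_eq_zpow_val, Units.val_one]; exact h00)
      have h11' : ω ^ j = 1 :=
        Units.ext (by rw [Units.val_zpow_eq_zpow_val, Units.val_one]; exact h11)
      exact ⟨orderOf_dvd_iff_zpow_eq_one.2 h00', orderOf_dvd_iff_zpow_eq_one.2 h11'⟩
  have hxQ : x ∈ Subgroup.closure {x, y, τ} := Subgroup.subset_closure (by simp)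
  have hyQ : y ∈ Subgroup.closure {x, y, τ} := Subgroup.subset_closure (by simp)
  have hτQ : τ ∈ Subgroup.closure {x, y, τ} := Subgroup.subset_closure (by simp)
  have hQ2 := Cfsg.Agent.H88.Wr.closure_isPGroup d
  refine simple_of_pgroup_data (Q := Subgroup.closure {x, y, τ}) (k := 2 * n + 1) hQ2
    (Cfsg.Agent.H88.Wr.card_closure_ge d (by omega)) (by omega) hcard
    (Cfsg.Agent.H88.Wr.mulAut_closure_isPGroup hn d) ?_ S
  intro T hT hT1 hcl
  obtain ⟨u, huT, hu⟩ := exists_invol hQ2 hT hT1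
  -- `τ ∈ T`
  have oτ : orderOf τ = 2 := by
    apply orderOf_eq_prime
    · rw [pow_two]
      exact d.hτ
    · have := d.τ_ne (by omega) 0 0
      simpa using this
  have hτT : τ ∈ T := by
    obtain ⟨g, hg⟩ := psu3_invol_conj hF h2 u τ hu oτ
    have := hcl u huT g (by rw [hg]; exact hτQ)
    rwa [hg] at this
  -- `τ x y⁻¹ ∈ T`
  have o2 : orderOf (τ * (x ^ (1 : ℤ) * y ^ (-1 : ℤ))) = 2 := by
    apply orderOf_eq_prime
    · rw [pow_two, d.refl_sq]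
      simp
    · intro h
      exact d.τ_mul_ne (by omega) 1 (-1) 0 0 (by rw [h]; simp)
  have hxyQ : x ^ (1 : ℤ) * y ^ (-1 : ℤ) ∈ Subgroup.closure {x, y, τ} :=
    mul_mem (zpow_mem hxQ _) (zpow_mem hyQ _)
  have h2T : τ * (x ^ (1 : ℤ) * y ^ (-1 : ℤ)) ∈ T := by
    obtain ⟨g, hg⟩ := psu3_invol_conj hF h2 u _ hu o2
    have := hcl u huT g (by rw [hg]; exact mul_mem hτQ hxyQ)
    rwa [hg] at this
  have hxyT : x ^ (1 : ℤ) * y ^ (-1 : ℤ) ∈ T := by
    have e : x ^ (1 : ℤ) * y ^ (-1 : ℤ) = τ⁻¹ * (τ * (x ^ (1 : ℤ) * y ^ (-1 : ℤ))) := by group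
    rw [e]
    exact mul_mem (inv_mem hτT) h2T
  -- `y ∈ T` by the Weyl group
  have hyT : y ∈ T := by
    have hconj : pmk q (perm3 F) hmp * (x ^ (1 : ℤ) * y ^ (-1 : ℤ)) *
        (pmk q (perm3 F) hmp)⁻¹ = y := by
      rw [mul_inv_eq_iff_eq_mul, hxz, hyz, hydef, pmk_mul, pmk_mul, pmk_mul]
      apply pmk_congr
      rw [zpow_one, _root_.zpow_neg_one, perm3_conj]
    have := hcl _ hxyT (pmk q (perm3 F) hmp) (by rw [hconj]; exact hyQ)
    rwa [hconj] at this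
  have hxT : x ∈ T := by
    have e : x = τ * y * τ⁻¹ := d.hτy.symm
    rw [e]
    exact mul_mem (mul_mem hτT hyT) (inv_mem hτT)
  apply le_antisymm hT
  rw [Subgroup.closure_le]
  rintro g (rfl | rfl | hg)
  · exact hxT
  · exact hyT
  · rw [Set.mem_singleton_iff] at hg
    rw [hg]
    exact hτT

end CaseA

end Cfsg.Agent.H88.U3
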