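import Mathlib
import Cfsg.Agent.H88.SUnL
import Cfsg.Agent.H88.FamEquiv
import Cfsg.Agent.H88.PSU3A
import Cfsg.Agent.H7.LawUnitary

/-!
helper88: the `p`-fusion system of any group isomorphic to the central quotient of `UG n φ`
(`n ≥ 4`) is simple; the isomorphism of `UG n φ` with the unitary group `SU n K q` of the
standard Hermitian form (conjugation by a hyperbolic basis matrix).
-/

set_option autoImplicit false
set_option linter.unusedSectionVars false
set_option linter.unusedSimpArgs false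

namespace Cfsg.Agent.H88.Un

open Matrix Cfsg

variable {n : ℕ} {K : Type*} [Field K] [Fintype K] {φ : K →+* K}

/-- The fusion system of a group isomorphic to `PU n φ` is simple. -/
theorem PU_simple_equiv [Invol φ] (hn : 4 ≤ n) (hG : Good φ) (p : ℕ) [Fact p.Prime] [CharP K p]
    {f : ℕ} (hK : Fintype.card K = p ^ f) {G' : Type*} [Group G'] [Finite G']
    (e : PU n φ ≃* G') (S : Sylow p G') :
    (groupFusionSystem (S : Subgroup G')).IsSimple p := by
  obtain ⟨P, hP⟩ := exists_sylow p hn hG hK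
  apply Cfsg.Agent.H88.simple_of_centric_family_equiv e p P ?_ ?_
    {Eb φ (lam1 n), Eb φ (lamQ n)} ?_ ?_ S
  · rw [hP]
    exact Eb_ne_bot hn hG
  · intro T hT hT1 hcl
    rw [hP] at hT hcl ⊢
    exact hcl_Ub p hn hG hK T hT hT1 hcl
  · intro E hE
    rw [hP]
    rcases hE with rfl | rfl
    · exact fam_mem p hn hG hK (fun i j h => lam1_mono h) (cent_R1 hn hG)
    · exact fam_mem p hn hG hK (fun i j h => lamQ_mono h) (cent_Rm hn hG)
  · intro g hg
    rw [hP] at hg ⊢
    have h1 := norm_gen p hn hG hK g hg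
    refine Subgroup.closure_mono ?_ h1
    rintro x ⟨hx1, hx2⟩
    refine ⟨hx1, ?_⟩
    rcases hx2 with h | h
    · exact ⟨Eb φ (lam1 n), Or.inl rfl, h⟩
    · exact ⟨Eb φ (lamQ n), Or.inr rfl, h⟩

/-! ### The conjugate transpose and the antidiagonal matrix -/

/-- The `φ`-conjugate transpose. -/
def ct (φ : K →+* K) (M : Matrix (Fin n) (Fin n) K) : Matrix (Fin n) (Fin n) K := (M.map φ)ᵀ

theorem ct_apply (M : Matrix (Fin n) (Fin n) K) (i j : Fin n) : ct φ M i j = φ (M j i) := rfl

theorem ct_mul (M N : Matrix (Fin n) (Fin n) K) : ct φ (M * N) = ct φ N * ct φ M := by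
  unfold ct
  rw [Matrix.map_mul, Matrix.transpose_mul]

theorem ct_ct [Invol φ] (M : Matrix (Fin n) (Fin n) K) : ct φ (ct φ M) = M := by
  ext i j
  rw [ct_apply, ct_apply, Invol.invol]

/-- The antidiagonal matrix. -/
def Jm (n : ℕ) (K : Type*) [Field K] : Matrix (Fin n) (Fin n) K :=
  Matrix.of fun i j => if j = i.rev then 1 else 0

theorem Jm_apply (i j : Fin n) : Jm n K i j = if j = i.rev then 1 else 0 := rfl

theorem Jm_mul_apply (M : Matrix (Fin n) (Fin n) K) (i j : Fin n) :
    (Jm n K * M) i j = M i.rev j := by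
  rw [Matrix.mul_apply, Finset.sum_eq_single i.rev]
  · rw [Jm_apply, if_pos rfl, one_mul]
  · intro r _ hr
    rw [Jm_apply, if_neg hr, zero_mul]
  · intro h; exact absurd (Finset.mem_univ _) h

theorem mul_Jm_apply (M : Matrix (Fin n) (Fin n) K) (i j : Fin n) :
    (M * Jm n K) i j = M i j.rev := by
  rw [Matrix.mul_apply, Finset.sum_eq_single j.rev]
  · rw [Jm_apply, Fin.rev_rev, if_pos rfl, mul_one]
  · intro r _ hr
    rw [Jm_apply, if_neg (fun e => hr (by rw [e, Fin.rev_rev])), mul_zero]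
  · intro h; exact absurd (Finset.mem_univ _) h

theorem Jm_mul_Jm : Jm n K * Jm n K = 1 := by
  ext i j
  rw [Jm_mul_apply, Jm_apply, Fin.rev_rev, Matrix.one_apply]
  by_cases h : i = j
  · rw [if_pos h, if_pos h.symm]
  · rw [if_neg h, if_neg (fun e => h e.symm)]

theorem ct_Jm : ct φ (Jm n K) = Jm n K := by
  ext i j
  rw [ct_apply, Jm_apply, Jm_apply]
  by_cases h : j = i.rev
  · rw [if_pos h, if_pos (by rw [h, Fin.rev_rev]), map_one]
  · rw [if_neg h, if_neg (fun e => h (by rw [e, Fin.rev_rev])), map_zero]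

theorem adj_eq (M : Matrix (Fin n) (Fin n) K) : adj φ M = Jm n K * ct φ M * Jm n K := by
  ext i j
  rw [mul_Jm_apply, Jm_mul_apply, ct_apply, adj_apply]

theorem gram_iff (M : Matrix (Fin n) (Fin n) K) : Mᵀ * M.map φ = 1 ↔ ct φ M * M = 1 := by
  constructor
  · intro h
    have h1 := congrArg Matrix.transpose h
    rw [Matrix.transpose_mul, Matrix.transpose_transpose, Matrix.transpose_one] at h1
    exact h1
  · intro h
    have h1 := congrArg Matrix.transpose h
    rw [Matrix.transpose_mul, Matrix.transpose_one] at h1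
    have e : (ct φ M)ᵀ = M.map φ := Matrix.transpose_transpose _
    rw [e] at h1
    exact h1

/-! ### A hyperbolic basis for the standard Hermitian form -/

theorem exists_hyp [Invol φ] (hG : Good φ) :
    ∃ a b β : K, a * φ a = -1 ∧ b * φ b = -1 ∧ β * (1 + φ a * b) = 1 := by
  obtain ⟨a, ha⟩ := hG.ex_norm (-1) (by rw [map_neg, map_one])
  obtain ⟨x, hx⟩ := hG.ex_nf
  have hx0 : x ≠ 0 := fun e => hx (by rw [e, map_zero])
  have hφx0 : φ x ≠ 0 := fun e => hx0 (by rw [← Invol.invol (φ := φ) x, e, map_zero])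
  have hne : φ x - x ≠ 0 := sub_ne_zero.2 hx
  have hab : φ a * a = -1 := by rw [mul_comm]; exact ha
  refine ⟨a, x / φ x * a, φ x / (φ x - x), ha, ?_, ?_⟩
  · rw [map_mul, map_div₀, Invol.invol]
    calc x / φ x * a * (φ x / x * φ a) = (a * φ a) * (x / φ x * (φ x / x)) := by ring
      _ = -1 := by rw [ha]; field_simp
  · calc φ x / (φ x - x) * (1 + φ a * (x / φ x * a))
        = φ x / (φ x - x) * (1 + (φ a * a) * (x / φ x)) := by ring
      _ = φ x / (φ x - x) * (1 - x / φ x) := by rw [hab]; ring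
      _ = 1 := by field_simp

/-- A matrix whose columns form a hyperbolic basis of the standard Hermitian form. -/
theorem exists_D [Invol φ] (hG : Good φ) :
    ∃ D : Matrix (Fin n) (Fin n) K, ct φ D * D = Jm n K := by
  obtain ⟨a, b, β, ha, hb, hβ⟩ := exists_hyp hG
  obtain ⟨u, hu⟩ : ∃ u : Fin n → K, u = fun j => if 2 * j.val + 1 ≤ n then 1 else β * b :=
    ⟨_, rfl⟩
  obtain ⟨v, hv⟩ : ∃ v : Fin n → K, v = fun j =>
      if 2 * j.val + 1 < n then a else if 2 * j.val + 1 = n then 0 else β := ⟨_, rfl⟩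
  have hφβ : φ β * (1 + a * φ b) = 1 := by
    have h := congrArg φ hβ
    rw [map_mul, map_add, map_one, map_mul, Invol.invol] at h
    exact h
  have h1 : ∀ i : Fin n, i ≠ i.rev → φ (u i) * u i + φ (v i) * v i = 0 := by
    intro i hi
    rw [hu, hv]
    beta_reduce
    by_cases h1 : 2 * i.val + 1 < n
    · rw [if_pos (le_of_lt h1), if_pos h1, map_one]
      linear_combination ha
    · have h2 : 2 * i.val + 1 ≠ n := fun e => hi (mid_iff.2 e).symm
      rw [if_neg (by omega), if_neg h1, if_neg h2, map_mul]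
      linear_combination (φ β * β) * hb
  have h2 : ∀ i : Fin n, i ≠ i.rev → φ (u i) * v i.rev + φ (v i) * u i.rev = 1 := by
    intro i hi
    rw [hu, hv]
    beta_reduce
    by_cases h1 : 2 * i.val + 1 < n
    · have h3 : n < 2 * i.rev.val + 1 := by rw [rev_val]; omega
      rw [if_pos (le_of_lt h1), if_neg (by omega), if_neg (by omega), if_pos h1,
        if_neg (by omega), map_one]
      linear_combination hβ
    · have h2 : 2 * i.val + 1 ≠ n := fun e => hi (mid_iff.2 e).symm
      have h3 : 2 * i.rev.val + 1 < n := by rw [rev_val]; have := i.2; omega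
      rw [if_neg (by omega), if_pos h3, if_neg h1, if_neg h2, if_pos (le_of_lt h3), map_mul]
      linear_combination hφβ
  have h3 : ∀ i : Fin n, i = i.rev → u i = 1 ∧ v i = 0 := by
    intro i hi
    have h : 2 * i.val + 1 = n := mid_iff.1 hi.symm
    rw [hu, hv]
    beta_reduce
    rw [if_pos (by omega), if_neg (by omega), if_pos h]
    exact ⟨rfl, rfl⟩
  refine ⟨Matrix.of fun i j => (if i = j then u j else 0) + (if i = j.rev then v j else 0), ?_⟩
  ext i j
  rw [Matrix.mul_apply]
  simp only [ct_apply, Matrix.of_apply, map_add, apply_ite φ, map_zero, add_mul, ite_mul,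
    zero_mul, Finset.sum_add_distrib, Finset.sum_ite_eq', Finset.mem_univ, if_true]
  rw [Jm_apply]
  by_cases hij : i = j
  · subst hij
    by_cases hi : i = i.rev
    · obtain ⟨hu1, hv0⟩ := h3 i hi
      simp [hu1, hv0, hi.symm, ← hi]
    · have hi' : i.rev ≠ i := fun e => hi e.symm
      simp only [hi, hi', if_false, if_true, add_zero, zero_add, eq_self_iff_true, ↓reduceIte]
      linear_combination h1 i hi
  · by_cases hj : j = i.rev
    · have hi : i ≠ i.rev := fun e => hij (e.trans hj.symm)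
      have hi' : i.rev ≠ i := fun e => hi e.symm
      subst hj
      simp only [hi, hi', Fin.rev_rev, if_false, if_true, add_zero, zero_add, eq_self_iff_true,
        ↓reduceIte]
      linear_combination h2 i hi
    · have h4 : i ≠ j.rev := fun e => hj (by rw [e, Fin.rev_rev])
      have h5 : i.rev ≠ j := fun e => hj e.symm
      have h6 : i.rev ≠ j.rev := fun e => hij (Fin.rev_injective e)
      simp only [hij, hj, h4, h5, h6, if_false, add_zero, mul_zero]

/-! ### The isomorphism -/

section Iso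

variable {q : ℕ}

theorem conj_det {D D' : Matrix (Fin n) (Fin n) K} (h : D * D' = 1)
    (M : Matrix (Fin n) (Fin n) K) : (D * M * D').det = M.det := by
  rw [Matrix.det_mul, Matrix.det_mul, mul_comm D.det, mul_assoc, ← Matrix.det_mul, h,
    Matrix.det_one, mul_one]

theorem D'D {D : Matrix (Fin n) (Fin n) K} (hD : ct φ D * D = Jm n K) :
    Jm n K * ct φ D * D = 1 := by
  rw [Matrix.mul_assoc, hD, Jm_mul_Jm]

theorem DD' {D : Matrix (Fin n) (Fin n) K} (hD : ct φ D * D = Jm n K) :
    D * (Jm n K * ct φ D) = 1 := mul_eq_one_comm.1 (D'D hD)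

theorem toSU_mem [Invol φ] {D : Matrix (Fin n) (Fin n) K} (hD : ct φ D * D = Jm n K)
    (h : UG n φ) :
    ct φ (D * h.1.1 * (Jm n K * ct φ D)) * (D * h.1.1 * (Jm n K * ct φ D)) = 1 := by
  have hh : Jm n K * ct φ h.1.1 * Jm n K * h.1.1 = 1 := by
    rw [← adj_eq]
    exact adj_mul_self h
  rw [ct_mul, ct_mul, ct_mul, ct_ct, ct_Jm]
  calc D * Jm n K * (ct φ h.1.1 * ct φ D) * (D * h.1.1 * (Jm n K * ct φ D))
      = D * (Jm n K * ct φ h.1.1 * (ct φ D * D) * h.1.1) * (Jm n K * ct φ D) := by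
        simp only [Matrix.mul_assoc]
    _ = D * (Jm n K * ct φ h.1.1 * Jm n K * h.1.1) * (Jm n K * ct φ D) := by
        rw [hD]
    _ = 1 := by rw [hh, Matrix.mul_one, DD' hD]

theorem fromSU_mem [Invol φ] {D : Matrix (Fin n) (Fin n) K} (hD : ct φ D * D = Jm n K)
    (g : Matrix (Fin n) (Fin n) K) (hg : ct φ g * g = 1) :
    adj φ (Jm n K * ct φ D * g * D) * (Jm n K * ct φ D * g * D) = 1 := by
  rw [adj_eq, ct_mul, ct_mul, ct_mul, ct_ct, ct_Jm]
  calc Jm n K * (ct φ D * (ct φ g * (D * Jm n K))) * Jm n K * (Jm n K * ct φ D * g * D)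
      = Jm n K * ct φ D * ct φ g * D * (Jm n K * Jm n K) * (Jm n K * ct φ D) * g * D := by
        simp only [Matrix.mul_assoc]
    _ = Jm n K * ct φ D * ct φ g * (D * (Jm n K * ct φ D)) * g * D := by
        rw [Jm_mul_Jm, Matrix.mul_one]
        simp only [Matrix.mul_assoc]
    _ = Jm n K * ct φ D * (ct φ g * g) * D := by
        rw [DD' hD, Matrix.mul_one]
        simp only [Matrix.mul_assoc]
    _ = 1 := by rw [hg, Matrix.mul_one, D'D hD]

/-- The isomorphism from the antidiagonal-form unitary group to the standard one. -/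
noncomputable def toSU [Invol φ] (hφ : ∀ a, φ a = a ^ q) (hq : q ≠ 0)
    (D : Matrix (Fin n) (Fin n) K) (hD : ct φ D * D = Jm n K) : UG n φ ≃* Cfsg.SU n K q where
  toFun h := ⟨⟨D * h.1.1 * (Jm n K * ct φ D), by rw [conj_det (DD' hD), h.1.2]⟩,
    Cfsg.Agent.H88.U3.mem_SU_of_gram φ hφ _ ((gram_iff _).2 (toSU_mem hD h))⟩
  invFun g := ⟨⟨Jm n K * ct φ D * g.1.1 * D, by rw [conj_det (D'D hD), g.1.2]⟩,
    fromSU_mem hD _ ((gram_iff _).1 (Cfsg.Agent.H88.U3.gram_of_mem_SU φ hφ hq g.1 g.2))⟩
  left_inv h := by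
    apply ext_val
    show Jm n K * ct φ D * (D * h.1.1 * (Jm n K * ct φ D)) * D = h.1.1
    calc Jm n K * ct φ D * (D * h.1.1 * (Jm n K * ct φ D)) * D
        = (Jm n K * ct φ D * D) * h.1.1 * (Jm n K * ct φ D * D) := by
          simp only [Matrix.mul_assoc]
      _ = h.1.1 := by rw [D'D hD, Matrix.one_mul, Matrix.mul_one]
  right_inv g := by
    apply Subtype.ext
    apply Subtype.ext
    show D * (Jm n K * ct φ D * g.1.1 * D) * (Jm n K * ct φ D) = g.1.1
    calc D * (Jm n K * ct φ D * g.1.1 * D) * (Jm n K * ct φ D)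
        = (D * (Jm n K * ct φ D)) * g.1.1 * (D * (Jm n K * ct φ D)) := by
          simp only [Matrix.mul_assoc]
      _ = g.1.1 := by rw [DD' hD, Matrix.one_mul, Matrix.mul_one]
  map_mul' h₁ h₂ := by
    apply Subtype.ext
    apply Subtype.ext
    show D * (h₁.1.1 * h₂.1.1) * (Jm n K * ct φ D) =
      (D * h₁.1.1 * (Jm n K * ct φ D)) * (D * h₂.1.1 * (Jm n K * ct φ D))
    calc D * (h₁.1.1 * h₂.1.1) * (Jm n K * ct φ D)
        = D * h₁.1.1 * 1 * h₂.1.1 * (Jm n K * ct φ D) := by
          rw [Matrix.mul_one]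
          simp only [Matrix.mul_assoc]
      _ = (D * h₁.1.1 * (Jm n K * ct φ D)) * (D * h₂.1.1 * (Jm n K * ct φ D)) := by
          rw [← D'D hD]
          simp only [Matrix.mul_assoc]

theorem map_center_equiv {G H : Type*} [Group G] [Group H] (e : G ≃* H) :
    (Subgroup.center G).map (e : G →* H) = Subgroup.center H := by
  ext y
  constructor
  · rintro ⟨z, hz, rfl⟩
    rw [Subgroup.mem_center_iff]
    intro g
    obtain ⟨g', rfl⟩ := e.surjective g
    show e g' * e z = e z * e g'
    rw [← map_mul, ← map_mul, Subgroup.mem_center_iff.1 hz g']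
  · intro hy
    refine ⟨e.symm y, ?_, e.apply_symm_apply y⟩
    show e.symm y ∈ Subgroup.center G
    rw [Subgroup.mem_center_iff]
    intro g
    apply e.injective
    rw [map_mul, map_mul, e.apply_symm_apply]
    exact Subgroup.mem_center_iff.1 hy (e g)

/-- The isomorphism of the central quotients. -/
noncomputable def toPSU [Invol φ] (hφ : ∀ a, φ a = a ^ q) (hq : q ≠ 0)
    (D : Matrix (Fin n) (Fin n) K) (hD : ct φ D * D = Jm n K) : PU n φ ≃* Cfsg.PSU n K q :=
  QuotientGroup.congr _ _ (toSU hφ hq D hD) (map_center_equiv _)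

/-- The Frobenius involution has the required field properties. -/
theorem good_frob (hK : Fintype.card K = q ^ 2) (hφ : ∀ a, φ a = a ^ q) [Invol φ] : Good φ := by
  obtain ⟨z, hz⟩ := Cfsg.Agent.H7.exists_not_fixed hK
  have hz' : z - φ z ≠ 0 := by
    rw [hφ]
    exact sub_ne_zero.2 hz
  refine ⟨⟨z - φ z, hz', ?_⟩, ⟨z / (z - φ z), ?_⟩, ⟨z, ?_⟩, ?_⟩
  · rw [map_sub, Invol.invol]
    ring
  · rw [map_div₀, map_sub, Invol.invol]
    have h1 : φ z - z ≠ 0 := fun e => hz' (by linear_combination -e)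
    field_simp
    ring
  · rw [hφ]
    exact fun e => hz e.symm
  · intro c hc
    by_cases hc0 : c = 0
    · exact ⟨0, by rw [hc0, zero_mul]⟩
    · obtain ⟨x, hx⟩ := Cfsg.Agent.H7.exists_norm_eq hK c hc0 (by rw [← hφ]; exact hc)
      exact ⟨x, by rw [hφ, ← pow_succ']; exact hx⟩

end Iso

end Cfsg.Agent.H88.Un
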