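import Cfsg.Agent.H88.SimpleCrit
import Cfsg.Agent.H88.SylFus

set_option autoImplicit false
set_option maxHeartbeats 1000000

/-!
helper88: simplicity of the fusion system of a finite group from one centric fully normalized
subgroup `R` such that `N_G(S)` lies in the subgroup generated by the `p`-elements of `N_G(R)`;
and the version starting from data on a fixed Sylow subgroup.
-/

namespace Cfsg.Agent.H88

open Cfsg Cfsg.FusionSystem Cfsg.Agent.H86

/-- Simplicity criterion with one centric fully normalized subgroup. -/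
theorem simple_of_group_crit_centric {G : Type*} [Group G] [Finite G] (p : ℕ) [Fact p.Prime]
    (S : Sylow p G) (hS1 : (S : Subgroup G) ≠ ⊥)
    (ha : ∀ T : Subgroup G, (groupFusionSystem (S : Subgroup G)).StronglyClosed T →
      T = ⊥ ∨ T = (S : Subgroup G))
    (R : Subgroup G) (hfn : (groupFusionSystem (S : Subgroup G)).IsFullyNormalized R)
    (hcen : (groupFusionSystem (S : Subgroup G)).IsCentric R)
    (hb : ∀ g ∈ Subgroup.normalizer ((S : Subgroup G) : Set G),
      g ∈ Subgroup.closure {g : G | g ∈ Subgroup.normalizer (R : Set G) ∧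
        ∃ k : ℕ, orderOf g = p ^ k}) :
    (groupFusionSystem (S : Subgroup G)).IsSimple p := by
  have hSp : IsPGroup p (S : Subgroup G) := S.isPGroup'
  have hFsat := groupFusionSystem_saturated p S
  refine ⟨hFsat, hS1, fun T E hE => ?_⟩
  obtain ⟨⟨hEsat, -, hEinv⟩, -⟩ := hE
  rcases ha T hEinv.2.1 with hT | hT
  · exact Or.inl hT
  · right
    subst hT
    refine ⟨rfl, hom_eq_of_invariant_of_aut hEinv ?_⟩
    intro α hα
    have hαF := hα
    rw [autGroup_groupFusionSystem le_rfl] at hα
    obtain ⟨g, -, hgα⟩ := (mem_autInducedBy_iff _ _ α).1 hα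
    have hgN := H87.mem_normalizer_of_induces hgα
    have hg := hb g hgN
    have hRS : R ≤ (S : Subgroup G) := hfn.1
    haveI : Finite R := inferInstance
    have hK : ∀ g ∈ Subgroup.closure {g : G | g ∈ Subgroup.normalizer (R : Set G) ∧
        ∃ k : ℕ, orderOf g = p ^ k},
        g ∈ Subgroup.normalizer (R : Set G) ∧ Mor E R (fun x => g * x * g⁻¹) := by
      intro g hg
      induction hg using Subgroup.closure_induction with
      | mem g hg =>
        obtain ⟨hgN, k, hk⟩ := hg
        refine ⟨hgN, ?_⟩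
        have hmaps : ∀ x ∈ R, g * x * g⁻¹ ∈ R := fun x hx => (Subgroup.mem_normalizer_iff.1 hgN x).1 hx
        have hmor : Mor (groupFusionSystem (S : Subgroup G)) R (fun x => g * x * g⁻¹) :=
          mor_groupFusionSystem_iff.2 ⟨hRS, fun x hx => hRS (hmaps x hx), g, fun _ _ => rfl⟩
        have himg : imgS R (fun x => g * x * g⁻¹) = R := imgS_eq_of_maps hmor hmaps
        have hpow : ∀ (n : ℕ) (x : R), (((mkAut hmor himg) ^ n) x : G) = g ^ n * x * (g ^ n)⁻¹ := by
          intro n
          induction n with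
          | zero => intro x; simp
          | succ n ih =>
            intro x
            rw [pow_succ, MulAut.mul_apply, ih, mkAut_apply, pow_succ]
            group
        have h1 : (mkAut hmor himg) ^ (p ^ k) = 1 := by
          ext x
          rw [hpow, ← hk, pow_orderOf_eq_one]
          simp
        exact (pElement_aut_mem_of_invariant hSp hFsat hEinv hfn (mkAut_mem hmor himg) h1).congr
          (fun x hx => autFun_mkAut hmor himg hx)
      | one =>
        exact ⟨one_mem _, (Mor.id E hRS).congr (fun x _ => by simp)⟩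
      | mul x y _ _ ihx ihy =>
        obtain ⟨hx, hmx⟩ := ihx
        obtain ⟨hy, hmy⟩ := ihy
        refine ⟨mul_mem hx hy, (hmy.comp hmx (fun z hz =>
          (Subgroup.mem_normalizer_iff.1 hy z).1 hz)).congr (fun z _ => ?_)⟩
        show x * (y * z * y⁻¹) * x⁻¹ = x * y * z * (x * y)⁻¹
        group
      | inv x _ ih =>
        obtain ⟨hx, hmx⟩ := ih
        refine ⟨inv_mem hx, ?_⟩
        have hmaps : ∀ z ∈ R, x * z * x⁻¹ ∈ R := fun z hz => (Subgroup.mem_normalizer_iff.1 hx z).1 hz
        have himg : imgS R (fun z => x * z * x⁻¹) = R := imgS_eq_of_maps hmx hmaps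
        have hinv := hmx.inv
        rw [himg] at hinv
        refine hinv.congr (fun z hz => ?_)
        have hz' : x⁻¹ * z * x ∈ R := by
          have := (Subgroup.mem_normalizer_iff.1 (inv_mem hx) z).1 hz
          rwa [inv_inv] at this
        have h2 : z = (fun z => x * z * x⁻¹) (x⁻¹ * z * x) := by
          show z = x * (x⁻¹ * z * x) * x⁻¹
          group
        conv_lhs => rw [h2]
        rw [invOn_apply hmx.injOn hz', inv_inv]
    refine H90.mor_of_centric_restrict hSp hFsat hEsat hEinv.1 ((mem_autGroup_iff le_rfl α).1 hαF)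
      hRS hcen ?_
    refine (hK g hg).2.congr (fun x hx => ?_)
    rw [autFun_of_mem α (hRS hx)]
    exact (hgα ⟨x, hRS hx⟩).symm

/-- Simplicity from a normal self-centralizing subgroup `E` of the Sylow subgroup `S` such that
`N_G(S)` lies in the subgroup generated by the `p`-elements of `N_G(E)`. -/
theorem simple_of_centric_normal {G : Type*} [Group G] [Finite G] (p : ℕ) [Fact p.Prime]
    (S : Sylow p G) (hS1 : (S : Subgroup G) ≠ ⊥)
    (ha : ∀ T : Subgroup G, (groupFusionSystem (S : Subgroup G)).StronglyClosed T →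
      T = ⊥ ∨ T = (S : Subgroup G))
    (E : Subgroup G) (hES : E ≤ (S : Subgroup G))
    (hEn : (S : Subgroup G) ≤ Subgroup.normalizer (E : Set G))
    (hEc : Subgroup.centralizer (E : Set G) ≤ E)
    (hb : ∀ g ∈ Subgroup.normalizer ((S : Subgroup G) : Set G),
      g ∈ Subgroup.closure {g : G | g ∈ Subgroup.normalizer (E : Set G) ∧
        ∃ k : ℕ, orderOf g = p ^ k}) :
    (groupFusionSystem (S : Subgroup G)).IsSimple p := by
  refine simple_of_group_crit_centric p S hS1 ha E ?_ ?_ hb
  · refine ⟨hES, fun Q _ => ?_⟩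
    have h1 : normalizerIn (S : Subgroup G) E = (S : Subgroup G) := by
      unfold normalizerIn
      exact inf_eq_left.2 hEn
    rw [h1]
    exact Subgroup.card_le_of_le inf_le_left
  · refine ⟨hES, fun Q hQ => ?_⟩
    obtain ⟨f, hf, rfl⟩ := isConj_iff.1 hQ
    obtain ⟨-, -, g, hg⟩ := mor_groupFusionSystem_iff.1 hf
    intro x hx
    have hxc : x ∈ Subgroup.centralizer ((imgS E f : Subgroup G) : Set G) := hx.2
    have h2 : g⁻¹ * x * g ∈ Subgroup.centralizer (E : Set G) := by
      rw [Subgroup.mem_centralizer_iff]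
      intro e he
      have h3 : f e ∈ imgS E f := (hf.mem_imgS).2 ⟨e, he, rfl⟩
      have h4 := (Subgroup.mem_centralizer_iff.1 hxc) (f e) h3
      rw [hg e he] at h4
      have e1 : e * (g⁻¹ * x * g) = g⁻¹ * (g * e * g⁻¹ * x) * g := by group
      have e2 : g⁻¹ * x * g * e = g⁻¹ * (x * (g * e * g⁻¹)) * g := by group
      rw [e1, e2, h4]
    have h5 := hEc h2
    have h6 : f (g⁻¹ * x * g) ∈ imgS E f := (hf.mem_imgS).2 ⟨_, h5, rfl⟩
    rw [hg _ h5] at h6
    have e3 : g * (g⁻¹ * x * g) * g⁻¹ = x := by group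
    rwa [e3] at h6

open scoped Pointwise in
/-- The same, from data on one fixed Sylow subgroup `P`, for every Sylow subgroup `S`. -/
theorem simple_of_centric_model {G : Type*} [Group G] [Finite G] (p : ℕ) [Fact p.Prime]
    (P : Sylow p G) (hP1 : (P : Subgroup G) ≠ ⊥)
    (hcl : ∀ T : Subgroup G, T ≤ (P : Subgroup G) → T ≠ ⊥ →
      (∀ x ∈ T, ∀ d : G, d * x * d⁻¹ ∈ (P : Subgroup G) → d * x * d⁻¹ ∈ T) →
      T = (P : Subgroup G))
    (E : Subgroup G) (hEP : E ≤ (P : Subgroup G))
    (hEn : (P : Subgroup G) ≤ Subgroup.normalizer (E : Set G))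
    (hEc : Subgroup.centralizer (E : Set G) ≤ E)
    (hb : ∀ g ∈ Subgroup.normalizer ((P : Subgroup G) : Set G),
      g ∈ Subgroup.closure {g : G | g ∈ Subgroup.normalizer (E : Set G) ∧
        ∃ k : ℕ, orderOf g = p ^ k})
    (S : Sylow p G) : (groupFusionSystem (S : Subgroup G)).IsSimple p := by
  obtain ⟨c, hc⟩ := MulAction.exists_smul_eq G P S
  have hSP : (S : Subgroup G) = MulAut.conj c • (P : Subgroup G) := by
    rw [← hc, Sylow.coe_subgroup_smul]
  have hmem : ∀ x, x ∈ (S : Subgroup G) ↔ c⁻¹ * x * c ∈ (P : Subgroup G) := by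
    intro x
    rw [hSP, Subgroup.mem_pointwise_smul_iff_inv_smul_mem, MulAut.smul_def,
      MulAut.conj_inv_apply]
  have hmemE : ∀ x, x ∈ E.comap (MulAut.conj c⁻¹).toMonoidHom ↔ c⁻¹ * x * c ∈ E := by
    intro x
    rw [Subgroup.mem_comap]
    have e : (MulAut.conj c⁻¹).toMonoidHom x = c⁻¹ * x * c := by
      show MulAut.conj c⁻¹ x = _
      rw [MulAut.conj_apply, inv_inv]
    rw [e]
  refine simple_of_centric_normal p S ?_ ?_ (E.comap (MulAut.conj c⁻¹).toMonoidHom) ?_ ?_ ?_ ?_
  · intro h
    apply hP1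
    rw [eq_bot_iff]
    intro x hx
    have h1 : c * x * c⁻¹ ∈ (S : Subgroup G) := by
      rw [hmem]
      have e : c⁻¹ * (c * x * c⁻¹) * c = x := by group
      rw [e]
      exact hx
    rw [h, Subgroup.mem_bot] at h1
    rw [Subgroup.mem_bot]
    have e : x = c⁻¹ * (c * x * c⁻¹) * c := by group
    rw [e, h1]
    group
  · intro T hT
    have hTS : T ≤ (S : Subgroup G) := by
      have h := hT
      rw [stronglyClosed_iff] at h
      exact h.1
    by_cases hT1 : T = ⊥
    · exact Or.inl hT1
    right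
    have hmem0 : ∀ y, y ∈ T.comap (MulAut.conj c).toMonoidHom ↔ c * y * c⁻¹ ∈ T := by
      intro y
      rw [Subgroup.mem_comap]
      rfl
    have h0 := hcl (T.comap (MulAut.conj c).toMonoidHom) ?_ ?_ ?_
    · apply le_antisymm hTS
      intro x hx
      have h1 : c⁻¹ * x * c ∈ T.comap (MulAut.conj c).toMonoidHom := by
        rw [h0]
        exact (hmem x).1 hx
      rw [hmem0] at h1
      have e : c * (c⁻¹ * x * c) * c⁻¹ = x := by group
      rwa [e] at h1
    · intro y hy
      rw [hmem0] at hy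
      have := (hmem _).1 (hTS hy)
      have e : c⁻¹ * (c * y * c⁻¹) * c = y := by group
      rwa [e] at this
    · intro h
      apply hT1
      rw [eq_bot_iff]
      intro t ht
      have h1 : c⁻¹ * t * c ∈ T.comap (MulAut.conj c).toMonoidHom := by
        rw [hmem0]
        have e : c * (c⁻¹ * t * c) * c⁻¹ = t := by group
        rw [e]
        exact ht
      rw [h, Subgroup.mem_bot] at h1
      rw [Subgroup.mem_bot]
      have e : t = c * (c⁻¹ * t * c) * c⁻¹ := by group
      rw [e, h1]
      group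
    · intro y hy d hd
      rw [hmem0] at hy ⊢
      have e : c * (d * y * d⁻¹) * c⁻¹ = (c * d * c⁻¹) * (c * y * c⁻¹) * (c * d * c⁻¹)⁻¹ := by
        group
      rw [e]
      apply stronglyClosed_conj_mem_of_mem hT hy
      rw [← e, hmem]
      have e2 : c⁻¹ * (c * (d * y * d⁻¹) * c⁻¹) * c = d * y * d⁻¹ := by group
      rw [e2]
      exact hd
  · intro x hx
    exact (hmem x).2 (hEP ((hmemE x).1 hx))
  · intro x hx
    rw [Subgroup.mem_normalizer_iff]
    intro y
    rw [hmemE, hmemE]
    have h1 := (Subgroup.mem_normalizer_iff.1 (hEn ((hmem x).1 hx))) (c⁻¹ * y * c)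
    have e : c⁻¹ * x * c * (c⁻¹ * y * c) * (c⁻¹ * x * c)⁻¹ = c⁻¹ * (x * y * x⁻¹) * c := by group
    rw [e] at h1
    exact h1
  · intro x hx
    rw [hmemE]
    apply hEc
    rw [Subgroup.mem_centralizer_iff]
    intro e he
    have h1 : c * e * c⁻¹ ∈ E.comap (MulAut.conj c⁻¹).toMonoidHom := by
      rw [hmemE]
      have e0 : c⁻¹ * (c * e * c⁻¹) * c = e := by group
      rw [e0]
      exact he
    have h2 := (Subgroup.mem_centralizer_iff.1 hx) (c * e * c⁻¹) h1
    have e1 : e * (c⁻¹ * x * c) = c⁻¹ * (c * e * c⁻¹ * x) * c := by group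
    have e2 : c⁻¹ * x * c * e = c⁻¹ * (x * (c * e * c⁻¹)) * c := by group
    rw [e1, e2, h2]
  · intro g hg
    have h1 : c⁻¹ * g * c ∈ Subgroup.normalizer ((P : Subgroup G) : Set G) := by
      rw [Subgroup.mem_normalizer_iff] at hg ⊢
      intro y
      have h2 := hg (c * y * c⁻¹)
      rw [hmem, hmem] at h2
      have e1 : c⁻¹ * (c * y * c⁻¹) * c = y := by group
      have e2 : c⁻¹ * (g * (c * y * c⁻¹) * g⁻¹) * c = c⁻¹ * g * c * y * (c⁻¹ * g * c)⁻¹ := by
        group
      rw [e1, e2] at h2
      exact h2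
    have h3 := hb _ h1
    have key : Subgroup.closure {g : G | g ∈ Subgroup.normalizer (E : Set G) ∧
        ∃ k : ℕ, orderOf g = p ^ k} ≤
        (Subgroup.closure {g : G | g ∈ Subgroup.normalizer
          ((E.comap (MulAut.conj c⁻¹).toMonoidHom : Subgroup G) : Set G) ∧
          ∃ k : ℕ, orderOf g = p ^ k}).comap (MulAut.conj c).toMonoidHom := by
      rw [Subgroup.closure_le]
      rintro k ⟨hkN, j, hj⟩
      apply Subgroup.subset_closure
      refine ⟨?_, j, ?_⟩
      · show c * k * c⁻¹ ∈ _
        rw [Subgroup.mem_normalizer_iff]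
        intro y
        rw [hmemE, hmemE]
        have h5 := (Subgroup.mem_normalizer_iff.1 hkN) (c⁻¹ * y * c)
        have e : c⁻¹ * (c * k * c⁻¹ * y * (c * k * c⁻¹)⁻¹) * c = k * (c⁻¹ * y * c) * k⁻¹ := by
          group
        rw [e]
        exact h5
      · rw [← hj]
        exact orderOf_injective (MulAut.conj c).toMonoidHom (MulAut.conj c).injective k
    have h4 := key h3
    rw [Subgroup.mem_comap] at h4
    have e : (MulAut.conj c).toMonoidHom (c⁻¹ * g * c) = g := by
      show MulAut.conj c (c⁻¹ * g * c) = g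
      rw [MulAut.conj_apply]
      group
    rwa [e] at h4

end Cfsg.Agent.H88
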