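import Cfsg.Agent.H88.StND

/-!
helper88: Steinberg module for `Ω⁻_{2m+2}(q)`: the twisted node, stability of the Steinberg
module under the isometry group, and the Steinberg character of `PΩ⁻_{2m+2}(q)` for `m ≥ 3`.
-/

set_option autoImplicit false

namespace Cfsg.Agent.H88.StN

open Matrix Cfsg.Agent.H78.StSL Cfsg.Agent.H78.StM Cfsg.Agent.H50.AutPSL

variable {m : ℕ} {F : Type*} [Field F] [Fintype F] {a b : F}

/-- The twisted root group at the pair `k`. -/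
def XT (a b : F) (k : Fin m) : Set (OGm m F a b) :=
  {x | ∃ c1 c2 : F, ∀ (v : Fin (2 * m + 2) → F) (c : Fin (2 * m + 2)),
    (mat x *ᵥ v) c = twF m a b k c1 c2 v c}

omit [Fintype F] in
theorem mem_XT (k : Fin m) (x : OGm m F a b) (c1 c2 : F)
    (hx : ∀ (v : Fin (2 * m + 2) → F) (c : Fin (2 * m + 2)),
      (mat x *ᵥ v) c = twF m a b k c1 c2 v c) : x ∈ XT a b k := ⟨c1, c2, hx⟩

theorem sT_symm (k : Fin m) (hk : k.val + 1 = m) (w : WN m) (c : Fin (2 * m + 2)) :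
    ((⟨sT m k, sT_mem k hk⟩ * w : WN m)).1.symm c =
      w.1.symm (Equiv.swap (pE m k) (pF m k) c) := by
  have e1 : ((⟨sT m k, sT_mem k hk⟩ * w : WN m)).1 = Equiv.swap (pE m k) (pF m k) * w.1 := rfl
  rw [e1, symm_swap_mul]

theorem tw_hr (hab : ∀ z₁ z₂ : F, z₁ ^ 2 + a * z₁ * z₂ + b * z₂ ^ 2 = 0 → z₁ = 0 ∧ z₂ = 0)
    (k : Fin m) (hk : k.val + 1 = m) (N : OGm m F a b)
    (hN : ∀ (v : Fin (2 * m + 2) → F) (c : Fin (2 * m + 2)),
      (mat N *ᵥ v) c = v (Equiv.swap (pE m k) (pF m k) c))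
    (x : OGm m F a b) (hxX : x ∈ XT a b k) (hx1 : x ≠ 1) :
    ∃ x' ∈ XT a b k, ∀ w : WN m, w.1.symm (pE m k) < w.1.symm (pF m k) →
      (N * x) • aN m F (⟨sT m k, sT_mem k hk⟩ * w) =
        x' • aN m F (⟨sT m k, sT_mem k hk⟩ * w) := by
  obtain ⟨c1, c2, hx⟩ := hxX
  obtain ⟨x', hx'⟩ := P.exists_xtw m a b k (-(c1 / (c1 ^ 2 + a * c1 * c2 + b * c2 ^ 2)))
    (-(c2 / (c1 ^ 2 + a * c1 * c2 + b * c2 ^ 2)))
  obtain ⟨x'', hx''⟩ := P.exists_xtw m a b k (c1 / (c1 ^ 2 + a * c1 * c2 + b * c2 ^ 2))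
    (c2 / (c1 ^ 2 + a * c1 * c2 + b * c2 ^ 2))
  have hx'T : ∀ (v : Fin (2 * m + 2) → F) (c : Fin (2 * m + 2)),
      (mat x' *ᵥ v) c = twF m a b k (-(c1 / (c1 ^ 2 + a * c1 * c2 + b * c2 ^ 2)))
        (-(c2 / (c1 ^ 2 + a * c1 * c2 + b * c2 ^ 2))) v c := hx'
  have hx''T : ∀ (v : Fin (2 * m + 2) → F) (c : Fin (2 * m + 2)),
      (mat x'' *ᵥ v) c = twF m a b k (c1 / (c1 ^ 2 + a * c1 * c2 + b * c2 ^ 2))
        (c2 / (c1 ^ 2 + a * c1 * c2 + b * c2 ^ 2)) v c := hx''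
  refine ⟨x', mem_XT k x' _ _ hx'T, ?_⟩
  intro w hw
  apply tw_rel k hab N x x' c1 c2 hN hx hx1 hx'T x'' hx''T
  rw [sT_symm k hk, sT_symm k hk, Equiv.swap_apply_left, Equiv.swap_apply_right]
  exact hw

theorem tw_hf (k : Fin m) (hk : k.val + 1 = m) (N : OGm m F a b)
    (hN : ∀ (v : Fin (2 * m + 2) → F) (c : Fin (2 * m + 2)),
      (mat N *ᵥ v) c = v (Equiv.swap (pE m k) (pF m k) c))
    (u : OGm m F a b) (hu : IsUniM u) :
    ∃ u' : OGm m F a b, IsUniM u' ∧ ∃ x ∈ XT a b k, u = u' * x ∧ IsUniM (N * u' * N⁻¹) := by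
  obtain ⟨u', x, c1, c2, hu', hx, hux, hc⟩ := P.tw_factor m a b k hk N hN u hu
  have hxT : ∀ (v : Fin (2 * m + 2) → F) (c : Fin (2 * m + 2)),
      (mat x *ᵥ v) c = twF m a b k c1 c2 v c := hx
  exact ⟨u', hu', x, mem_XT k x c1 c2 hxT, hux, hc⟩

theorem tw_hn (k : Fin m) (hk : k.val + 1 = m) (N : OGm m F a b)
    (hN : ∀ (v : Fin (2 * m + 2) → F) (c : Fin (2 * m + 2)),
      (mat N *ᵥ v) c = v (Equiv.swap (pE m k) (pF m k) c)) (w : WN m) :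
    N • aN m F w = aN m F (⟨sT m k, sT_mem k hk⟩ * w) :=
  perm_smul N (pE m k) (pF m k) hN w _ rfl

/-- The rank one data at the twisted node. -/
theorem tw_nodeN (hab : ∀ z₁ z₂ : F, z₁ ^ 2 + a * z₁ * z₂ + b * z₂ ^ 2 = 0 → z₁ = 0 ∧ z₂ = 0)
    (ε : WN m →* ℤˣ) (k : Fin m) (hk : k.val + 1 = m) (hε : ε ⟨sT m k, sT_mem k hk⟩ = -1)
    (N : OGm m F a b)
    (hN : ∀ (v : Fin (2 * m + 2) → F) (c : Fin (2 * m + 2)),
      (mat N *ᵥ v) c = v (Equiv.swap (pE m k) (pF m k) c)) :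
    ∀ u : (UM m F a b : Subgroup (OGm m F a b)),
      trep (OGm m F a b) (Flg (2 * m + 2) F) (N * u) (stE (aN m F) (sgN ε)) ∈
        stV (UM m F a b) (aN m F) (sgN ε) := by
  have h1 : (⟨sT m k, sT_mem k hk⟩ : WN m).1 * (⟨sT m k, sT_mem k hk⟩ : WN m).1 = 1 :=
    Equiv.swap_mul_self _ _
  have h2 : (⟨sT m k, sT_mem k hk⟩ : WN m).1 (pE m k) = pF m k := Equiv.swap_apply_left _ _
  have h3 : (⟨sT m k, sT_mem k hk⟩ : WN m).1 (pF m k) = pE m k := Equiv.swap_apply_right _ _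
  exact node_stableN ε ⟨sT m k, sT_mem k hk⟩ h1 hε N (XT a b k) (pE m k) (pF m k) h2 h3
    (ne_FE k).symm (tw_hn k hk N hN)
    (fun x hx => by
      obtain ⟨c1, c2, hx⟩ := hx
      exact isUniM_xtw k x c1 c2 hx)
    (fun x hx w hw => by
      obtain ⟨c1, c2, hx⟩ := hx
      exact tw_fix k x c1 c2 hx w hw)
    (tw_hr hab k hk N hN) (tw_hf k hk N hN)

/-- The Steinberg submodule is stable under the isometry group. -/
theorem stable_N (hm : 3 ≤ m)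
    (hab : ∀ z₁ z₂ : F, z₁ ^ 2 + a * z₁ * z₂ + b * z₂ ^ 2 = 0 → z₁ = 0 ∧ z₂ = 0)
    (ε : WN m →* ℤˣ)
    (hε1 : ∀ (k : Fin m) (hk : k.val + 1 < m) (h : sS m k hk ∈ WN m), ε ⟨sS m k hk, h⟩ = -1)
    (hε2 : ∀ (k : Fin m) (_ : k.val + 1 = m) (h : sT m k ∈ WN m), ε ⟨sT m k, h⟩ = -1) :
    ∀ g : OGm m F a b, ∀ v ∈ stV (UM m F a b) (aN m F) (sgN ε),
      trep (OGm m F a b) (Flg (2 * m + 2) F) g v ∈ stV (UM m F a b) (aN m F) (sgN ε) := by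
  classical
  obtain ⟨T, hT⟩ : ∃ T : Set (OGm m F a b), T = {g | ∀ u : (UM m F a b : Subgroup (OGm m F a b)),
      trep (OGm m F a b) (Flg (2 * m + 2) F) (g * u) (stE (aN m F) (sgN ε)) ∈
        stV (UM m F a b) (aN m F) (sgN ε)} := ⟨_, rfl⟩
  have hTmem : ∀ g, g ∈ T ↔ ∀ u : (UM m F a b : Subgroup (OGm m F a b)),
      trep (OGm m F a b) (Flg (2 * m + 2) F) (g * u) (stE (aN m F) (sgN ε)) ∈
        stV (UM m F a b) (aN m F) (sgN ε) := by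
    intro g
    rw [hT]
    rfl
  apply stV_stable_of (UM m F a b) (aN m F) (sgN ε) T ?_ (fun g hg => (hTmem g).1 hg)
  apply P.ominus_gen m hm a b hab (Subgroup.closure T)
  · intro g hg
    apply Subgroup.subset_closure
    rw [hTmem]
    intro u
    exact trep_mem_stV _ _ _ _ ((UM m F a b).mul_mem hg u.2)
  · intro t ht
    apply Subgroup.subset_closure
    rw [hTmem]
    intro u
    have e : t * (u : OGm m F a b) = (t * u * t⁻¹) * t := by group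
    rw [e, trep_mul_apply, trep_stE_of_fix t (aN m F) (sgN ε) (fun w => blk_fix t ht w)]
    exact trep_mem_stV _ _ _ _ (P.blk_conj_uni m a b t u ht u.2)
  · intro k hk
    obtain ⟨N, hN⟩ := P.exists_nshort m a b k hk
    exact ⟨N, Subgroup.subset_closure ((hTmem N).2
      (short_nodeN k hk ε (hε1 k hk (sS_mem k hk)) N hN)), hN⟩
  · intro k hk
    obtain ⟨N, hN⟩ := P.exists_flip m a b k
    exact ⟨N, Subgroup.subset_closure ((hTmem N).2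
      (tw_nodeN hab ε k hk (hε2 k hk (sT_mem k hk)) N hN)), hN⟩

/-- The Steinberg character of `PΩ⁻_{2m+2}(q)`, `m ≥ 3`. -/
theorem main3 (p : ℕ) [Fact p.Prime] [CharP F p] (hm : 3 ≤ m)
    (hab : ∀ z₁ z₂ : F, z₁ ^ 2 + a * z₁ * z₂ + b * z₂ ^ 2 = 0 → z₁ = 0 ∧ z₂ = 0) :
    ∃ χ : Cfsg.POmega F (Cfsg.quadFormMinus m F a b) → ℂ,
      Cfsg.IsIrrCharacter (Cfsg.POmega F (Cfsg.quadFormMinus m F a b)) χ ∧
      ∀ P : Sylow p (Cfsg.POmega F (Cfsg.quadFormMinus m F a b)), χ 1 = Nat.card P ∧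
        ∀ x : Cfsg.POmega F (Cfsg.quadFormMinus m F a b), x ∈ P → x ≠ 1 → χ x = 0 := by
  obtain ⟨ε, hε1, hε2⟩ := P.exists_wn_sign m
  obtain ⟨w0, hw0⟩ : ∃ w0 : WN m, w0.1 = wl m := ⟨⟨wl m, P.wl_mem m⟩, rfl⟩
  have hUH : UM m F a b ≤ Cfsg.Omega F (Cfsg.quadFormMinus m F a b) :=
    fun g hg => P.ominus_uni_mem_omega m hm a b hab g hg
  have hUp : IsPGroup p (UM m F a b) := by
    rintro ⟨g, hg⟩
    obtain ⟨k, hk⟩ := P.ominus_uni_pow p m a b g hg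
    exact ⟨k, Subtype.ext hk⟩
  refine P.steinberg_sub_quot p (UM m F a b) (aN m F) (sgN ε) (aN m F 1)
    (fun u hu => uni_fix 1 rfl u hu) w0 ?_ ?_ (stable_N hm hab ε hε1 hε2) hUp
    (Cfsg.Omega F (Cfsg.quadFormMinus m F a b)) hUH ?_ ?_ ?_
  · show (((ε w0 : ℤˣ) : ℤ) : ℂ) ≠ 0
    rw [Int.cast_ne_zero]
    exact Units.ne_zero _
  · intro v hv w h
    exact big_cellN v ((UM m F a b).inv_mem hv) w0 w hw0 h
  · obtain ⟨g, hgΩ, hgg, hE, hF, hZ⟩ := P.exists_long m hm a b hab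
    exact ⟨g, hgΩ, long_smul g hgg hE hF hZ 1 w0 rfl hw0⟩
  · apply P.ominus_sylow p m hm a b hab
    · exact hUp.comap_of_injective (Subgroup.subtype _) (Subgroup.subtype_injective _)
    · rw [Nat.card_congr (Subgroup.subgroupOfEquivOfLe hUH).toEquiv]
      exact P.ominus_uni_card m a b (UM m F a b) (fun g hg => hg)
  · intro z _ hcomm w
    exact blk_fix z (P.ominus_center_blk m hm a b hab z (fun g hg => hcomm g hg)) w

end Cfsg.Agent.H88.StN
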