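import Mathlib
import Cfsg.Agent.H56.SqDefs
import Cfsg.Agent.H88.StNE
import Cfsg.Agent.H49.AutEich
import Cfsg.Agent.H49.MinusForm

/-!
helper88: piece S4625-MINUS for helper56. In characteristic 2 the group of unitriangular
isometries of the minus type quadratic form is generated by involutions (Eichler transformations
`E_{e_k, w}`): peel off the pairs `(e_k, f_k)` one at a time.
-/

set_option autoImplicit false
set_option linter.unusedSectionVars false
set_option linter.unusedVariables false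

namespace Cfsg.Agent.H88.Sq

open Matrix Cfsg Cfsg.Agent.H88.StN Cfsg.Agent.H56.Sq Cfsg.Agent.H49

variable {m : ℕ} {F : Type*} [Field F] {a b : F}

theorem polar_e (i : Fin m) (v : (Fin m ⊕ Fin m) ⊕ Fin 2 → F) :
    QuadraticMap.polar (⇑(QMin m F a b)) (Pi.single (Sum.inl (Sum.inl i)) 1) v =
      v (Sum.inl (Sum.inr i)) := by
  rw [QMin_coe, polar_quadFormMinus, single_dotProduct, one_mul]
  simp [minusGram, hypGram, Matrix.mulVec, dotProduct, Fintype.sum_sum_type, Matrix.one_apply]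

theorem polar_f (i : Fin m) (v : (Fin m ⊕ Fin m) ⊕ Fin 2 → F) :
    QuadraticMap.polar (⇑(QMin m F a b)) (Pi.single (Sum.inl (Sum.inr i)) 1) v =
      v (Sum.inl (Sum.inl i)) := by
  rw [QMin_coe, polar_quadFormMinus, single_dotProduct, one_mul]
  simp [minusGram, hypGram, Matrix.mulVec, dotProduct, Fintype.sum_sum_type, Matrix.one_apply]

theorem Q_e (i : Fin m) :
    QMin m F a b (Pi.single (Sum.inl (Sum.inl i)) 1) = 0 := by
  show Cfsg.quadFormMinus m F a b (Pi.single (Sum.inl (Sum.inl i)) 1) = 0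
  simp [Cfsg.quadFormMinus]

theorem Q_f (i : Fin m) :
    QMin m F a b (Pi.single (Sum.inl (Sum.inr i)) 1) = 0 := by
  show Cfsg.quadFormMinus m F a b (Pi.single (Sum.inl (Sum.inr i)) 1) = 0
  simp [Cfsg.quadFormMinus]

/-- Matrix entries through the action on the standard basis. -/
theorem entry_eq (g : OGm m F a b) (y y' : (Fin m ⊕ Fin m) ⊕ Fin 2) :
    ((g : Matrix.GeneralLinearGroup ((Fin m ⊕ Fin m) ⊕ Fin 2) F) :
      Matrix ((Fin m ⊕ Fin m) ⊕ Fin 2) ((Fin m ⊕ Fin m) ⊕ Fin 2) F) y y' =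
      act g (Pi.single y' 1) y := by
  show _ = (((g : Matrix.GeneralLinearGroup ((Fin m ⊕ Fin m) ⊕ Fin 2) F) :
      Matrix ((Fin m ⊕ Fin m) ⊕ Fin 2) ((Fin m ⊕ Fin m) ⊕ Fin 2) F) *ᵥ Pi.single y' 1) y
  rw [Matrix.mulVec_single_one]
  rfl

/-- Unitriangular isometries through the action on the standard basis. -/
theorem isUniM_iff (g : OGm m F a b) : IsUniM g ↔
    (∀ y y' : (Fin m ⊕ Fin m) ⊕ Fin 2, idx m y' < idx m y → act g (Pi.single y' 1) y = 0) ∧
    (∀ y : (Fin m ⊕ Fin m) ⊕ Fin 2, act g (Pi.single y 1) y = 1) ∧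
    act g (Pi.single (Sum.inr 1) 1) (Sum.inr 0) = 0 := by
  constructor
  · rintro ⟨⟨h1, h2⟩, h3⟩
    refine ⟨fun y y' h => ?_, fun y => ?_, ?_⟩
    · rw [← entry_eq, ← mat_idx]
      exact h1 _ _ h
    · rw [← entry_eq, ← mat_idx]
      exact h2 _
    · rw [← entry_eq, ← mat_idx]
      exact h3
  · rintro ⟨h1, h2, h3⟩
    refine ⟨⟨fun c d h => ?_, fun c => ?_⟩, ?_⟩
    · obtain ⟨y, rfl⟩ := (idx m).surjective c
      obtain ⟨y', rfl⟩ := (idx m).surjective d
      rw [mat_idx, entry_eq]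
      exact h1 y y' h
    · obtain ⟨y, rfl⟩ := (idx m).surjective c
      rw [mat_idx, entry_eq]
      exact h2 y
    · have := h3
      rw [← entry_eq, ← mat_idx] at this
      exact this

theorem polar_act' (g : OGm m F a b) (x y : (Fin m ⊕ Fin m) ⊕ Fin 2 → F) :
    QuadraticMap.polar (⇑(QMin m F a b)) (act g x) (act g y) =
      QuadraticMap.polar (⇑(QMin m F a b)) x y :=
  polar_act (QMin m F a b) g x y

theorem Q_act' (g : OGm m F a b) (x : (Fin m ⊕ Fin m) ⊕ Fin 2 → F) :
    QMin m F a b (act g x) = QMin m F a b x :=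
  Q_act (QMin m F a b) g x

/-- The Eichler transformation as an involution of the isometry group (characteristic 2). -/
theorem exists_eich [CharP F 2] (x w : (Fin m ⊕ Fin m) ⊕ Fin 2 → F)
    (hx : QMin m F a b x = 0) (hxw : QuadraticMap.polar (⇑(QMin m F a b)) x w = 0) :
    ∃ t : OGm m F a b, t * t = 1 ∧ ∀ v : (Fin m ⊕ Fin m) ⊕ Fin 2 → F,
      act t v = v + QuadraticMap.polar (⇑(QMin m F a b)) x v • w -
        QuadraticMap.polar (⇑(QMin m F a b)) w v • x -
        (QMin m F a b w * QuadraticMap.polar (⇑(QMin m F a b)) x v) • x := by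
  have hww : w + w = 0 := by
    funext y
    exact CharTwo.add_self_eq_zero _
  have h0 : QuadraticMap.polar (⇑(QMin m F a b)) x 0 = 0 := QuadraticMap.polar_zero_right _ _
  have hxww : QuadraticMap.polar (⇑(QMin m F a b)) x (w + w) = 0 := by rw [hww]; exact h0
  refine ⟨eichG (QMin m F a b) x w hx hxw, ?_, fun v => act_eichG _ _ _ _ _ v⟩
  exact (eichG_mul (QMin m F a b) x w w hx hxw hxw).trans
    ((eichG_congr (QMin m F a b) x x (w + w) 0 hx hx hxww h0 rfl hww).trans
      (eichG_zero (QMin m F a b) x hx h0))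

/-- Peeling off the pair `(e_k, f_k)` with an Eichler involution. -/
theorem peel [CharP F 2] (g : OGm m F a b) (hg : IsUniM g) (k : Fin m)
    (hfix : ∀ i : Fin m, i.val < k.val →
      act g (Pi.single (Sum.inl (Sum.inl i)) 1) = Pi.single (Sum.inl (Sum.inl i)) 1 ∧
      act g (Pi.single (Sum.inl (Sum.inr i)) 1) = Pi.single (Sum.inl (Sum.inr i)) 1) :
    ∃ t : OGm m F a b, IsUniM t ∧ t * t = 1 ∧
      ∀ i : Fin m, i.val ≤ k.val →
        act (t * g) (Pi.single (Sum.inl (Sum.inl i)) 1) = Pi.single (Sum.inl (Sum.inl i)) 1 ∧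
        act (t * g) (Pi.single (Sum.inl (Sum.inr i)) 1) = Pi.single (Sum.inl (Sum.inr i)) 1 := by
  classical
  obtain ⟨h1, h2, h3⟩ := (isUniM_iff g).1 hg
  have hkm := k.2
  obtain ⟨w, hw⟩ : ∃ w : (Fin m ⊕ Fin m) ⊕ Fin 2 → F,
      w = act g (Pi.single (Sum.inl (Sum.inr k)) 1) - Pi.single (Sum.inl (Sum.inr k)) 1 :=
    ⟨_, rfl⟩
  have hW1 : ∀ j : Fin m, j.val ≤ k.val → w (Sum.inl (Sum.inr j)) = 0 := by
    intro j hj
    rw [hw, Pi.sub_apply]
    rcases Nat.lt_or_ge j.val k.val with hlt | hge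
    · have hne : (Sum.inl (Sum.inr j) : (Fin m ⊕ Fin m) ⊕ Fin 2) ≠ Sum.inl (Sum.inr k) := by
        intro e
        simp only [Sum.inl.injEq, Sum.inr.injEq] at e
        rw [e] at hlt
        exact lt_irrefl _ hlt
      have hidx : idx m (Sum.inl (Sum.inr k)) < idx m (Sum.inl (Sum.inr j)) := by
        rw [Fin.lt_def]
        show 2 * m + 1 - k.val < 2 * m + 1 - j.val
        omega
      rw [h1 _ _ hidx, Pi.single_eq_of_ne hne, sub_zero]
    · have : j = k := Fin.ext (le_antisymm hj hge)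
      subst this
      rw [h2, Pi.single_eq_same, sub_self]
  have hW2 : ∀ i : Fin m, i.val < k.val → w (Sum.inl (Sum.inl i)) = 0 := by
    intro i hi
    have hne : (Sum.inl (Sum.inl i) : (Fin m ⊕ Fin m) ⊕ Fin 2) ≠ Sum.inl (Sum.inr k) := by
      simp
    have e1 : act g (Pi.single (Sum.inl (Sum.inr k)) 1) (Sum.inl (Sum.inl i)) = 0 := by
      calc act g (Pi.single (Sum.inl (Sum.inr k)) 1) (Sum.inl (Sum.inl i))
          = QuadraticMap.polar (⇑(QMin m F a b)) (Pi.single (Sum.inl (Sum.inr i)) 1)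
              (act g (Pi.single (Sum.inl (Sum.inr k)) 1)) := (polar_f i _).symm
        _ = QuadraticMap.polar (⇑(QMin m F a b)) (act g (Pi.single (Sum.inl (Sum.inr i)) 1))
              (act g (Pi.single (Sum.inl (Sum.inr k)) 1)) := by rw [(hfix i hi).2]
        _ = QuadraticMap.polar (⇑(QMin m F a b)) (Pi.single (Sum.inl (Sum.inr i)) 1)
              (Pi.single (Sum.inl (Sum.inr k)) 1) := polar_act' g _ _
        _ = (Pi.single (Sum.inl (Sum.inr k)) (1 : F) :
              (Fin m ⊕ Fin m) ⊕ Fin 2 → F) (Sum.inl (Sum.inl i)) := polar_f i _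
        _ = 0 := Pi.single_eq_of_ne hne _
    rw [hw, Pi.sub_apply, e1, Pi.single_eq_of_ne hne, sub_zero]
  have hW3 : QuadraticMap.polar (⇑(QMin m F a b)) (Pi.single (Sum.inl (Sum.inl k)) 1) w = 0 := by
    rw [polar_e]
    exact hW1 k le_rfl
  have hW4 : QMin m F a b w +
      QuadraticMap.polar (⇑(QMin m F a b)) (Pi.single (Sum.inl (Sum.inr k)) 1) w = 0 := by
    have hq : QMin m F a b (act g (Pi.single (Sum.inl (Sum.inr k)) 1)) = 0 := by
      rw [Q_act', Q_f]
    have hs : act g (Pi.single (Sum.inl (Sum.inr k)) 1) =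
        Pi.single (Sum.inl (Sum.inr k)) 1 + w := by
      rw [hw]; abel
    rw [hs, Q_add', Q_f, zero_add] at hq
    exact hq
  obtain ⟨t, htt, hact0⟩ := exists_eich (a := a) (b := b) (Pi.single (Sum.inl (Sum.inl k)) 1) w
    (Q_e k) hW3
  have hact : ∀ v : (Fin m ⊕ Fin m) ⊕ Fin 2 → F, act t v = v + v (Sum.inl (Sum.inr k)) • w -
      (QuadraticMap.polar (⇑(QMin m F a b)) w v + QMin m F a b w * v (Sum.inl (Sum.inr k))) •
        (Pi.single (Sum.inl (Sum.inl k)) (1 : F) : (Fin m ⊕ Fin m) ⊕ Fin 2 → F) := by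
    intro v
    rw [hact0, polar_e]
    funext y
    simp only [Pi.add_apply, Pi.sub_apply, Pi.smul_apply, smul_eq_mul]
    ring
  have hent : ∀ y y' : (Fin m ⊕ Fin m) ⊕ Fin 2, act t (Pi.single y' 1) y =
      (Pi.single y' (1 : F) : (Fin m ⊕ Fin m) ⊕ Fin 2 → F) y +
        (Pi.single y' (1 : F) : (Fin m ⊕ Fin m) ⊕ Fin 2 → F) (Sum.inl (Sum.inr k)) * w y -
      (QuadraticMap.polar (⇑(QMin m F a b)) w (Pi.single y' 1) + QMin m F a b w *
        (Pi.single y' (1 : F) : (Fin m ⊕ Fin m) ⊕ Fin 2 → F) (Sum.inl (Sum.inr k))) *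
        (Pi.single (Sum.inl (Sum.inl k)) (1 : F) : (Fin m ⊕ Fin m) ⊕ Fin 2 → F) y := by
    intro y y'
    rw [hact]
    simp only [Pi.add_apply, Pi.sub_apply, Pi.smul_apply, smul_eq_mul]
  have hUt : IsUniM t := by
    rw [isUniM_iff]
    refine ⟨fun y y' hlt => ?_, fun y => ?_, ?_⟩
    · have hne : y ≠ y' := by rintro rfl; exact lt_irrefl _ hlt
      have hA : (Pi.single y' (1 : F) : (Fin m ⊕ Fin m) ⊕ Fin 2 → F) (Sum.inl (Sum.inr k)) *
          w y = 0 := by
        by_cases hy' : y' = Sum.inl (Sum.inr k)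
        · subst hy'
          rw [Pi.single_eq_same, one_mul]
          rw [Fin.lt_def] at hlt
          rcases y with (i | j) | z
          · exfalso
            have h' : 2 * m + 1 - k.val < i.val := hlt
            have := i.2
            omega
          · apply hW1
            have h' : 2 * m + 1 - k.val < 2 * m + 1 - j.val := hlt
            omega
          · exfalso
            have h' : 2 * m + 1 - k.val < m + z.val := hlt
            have := z.2
            omega
        · rw [Pi.single_eq_of_ne (Ne.symm hy'), zero_mul]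
      have hB : (QuadraticMap.polar (⇑(QMin m F a b)) w (Pi.single y' 1) + QMin m F a b w *
          (Pi.single y' (1 : F) : (Fin m ⊕ Fin m) ⊕ Fin 2 → F) (Sum.inl (Sum.inr k))) *
          (Pi.single (Sum.inl (Sum.inl k)) (1 : F) : (Fin m ⊕ Fin m) ⊕ Fin 2 → F) y = 0 := by
        by_cases hy : y = Sum.inl (Sum.inl k)
        · subst hy
          rw [Fin.lt_def] at hlt
          rcases y' with (i | j) | z
          · have hik : i.val < k.val := hlt
            have hne' : (Sum.inl (Sum.inr k) : (Fin m ⊕ Fin m) ⊕ Fin 2) ≠ Sum.inl (Sum.inl i) := by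
              simp
            rw [QuadraticMap.polar_comm, polar_e, hW1 i hik.le, Pi.single_eq_of_ne hne', mul_zero,
              zero_add, zero_mul]
          · exfalso
            have h' : 2 * m + 1 - j.val < k.val := hlt
            have := j.2
            omega
          · exfalso
            have h' : m + z.val < k.val := hlt
            omega
        · rw [Pi.single_eq_of_ne hy, mul_zero]
      rw [hent, hA, hB, Pi.single_eq_of_ne hne, zero_add, sub_zero]
    · have hA : (Pi.single y (1 : F) : (Fin m ⊕ Fin m) ⊕ Fin 2 → F) (Sum.inl (Sum.inr k)) *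
          w y = 0 := by
        by_cases hy : y = Sum.inl (Sum.inr k)
        · subst hy
          rw [hW1 k le_rfl, mul_zero]
        · rw [Pi.single_eq_of_ne (Ne.symm hy), zero_mul]
      have hB : (QuadraticMap.polar (⇑(QMin m F a b)) w (Pi.single y 1) + QMin m F a b w *
          (Pi.single y (1 : F) : (Fin m ⊕ Fin m) ⊕ Fin 2 → F) (Sum.inl (Sum.inr k))) *
          (Pi.single (Sum.inl (Sum.inl k)) (1 : F) : (Fin m ⊕ Fin m) ⊕ Fin 2 → F) y = 0 := by
        by_cases hy : y = Sum.inl (Sum.inl k)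
        · subst hy
          have hne' : (Sum.inl (Sum.inr k) : (Fin m ⊕ Fin m) ⊕ Fin 2) ≠ Sum.inl (Sum.inl k) := by
            simp
          rw [QuadraticMap.polar_comm, polar_e, hW1 k le_rfl, Pi.single_eq_of_ne hne', mul_zero,
            zero_add, zero_mul]
        · rw [Pi.single_eq_of_ne hy, mul_zero]
      rw [hent, hA, hB, Pi.single_eq_same, add_zero, sub_zero]
    · have hn1 : (Sum.inr 0 : (Fin m ⊕ Fin m) ⊕ Fin 2) ≠ Sum.inr 1 := by simp
      have hn2 : (Sum.inl (Sum.inr k) : (Fin m ⊕ Fin m) ⊕ Fin 2) ≠ Sum.inr 1 := by simp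
      have hn3 : (Sum.inr 0 : (Fin m ⊕ Fin m) ⊕ Fin 2) ≠ Sum.inl (Sum.inl k) := by simp
      rw [hent, Pi.single_eq_of_ne hn1, Pi.single_eq_of_ne hn2, Pi.single_eq_of_ne hn3]
      ring
  have hgek : act g (Pi.single (Sum.inl (Sum.inl k)) 1) = Pi.single (Sum.inl (Sum.inl k)) 1 := by
    funext y
    rcases y with (i' | j) | z
    · rcases lt_trichotomy i'.val k.val with hlt | heq | hgt
      · calc act g (Pi.single (Sum.inl (Sum.inl k)) 1) (Sum.inl (Sum.inl i'))
            = QuadraticMap.polar (⇑(QMin m F a b)) (Pi.single (Sum.inl (Sum.inr i')) 1)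
                (act g (Pi.single (Sum.inl (Sum.inl k)) 1)) := (polar_f i' _).symm
          _ = QuadraticMap.polar (⇑(QMin m F a b)) (act g (Pi.single (Sum.inl (Sum.inr i')) 1))
                (act g (Pi.single (Sum.inl (Sum.inl k)) 1)) := by rw [(hfix i' hlt).2]
          _ = QuadraticMap.polar (⇑(QMin m F a b)) (Pi.single (Sum.inl (Sum.inr i')) 1)
                (Pi.single (Sum.inl (Sum.inl k)) 1) := polar_act' g _ _
          _ = (Pi.single (Sum.inl (Sum.inl k)) (1 : F) :
                (Fin m ⊕ Fin m) ⊕ Fin 2 → F) (Sum.inl (Sum.inl i')) := polar_f i' _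
      · have : i' = k := Fin.ext heq
        subst this
        rw [h2, Pi.single_eq_same]
      · have hne : (Sum.inl (Sum.inl i') : (Fin m ⊕ Fin m) ⊕ Fin 2) ≠ Sum.inl (Sum.inl k) := by
          intro e
          simp only [Sum.inl.injEq] at e
          rw [e] at hgt
          exact lt_irrefl _ hgt
        have hidx : idx m (Sum.inl (Sum.inl k)) < idx m (Sum.inl (Sum.inl i')) := by
          rw [Fin.lt_def]
          exact hgt
        rw [h1 _ _ hidx, Pi.single_eq_of_ne hne]
    · have hne : (Sum.inl (Sum.inr j) : (Fin m ⊕ Fin m) ⊕ Fin 2) ≠ Sum.inl (Sum.inl k) := by simp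
      have hidx : idx m (Sum.inl (Sum.inl k)) < idx m (Sum.inl (Sum.inr j)) := by
        rw [Fin.lt_def]
        show k.val < 2 * m + 1 - j.val
        have := j.2
        omega
      rw [h1 _ _ hidx, Pi.single_eq_of_ne hne]
    · have hne : (Sum.inr z : (Fin m ⊕ Fin m) ⊕ Fin 2) ≠ Sum.inl (Sum.inl k) := by simp
      have hidx : idx m (Sum.inl (Sum.inl k)) < idx m (Sum.inr z) := by
        rw [Fin.lt_def]
        show k.val < m + z.val
        omega
      rw [h1 _ _ hidx, Pi.single_eq_of_ne hne]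
  refine ⟨t, hUt, htt, fun i hi => ⟨?_, ?_⟩⟩
  · have hne' : (Sum.inl (Sum.inr k) : (Fin m ⊕ Fin m) ⊕ Fin 2) ≠ Sum.inl (Sum.inl i) := by simp
    rw [act_mul]
    rcases Nat.lt_or_ge i.val k.val with hlt | hge
    · rw [(hfix i hlt).1, hact, Pi.single_eq_of_ne hne', zero_smul, add_zero, mul_zero, add_zero,
        QuadraticMap.polar_comm, polar_e, hW1 i hlt.le, zero_smul, sub_zero]
    · have hik : i = k := Fin.ext (le_antisymm hi hge)
      rw [hik, hgek, hact, Pi.single_eq_of_ne (by simp), zero_smul, add_zero, mul_zero, add_zero,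
        QuadraticMap.polar_comm, polar_e, hW1 k le_rfl, zero_smul, sub_zero]
  · rw [act_mul]
    rcases Nat.lt_or_ge i.val k.val with hlt | hge
    · have hne' : (Sum.inl (Sum.inr k) : (Fin m ⊕ Fin m) ⊕ Fin 2) ≠ Sum.inl (Sum.inr i) := by
        intro e
        simp only [Sum.inl.injEq, Sum.inr.injEq] at e
        rw [e] at hlt
        exact lt_irrefl _ hlt
      rw [(hfix i hlt).2, hact, Pi.single_eq_of_ne hne', zero_smul, add_zero, mul_zero, add_zero,
        QuadraticMap.polar_comm, polar_f, hW2 i hlt, zero_smul, sub_zero]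
    · have hik : i = k := Fin.ext (le_antisymm hi hge)
      have e1 : act t (Pi.single (Sum.inl (Sum.inr k)) 1) =
          act g (Pi.single (Sum.inl (Sum.inr k)) 1) := by
        have h0 : QuadraticMap.polar (⇑(QMin m F a b)) w (Pi.single (Sum.inl (Sum.inr k)) 1) +
            QMin m F a b w = 0 := by
          rw [QuadraticMap.polar_comm, add_comm]
          exact hW4
        rw [hact, Pi.single_eq_same, one_smul, mul_one, h0, zero_smul, sub_zero, hw]
        abel
      rw [hik, ← e1, ← act_mul, htt, act_one]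

/-- A unitriangular isometry fixing all `e_i`, `f_i` is trivial. -/
theorem eq_one_of_fix (g : OGm m F a b) (hg : IsUniM g)
    (hfix : ∀ i : Fin m,
      act g (Pi.single (Sum.inl (Sum.inl i)) 1) = Pi.single (Sum.inl (Sum.inl i)) 1 ∧
      act g (Pi.single (Sum.inl (Sum.inr i)) 1) = Pi.single (Sum.inl (Sum.inr i)) 1) : g = 1 := by
  classical
  obtain ⟨h1, h2, h3⟩ := (isUniM_iff g).1 hg
  apply Subtype.ext
  apply Units.ext
  ext y y'
  rw [entry_eq]
  show act g (Pi.single y' 1) y = (1 : Matrix ((Fin m ⊕ Fin m) ⊕ Fin 2) ((Fin m ⊕ Fin m) ⊕ Fin 2) F) y y'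
  rw [Matrix.one_apply]
  rcases y' with (i | j) | z
  · rw [(hfix i).1, Pi.single_apply]
  · rw [(hfix j).2, Pi.single_apply]
  · rcases y with (i | j) | z'
    · have hne : (Sum.inl (Sum.inl i) : (Fin m ⊕ Fin m) ⊕ Fin 2) ≠ Sum.inr z := by simp
      rw [if_neg hne]
      calc act g (Pi.single (Sum.inr z) 1) (Sum.inl (Sum.inl i))
          = QuadraticMap.polar (⇑(QMin m F a b)) (Pi.single (Sum.inl (Sum.inr i)) 1)
              (act g (Pi.single (Sum.inr z) 1)) := (polar_f i _).symm
        _ = QuadraticMap.polar (⇑(QMin m F a b)) (act g (Pi.single (Sum.inl (Sum.inr i)) 1))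
              (act g (Pi.single (Sum.inr z) 1)) := by rw [(hfix i).2]
        _ = QuadraticMap.polar (⇑(QMin m F a b)) (Pi.single (Sum.inl (Sum.inr i)) 1)
              (Pi.single (Sum.inr z) 1) := polar_act' g _ _
        _ = (Pi.single (Sum.inr z) (1 : F) :
              (Fin m ⊕ Fin m) ⊕ Fin 2 → F) (Sum.inl (Sum.inl i)) := polar_f i _
        _ = 0 := Pi.single_eq_of_ne hne _
    · have hne : (Sum.inl (Sum.inr j) : (Fin m ⊕ Fin m) ⊕ Fin 2) ≠ Sum.inr z := by simp
      rw [if_neg hne]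
      calc act g (Pi.single (Sum.inr z) 1) (Sum.inl (Sum.inr j))
          = QuadraticMap.polar (⇑(QMin m F a b)) (Pi.single (Sum.inl (Sum.inl j)) 1)
              (act g (Pi.single (Sum.inr z) 1)) := (polar_e j _).symm
        _ = QuadraticMap.polar (⇑(QMin m F a b)) (act g (Pi.single (Sum.inl (Sum.inl j)) 1))
              (act g (Pi.single (Sum.inr z) 1)) := by rw [(hfix j).1]
        _ = QuadraticMap.polar (⇑(QMin m F a b)) (Pi.single (Sum.inl (Sum.inl j)) 1)
              (Pi.single (Sum.inr z) 1) := polar_act' g _ _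
        _ = (Pi.single (Sum.inr z) (1 : F) :
              (Fin m ⊕ Fin m) ⊕ Fin 2 → F) (Sum.inl (Sum.inr j)) := polar_e j _
        _ = 0 := Pi.single_eq_of_ne hne _
    · by_cases hzz : z' = z
      · subst hzz
        rw [if_pos rfl, h2]
      · have hne : (Sum.inr z' : (Fin m ⊕ Fin m) ⊕ Fin 2) ≠ Sum.inr z := by
          intro e
          exact hzz (Sum.inr.inj e)
        rw [if_neg hne]
        have hz := z.2
        have hz' := z'.2
        have hv : z'.val ≠ z.val := fun e => hzz (Fin.ext e)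
        rcases Nat.lt_or_ge z.val z'.val with hlt | hge
        · apply h1
          rw [Fin.lt_def]
          show m + z.val < m + z'.val
          omega
        · have e0 : z' = 0 := Fin.ext (by show z'.val = 0; omega)
          have e1 : z = 1 := Fin.ext (by show z.val = 1; omega)
          rw [e0, e1]
          exact h3

/-- Unitriangular isometries are products of unitriangular involutions (characteristic 2). -/
theorem uni_mem_closure [CharP F 2] : ∀ (j : ℕ) (g : OGm m F a b), IsUniM g → j ≤ m →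
    (∀ i : Fin m, i.val + j < m →
      act g (Pi.single (Sum.inl (Sum.inl i)) 1) = Pi.single (Sum.inl (Sum.inl i)) 1 ∧
      act g (Pi.single (Sum.inl (Sum.inr i)) 1) = Pi.single (Sum.inl (Sum.inr i)) 1) →
    g ∈ Subgroup.closure {t : OGm m F a b | IsUniM t ∧ t * t = 1} := by
  intro j
  induction j with
  | zero =>
    intro g hg _ hfix
    rw [eq_one_of_fix g hg (fun i => hfix i (by have := i.2; omega))]
    exact Subgroup.one_mem _
  | succ j ih =>
    intro g hg hj hfix
    obtain ⟨t, hUt, htt, hfix'⟩ := peel g hg ⟨m - (j + 1), by omega⟩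
      (fun i hi => hfix i (by
        have h' : i.val < m - (j + 1) := hi
        omega))
    have h2 := ih (t * g) (Cfsg.Agent.H88.StN.P.isUniM_mul m a b t g hUt hg) (by omega)
      (fun i hi => hfix' i (by
        show i.val ≤ m - (j + 1)
        omega))
    have e : g = t * (t * g) := by rw [← mul_assoc, htt, one_mul]
    rw [e]
    exact Subgroup.mul_mem _ (Subgroup.subset_closure ⟨hUt, htt⟩) h2

/-- In characteristic 2 the unitriangular isometries have elementary abelian abelianization. -/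
theorem sqT_UM [Fintype F] [CharP F 2] : SqT (UM m F a b) := by
  apply sqT_of_gen
  intro g hg
  have h := uni_mem_closure m g hg le_rfl (fun i hi => absurd hi (by omega))
  refine Subgroup.closure_mono ?_ h
  rintro t ⟨ht, htt⟩
  refine ⟨ht, ?_⟩
  rw [pow_two, htt]
  exact Subgroup.one_mem _

/-- Piece S4625-MINUS. -/
theorem pminus : Cfsg.Agent.H56.Sq.PMinusStmt := by
  intro F _ _ _ m a b hm hab hsimple
  have hm3 : 3 ≤ m - 1 := by omega
  have : Fact (Nat.Prime 2) := ⟨Nat.prime_two⟩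
  have hUH : UM (m - 1) F a b ≤ Cfsg.Omega F (Cfsg.quadFormMinus (m - 1) F a b) :=
    fun g hg => Cfsg.Agent.H88.StN.P.ominus_uni_mem_omega (m - 1) hm3 a b hab g hg
  have hUp : IsPGroup 2 (UM (m - 1) F a b) := by
    rintro ⟨g, hg⟩
    obtain ⟨k, hk⟩ := Cfsg.Agent.H88.StN.P.ominus_uni_pow 2 (m - 1) a b g hg
    exact ⟨k, Subtype.ext hk⟩
  have hUp' : IsPGroup 2 ((UM (m - 1) F a b).subgroupOf
      (Cfsg.Omega F (Cfsg.quadFormMinus (m - 1) F a b))) :=
    hUp.comap_of_injective (Subgroup.subtype _) (Subgroup.subtype_injective _)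
  have hidx : ¬ 2 ∣ ((UM (m - 1) F a b).subgroupOf
      (Cfsg.Omega F (Cfsg.quadFormMinus (m - 1) F a b))).index := by
    apply Cfsg.Agent.H88.StN.P.ominus_sylow 2 (m - 1) hm3 a b hab _ hUp'
    rw [Nat.card_congr (Subgroup.subgroupOfEquivOfLe hUH).toEquiv]
    exact Cfsg.Agent.H88.StN.P.ominus_uni_card (m - 1) a b (UM (m - 1) F a b) (fun g hg => hg)
  have hsq : SqT ((UM (m - 1) F a b).subgroupOf
      (Cfsg.Omega F (Cfsg.quadFormMinus (m - 1) F a b))) :=
    SqT.of_equiv (Subgroup.subgroupOfEquivOfLe hUH) sqT_UM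
  have h1 : GoodSyl (Cfsg.Omega F (Cfsg.quadFormMinus (m - 1) F a b)) :=
    ⟨_, hUp', hidx, hsq⟩
  exact h1.quotient _

example : ∀ (F : Type) [Field F] [Fintype F] [CharP F 2] (m : ℕ) (a b : F), 4 ≤ m →
    (∀ z₁ z₂ : F, z₁ ^ 2 + a * z₁ * z₂ + b * z₂ ^ 2 = 0 → z₁ = 0 ∧ z₂ = 0) →
    IsSimpleGroup (POmega F (quadFormMinus (m - 1) F a b)) →
    GoodSyl (POmega F (quadFormMinus (m - 1) F a b)) := pminus

end Cfsg.Agent.H88.Sq
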