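import Mathlib
import Cfsg.Agent.H56.SqDefs
import Cfsg.Agent.H88.StUG

/-!
helper88: piece S4625-PSU for helper56. In characteristic 2 the unitriangular subgroup `U` of the
unitary group `UG n φ` has `u ^ 2 ∈ U'` for all `u`: `U` is generated by the Levi root elements
(involutions) and the Siegel radical `R`; the square of an element of `R` is a block element, and
for odd `n` the block elements are products of commutators of the elements through the middle
index (for even `n` the elements of `R` are involutions).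
-/

set_option autoImplicit false
set_option linter.unusedSectionVars false
set_option linter.unusedVariables false

namespace Cfsg.Agent.H88.Sq

open Matrix Cfsg Cfsg.Agent.H88.Un Cfsg.Agent.H56.Sq

open scoped commutatorElement

variable {n : ℕ} {K : Type*} [Field K] [Fintype K] {φ : K →+* K}

/-- The matrix of the commutator from a matrix identity. -/
theorem comm_val {x y : UG n φ} {Z : Matrix (Fin n) (Fin n) K}
    (h : (x * y).1.1 = Z * (y * x).1.1) : (⁅x, y⁆).1.1 = Z := by
  have e : ⁅x, y⁆ * (y * x) = x * y := by rw [commutatorElement_def]; group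
  have e1 : (⁅x, y⁆).1.1 * (y * x).1.1 = Z * (y * x).1.1 := by rw [← mul_val, e, h]
  calc (⁅x, y⁆).1.1 = (⁅x, y⁆).1.1 * (y * x).1.1 * ((y * x)⁻¹).1.1 := by
        rw [Matrix.mul_assoc, val_mul_inv, Matrix.mul_one]
    _ = Z * (y * x).1.1 * ((y * x)⁻¹).1.1 := by rw [e1]
    _ = Z := by rw [Matrix.mul_assoc, val_mul_inv, Matrix.mul_one]

/-- Product of two elements through the middle index. -/
theorem xb_mul_val [Invol φ] {i j m : Fin n} (hm : m.rev = m) (hi : i ≠ m) (hj : j ≠ m)
    (hij : i.rev ≠ j) (a d a' d' : K) (h : d + φ d + a * φ a = 0)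
    (h' : d' + φ d' + a' * φ a' = 0) :
    (xb (φ := φ) hm hi a d h * xb (φ := φ) hm hj a' d' h').1.1 =
      1 + (Matrix.single i m a - Matrix.single m i.rev (φ a) + Matrix.single i i.rev d) +
        (Matrix.single j m a' - Matrix.single m j.rev (φ a') + Matrix.single j j.rev d') -
        Matrix.single i j.rev (a * φ a') := by
  have h1 : m ≠ j := hj.symm
  have h2 : i.rev ≠ m := (mid_ne_rev hm hi).symm
  rw [mul_val, xb_val, xb_val]
  simp only [Matrix.add_mul, Matrix.sub_mul, Matrix.mul_add, Matrix.mul_sub, Matrix.one_mul,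
    Matrix.mul_one, ssm, if_neg h1, if_neg h2, if_neg hij, if_true]
  abel

/-- The commutator of two elements through the middle index. -/
theorem xb_comm_val [Invol φ] {i j m : Fin n} (hm : m.rev = m) (hi : i ≠ m) (hj : j ≠ m)
    (hij : i.rev ≠ j) (a d a' d' : K) (h : d + φ d + a * φ a = 0)
    (h' : d' + φ d' + a' * φ a' = 0) :
    (⁅xb (φ := φ) hm hi a d h, xb (φ := φ) hm hj a' d' h'⁆).1.1 =
      1 + (Matrix.single j i.rev (a' * φ a) - Matrix.single i j.rev (a * φ a')) := by
  have hji : j.rev ≠ i := by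
    intro e
    apply hij
    rw [← e, Fin.rev_rev]
  apply comm_val
  rw [xb_mul_val hm hi hj hij a d a' d' h h', xb_mul_val hm hj hi hji a' d' a d h' h]
  have h1 : i.rev ≠ m := (mid_ne_rev hm hi).symm
  have h2 : j.rev ≠ m := (mid_ne_rev hm hj).symm
  have h3 : i.rev ≠ i := (ne_rev_of_ne_mid hm hi).symm
  have h4 : j.rev ≠ j := (ne_rev_of_ne_mid hm hj).symm
  simp only [Matrix.add_mul, Matrix.sub_mul, Matrix.mul_add, Matrix.mul_sub, Matrix.one_mul,
    Matrix.mul_one, ssm, if_neg h1, if_neg h2, if_neg h3, if_neg h4, if_neg hij, if_neg hji]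
  abel

/-- Existence of the second parameter. -/
theorem ex_d [Invol φ] (hG : Good φ) (a : K) : ∃ d : K, d + φ d + a * φ a = 0 := by
  obtain ⟨θ, hθ⟩ := hG.ex_tr
  refine ⟨-θ * (a * φ a), ?_⟩
  rw [map_mul, map_neg, map_mul, Invol.invol]
  linear_combination (-(a * φ a)) * hθ

/-- For odd `n`, the block elements are products of commutators of elements of `U`. -/
theorem blk_mem_comm [Invol φ] (hG : Good φ) {m : Fin n} (hm : m.rev = m) (g : UG n φ)
    (hg : IsBlk (g.1.1 - 1)) :
    g ∈ ⁅(EL φ (rk n) : Subgroup (UG n φ)), (EL φ (rk n) : Subgroup (UG n φ))⁆ := by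
  have hmv := mid_iff.1 hm
  obtain ⟨θ, hθ⟩ := hG.ex_tr
  have hxb : ∀ (i : Fin n) (hi : 2 * i.val + 1 < n) (hi' : i ≠ m) (a d : K)
      (h : d + φ d + a * φ a = 0), xb (φ := φ) hm hi' a d h ∈ EL φ (rk n) := by
    intro i hi hi' a d h
    apply xb_mem_EL
    · show i.val < m.val
      omega
    · show m.val < i.rev.val
      rw [rev_val]; omega
  apply blk_all (fun S hS hadj => all_blk ?_ ?_ S hS hadj) g hg
  · intro i hi c hc
    have hi' : i ≠ m := by rintro rfl; omega
    obtain ⟨d, hd⟩ := ex_d hG (-θ * c)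
    obtain ⟨d', hd'⟩ := ex_d hG (1 : K)
    refine ⟨blk_single hi (by rw [rev_val]; omega) c,
      ⁅xb (φ := φ) hm hi' (-θ * c) d hd, xb (φ := φ) hm hi' 1 d' hd'⁆,
      Subgroup.commutator_mem_commutator (hxb i hi hi' _ _ _) (hxb i hi hi' _ _ _), ?_⟩
    rw [xb_comm_val hm hi' hi' (ne_rev_of_ne_mid hm hi').symm]
    congr 1
    rw [sub_eq_add_neg, Matrix.single_neg, ← Matrix.single_add]
    congr 1
    have hφc : φ c = -c := by linear_combination hc
    rw [map_mul, map_neg, map_one, hφc]
    linear_combination c * hθ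
  · intro i j hi hj hij b
    have hi' : i ≠ m := by rintro rfl; omega
    have hj' : j ≠ m := by rintro rfl; omega
    have hirj : i.rev ≠ j := by
      intro e
      have := congrArg Fin.val e
      rw [rev_val] at this
      omega
    obtain ⟨d, hd⟩ := ex_d hG (-b)
    obtain ⟨d', hd'⟩ := ex_d hG (1 : K)
    refine ⟨(blk_single hi (by rw [rev_val]; omega) b).sub
        (blk_single hj (by rw [rev_val]; omega) (φ b)),
      ⁅xb (φ := φ) hm hi' (-b) d hd, xb (φ := φ) hm hj' 1 d' hd'⁆,
      Subgroup.commutator_mem_commutator (hxb i hi hi' _ _ _) (hxb j hj hj' _ _ _), ?_⟩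
    rw [xb_comm_val hm hi' hj' hirj]
    congr 1
    rw [one_mul, map_neg, map_one, mul_one, ← Matrix.single_neg, ← Matrix.single_neg]
    abel

/-- The square of an element in characteristic 2. -/
theorem sq_val [CharP K 2] (r : UG n φ) :
    (r ^ 2).1.1 = 1 + (r.1.1 - 1) * (r.1.1 - 1) := by
  have h2 : ∀ M : Matrix (Fin n) (Fin n) K, M + M = 0 := by
    intro M
    ext k l
    rw [Matrix.add_apply, Matrix.zero_apply]
    exact CharTwo.add_self_eq_zero _
  have e : (r.1.1 - 1) * (r.1.1 - 1) = r.1.1 * r.1.1 - (r.1.1 + r.1.1) + 1 := by noncomm_ring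
  rw [pow_val, pow_two, e, h2, sub_zero, add_comm, add_assoc, h2, add_zero]

/-- The square of an element of the Siegel radical is a block element. -/
theorem sq_blk [CharP K 2] {r : UG n φ} (hr : r ∈ EL φ (lamQ n)) :
    IsBlk ((r ^ 2).1.1 - 1) := by
  intro k l hkl
  rw [sq_val, add_sub_cancel_left, Matrix.mul_apply]
  apply Finset.sum_eq_zero
  intro j _
  by_cases h1 : lamQ n j ≤ lamQ n k
  · rw [Matrix.sub_apply, hr k j h1, sub_self, zero_mul]
  · by_cases h2 : lamQ n l ≤ lamQ n j
    · rw [Matrix.sub_apply (r.1.1) 1 j l, hr j l h2, sub_self, mul_zero]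
    · exfalso
      apply hkl
      simp only [lamQ] at h1 h2
      split_ifs at h1 h2 <;> omega

/-- For even `n` the elements of the Siegel radical are involutions. -/
theorem sq_one_of_even [CharP K 2] (hno : ∀ m : Fin n, m.rev ≠ m) {r : UG n φ}
    (hr : r ∈ EL φ (lamQ n)) : r ^ 2 = 1 := by
  apply ext_val
  rw [sq_val, one_val]
  have : (r.1.1 - 1) * (r.1.1 - 1) = 0 := by
    ext k l
    rw [Matrix.mul_apply, Matrix.zero_apply]
    apply Finset.sum_eq_zero
    intro j _
    by_cases h1 : lamQ n j ≤ lamQ n k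
    · rw [Matrix.sub_apply, hr k j h1, sub_self, zero_mul]
    · by_cases h2 : lamQ n l ≤ lamQ n j
      · rw [Matrix.sub_apply (r.1.1) 1 j l, hr j l h2, sub_self, mul_zero]
      · exfalso
        have hj : 2 * j.val + 1 ≠ n := fun e => hno j (mid_iff.2 e)
        simp only [lamQ] at h1 h2
        split_ifs at h1 h2 <;> omega
  rw [this, add_zero]

/-- Short root elements are involutions in characteristic 2. -/
theorem xs_sq [Invol φ] [CharP K 2] {i j : Fin n} (hij : i ≠ j) (hi : i ≠ i.rev)
    (hj : j ≠ j.rev) (a : K) : xs (φ := φ) hij hi hj a ^ 2 = 1 := by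
  apply ext_val
  rw [sq_val, one_val, xs_val]
  have e : (1 + Matrix.single i j a - Matrix.single j.rev i.rev (φ a) - 1 :
      Matrix (Fin n) (Fin n) K) = Matrix.single i j a - Matrix.single j.rev i.rev (φ a) := by
    abel
  rw [e]
  simp only [Matrix.sub_mul, Matrix.mul_sub, ssm, if_neg hij.symm, if_neg hj, if_neg hi.symm,
    if_neg (rev_ne hij).symm]
  abel

/-- In characteristic 2 the unitriangular subgroup has elementary abelian abelianization. -/
theorem sqT_U [Invol φ] [CharP K 2] (hG : Good φ) :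
    SqT (EL φ (rk n) : Subgroup (UG n φ)) := by
  apply sqT_of_gen
  apply gen_U
  · intro i j hne hi hj hij hj1 b
    apply Subgroup.subset_closure
    refine ⟨xs_mem_EL hne hi hj b (rk n) hij ?_, ?_⟩
    · show j.rev.val < i.rev.val
      have := j.2
      rw [rev_val, rev_val]; omega
    · rw [xs_sq]; exact Subgroup.one_mem _
  · intro r hr
    apply Subgroup.subset_closure
    refine ⟨ELQ_le_U hr, ?_⟩
    by_cases hmid : ∃ m : Fin n, m.rev = m
    · obtain ⟨m, hm⟩ := hmid
      exact blk_mem_comm hG hm _ (sq_blk hr)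
    · push Not at hmid
      rw [sq_one_of_even hmid hr]; exact Subgroup.one_mem _

/-- Piece S4625-PSU. -/
theorem psu : Cfsg.Agent.H56.Sq.PSUStmt := by
  intro F _ _ _ n q hF hn hns hsimple
  obtain ⟨φ, hφ, hinv⟩ := Cfsg.Agent.H7.exists_frob hF
  have : Invol φ := ⟨hinv⟩
  have hG : Good φ := good_frob hF hφ
  obtain ⟨D, hD⟩ := exists_D (n := n) hG
  have hq : q ≠ 0 := by
    have := Cfsg.Agent.H7.two_le_of_card_sq hF
    omega
  have : Fact (Nat.Prime 2) := ⟨Nat.prime_two⟩
  obtain ⟨hUp, hUi⟩ := Cfsg.Agent.H80.StU.ug_sylow (n := n) hG 2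
  have h1 : GoodSyl (UG n φ) := ⟨EL φ (rk n), hUp, hUi, sqT_U hG⟩
  have h2 : GoodSyl (PU n φ) := h1.quotient _
  exact GoodSyl.of_equiv (toPSU hφ hq D hD).symm h2

example : ∀ (F : Type) [Field F] [Fintype F] [CharP F 2] (n q : ℕ), Fintype.card F = q ^ 2 →
    3 ≤ n → ¬ (n = 3 ∧ q = 2) → IsSimpleGroup (PSU n F q) → GoodSyl (PSU n F q) := psu

end Cfsg.Agent.H88.Sq
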