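import Mathlib
import Cfsg.Prelude.Def_Characters
import Cfsg.Agent.H88.StNDefs
import Cfsg.Agent.H78.StM4
import Cfsg.Agent.H25.StNOmega
import Cfsg.Agent.H73.StNSmall
import Cfsg.Agent.Lib.Helper30.StNGen
import Cfsg.Agent.H89.StNLong
import Cfsg.Agent.H11.StNFact
import Cfsg.Agent.H88.StNQ
import Cfsg.Agent.H15.StNElt
import Cfsg.Agent.H15.StNW
import Cfsg.Agent.H24.StNBlk
import Cfsg.Agent.H24.StNUni
import Cfsg.Agent.H25.StNCen
import Cfsg.Agent.H3.StNSylB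
import Cfsg.Agent.H75.StNSylA
import Cfsg.Agent.H83.OMinusRel

/-!
helper88: the pieces of the S2549 team project, collected under one namespace (proved by
helper3, helper11, helper15, helper24, helper25, helper30, helper73, helper75, helper83, helper89).
-/

set_option autoImplicit false

universe u

namespace Cfsg.Agent.H88.StN.P

open Matrix Cfsg.Agent.H88.StN

variable {F : Type*} [Field F]



-- ELT
theorem exists_xshort (m : ℕ) (a b : F) (k : Fin m) (hk : k.val + 1 < m) (t : F) :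
    ∃ g : OGm m F a b, mat g =
      transvection (pE m k) (pE m ⟨k.val + 1, hk⟩) t *
        transvection (pF m ⟨k.val + 1, hk⟩) (pF m k) (-t) :=
  Cfsg.Agent.H15.StN.exists_xshort m a b k hk t

theorem exists_nshort (m : ℕ) (a b : F) (k : Fin m) (hk : k.val + 1 < m) :
    ∃ g : OGm m F a b, ∀ (v : Fin (2 * m + 2) → F) (c : Fin (2 * m + 2)),
      (mat g *ᵥ v) c =
        if c = pE m k then v (pE m ⟨k.val + 1, hk⟩)
        else if c = pE m ⟨k.val + 1, hk⟩ then - v (pE m k)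
        else if c = pF m ⟨k.val + 1, hk⟩ then - v (pF m k)
        else if c = pF m k then v (pF m ⟨k.val + 1, hk⟩)
        else v c :=
  Cfsg.Agent.H15.StN.exists_nshort m a b k hk

theorem exists_xtw (m : ℕ) (a b : F) (k : Fin m) (c1 c2 : F) :
    ∃ g : OGm m F a b, ∀ (v : Fin (2 * m + 2) → F) (c : Fin (2 * m + 2)),
      (mat g *ᵥ v) c =
        if c = pE m k then
          v (pE m k) - (c1 * (2 * v (pZ m 0) + a * v (pZ m 1)) +
              c2 * (a * v (pZ m 0) + 2 * b * v (pZ m 1))) -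
            (c1 ^ 2 + a * c1 * c2 + b * c2 ^ 2) * v (pF m k)
        else if c = pZ m 0 then v (pZ m 0) + c1 * v (pF m k)
        else if c = pZ m 1 then v (pZ m 1) + c2 * v (pF m k)
        else v c :=
  Cfsg.Agent.H15.StN.exists_xtw m a b k c1 c2

theorem exists_flip (m : ℕ) (a b : F) (k : Fin m) :
    ∃ g : OGm m F a b, ∀ (v : Fin (2 * m + 2) → F) (c : Fin (2 * m + 2)),
      (mat g *ᵥ v) c = v (Equiv.swap (pE m k) (pF m k) c) :=
  Cfsg.Agent.H15.StN.exists_flip m a b k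

-- REL
theorem ominus_rel (m : ℕ) (a b : F) (g : OGm m F a b) (hg : IsUniM g) :
    (∀ (k : Fin m) (hk : k.val + 1 < m),
      mat g (pF m ⟨k.val + 1, hk⟩) (pF m k) = - mat g (pE m k) (pE m ⟨k.val + 1, hk⟩)) ∧
    (∀ k : Fin m, k.val + 1 = m → mat g (pZ m 0) (pF m k) = 0 → mat g (pZ m 1) (pF m k) = 0 →
      mat g (pE m k) (pZ m 0) = 0 ∧ mat g (pE m k) (pZ m 1) = 0 ∧
        mat g (pE m k) (pF m k) = 0) :=
  Cfsg.Agent.H83.OMinusRel.ominus_rel m a b g hg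

-- GEN
theorem ominus_gen [Fintype F] (m : ℕ) (hm : 3 ≤ m) (a b : F)
    (hab : ∀ z₁ z₂ : F, z₁ ^ 2 + a * z₁ * z₂ + b * z₂ ^ 2 = 0 → z₁ = 0 ∧ z₂ = 0)
    (K : Subgroup (OGm m F a b))
    (hU : ∀ g : OGm m F a b, IsUniM g → g ∈ K)
    (hT : ∀ g : OGm m F a b, IsBlk g → g ∈ K)
    (hN : ∀ (k : Fin m) (hk : k.val + 1 < m), ∃ g ∈ K,
      ∀ (v : Fin (2 * m + 2) → F) (c : Fin (2 * m + 2)),
        (mat g *ᵥ v) c =
          if c = pE m k then v (pE m ⟨k.val + 1, hk⟩)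
          else if c = pE m ⟨k.val + 1, hk⟩ then - v (pE m k)
          else if c = pF m ⟨k.val + 1, hk⟩ then - v (pF m k)
          else if c = pF m k then v (pF m ⟨k.val + 1, hk⟩)
          else v c)
    (hflip : ∀ k : Fin m, k.val + 1 = m → ∃ g ∈ K,
      ∀ (v : Fin (2 * m + 2) → F) (c : Fin (2 * m + 2)),
        (mat g *ᵥ v) c = v (Equiv.swap (pE m k) (pF m k) c)) :
    K = ⊤ :=
  Cfsg.Agent.Lib.Helper30.StN.ominus_gen m hm a b hab K hU hT hN hflip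

-- OMEGA
theorem ominus_uni_mem_omega [Fintype F] (m : ℕ) (hm : 3 ≤ m) (a b : F)
    (hab : ∀ z₁ z₂ : F, z₁ ^ 2 + a * z₁ * z₂ + b * z₂ ^ 2 = 0 → z₁ = 0 ∧ z₂ = 0)
    (g : OGm m F a b) (hg : IsUniM g) : g ∈ Cfsg.Omega F (Cfsg.quadFormMinus m F a b) :=
  Cfsg.Agent.H25.StN.ominus_uni_mem_omega m hm a b hab g hg

-- LONG
theorem exists_long [Fintype F] (m : ℕ) (hm : 3 ≤ m) (a b : F)
    (hab : ∀ z₁ z₂ : F, z₁ ^ 2 + a * z₁ * z₂ + b * z₂ ^ 2 = 0 → z₁ = 0 ∧ z₂ = 0) :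
    ∃ g : OGm m F a b, g ∈ Cfsg.Omega F (Cfsg.quadFormMinus m F a b) ∧ g * g = 1 ∧
      (∀ (v : Fin (2 * m + 2) → F) (i : Fin m), (mat g *ᵥ v) (pE m i) = - v (pF m i)) ∧
      (∀ (v : Fin (2 * m + 2) → F) (i : Fin m), (mat g *ᵥ v) (pF m i) = - v (pE m i)) ∧
      (∀ v : Fin (2 * m + 2) → F, (∀ j, v (pZ m j) = 0) → ∀ j, (mat g *ᵥ v) (pZ m j) = 0) :=
  Cfsg.Agent.H89.StN.exists_long m hm a b hab

-- CEN
theorem ominus_center_blk [Fintype F] (m : ℕ) (hm : 3 ≤ m) (a b : F)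
    (hab : ∀ z₁ z₂ : F, z₁ ^ 2 + a * z₁ * z₂ + b * z₂ ^ 2 = 0 → z₁ = 0 ∧ z₂ = 0)
    (z : OGm m F a b)
    (hz : ∀ g ∈ Cfsg.Omega F (Cfsg.quadFormMinus m F a b), z * g = g * z) : IsBlk z :=
  Cfsg.Agent.H25.StN.ominus_center_blk m hm a b hab z hz

-- SYLA
theorem ominus_uni_card [Fintype F] (m : ℕ) (a b : F) (U' : Subgroup (OGm m F a b))
    (hU : ∀ g : OGm m F a b, IsUniM g → g ∈ U') :
    Fintype.card F ^ (m * (m + 1)) ≤ Nat.card U' :=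
  Cfsg.Agent.H75.StN.ominus_uni_card m a b U' hU

-- SYLB
theorem ominus_sylow [Fintype F] (p : ℕ) [Fact p.Prime] [CharP F p] (m : ℕ) (hm : 3 ≤ m)
    (a b : F) (hab : ∀ z₁ z₂ : F, z₁ ^ 2 + a * z₁ * z₂ + b * z₂ ^ 2 = 0 → z₁ = 0 ∧ z₂ = 0)
    (U' : Subgroup ↥(Cfsg.Omega F (Cfsg.quadFormMinus m F a b))) (hU' : IsPGroup p U')
    (hcard : Fintype.card F ^ (m * (m + 1)) ≤ Nat.card U') : ¬ p ∣ U'.index :=
  Cfsg.Agent.H3.StN.ominus_sylow p m hm a b hab U' hU' hcard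

-- SMALL
theorem ominus_steinberg_small [Fintype F] (p : ℕ) [Fact p.Prime] [CharP F p] (m : ℕ)
    (hm : m ≤ 2) (a b : F)
    (hab : ∀ z₁ z₂ : F, z₁ ^ 2 + a * z₁ * z₂ + b * z₂ ^ 2 = 0 → z₁ = 0 ∧ z₂ = 0) :
    ∃ χ : Cfsg.POmega F (Cfsg.quadFormMinus m F a b) → ℂ,
      Cfsg.IsIrrCharacter (Cfsg.POmega F (Cfsg.quadFormMinus m F a b)) χ ∧
      ∀ P : Sylow p (Cfsg.POmega F (Cfsg.quadFormMinus m F a b)), χ 1 = Nat.card P ∧
        ∀ x : Cfsg.POmega F (Cfsg.quadFormMinus m F a b), x ∈ P → x ≠ 1 → χ x = 0 :=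
  Cfsg.Agent.H73.StN.ominus_steinberg_small p m hm a b hab




-- BLK
theorem blk_inv [Fintype F] (m : ℕ) (a b : F) (t : OGm m F a b) (ht : IsBlk t) : IsBlk t⁻¹ :=
  Cfsg.Agent.H24.StN.blk_inv m a b t ht

theorem blk_conj_uni [Fintype F] (m : ℕ) (a b : F) (t u : OGm m F a b) (ht : IsBlk t)
    (hu : IsUniM u) : IsUniM (t * u * t⁻¹) :=
  Cfsg.Agent.H24.StN.blk_conj_uni m a b t u ht hu

-- UNI
theorem isUniM_one (m : ℕ) (a b : F) : IsUniM (1 : OGm m F a b) :=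
  Cfsg.Agent.H24.StN.isUniM_one m a b

theorem isUniM_mul (m : ℕ) (a b : F) (g h : OGm m F a b) (hg : IsUniM g) (hh : IsUniM h) :
    IsUniM (g * h) :=
  Cfsg.Agent.H24.StN.isUniM_mul m a b g h hg hh

theorem isUniM_inv [Fintype F] (m : ℕ) (a b : F) (g : OGm m F a b) (hg : IsUniM g) :
    IsUniM g⁻¹ :=
  Cfsg.Agent.H24.StN.isUniM_inv m a b g hg

theorem ominus_uni_pow [Fintype F] (p : ℕ) [Fact p.Prime] [CharP F p] (m : ℕ) (a b : F)
    (g : OGm m F a b) (hg : IsUniM g) : ∃ k : ℕ, g ^ (p ^ k) = 1 :=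
  Cfsg.Agent.H24.StN.ominus_uni_pow p m a b g hg

-- FACT
theorem short_factor [Fintype F] (m : ℕ) (a b : F) (k : Fin m) (hk : k.val + 1 < m)
    (n : OGm m F a b)
    (hn : ∀ (v : Fin (2 * m + 2) → F) (c : Fin (2 * m + 2)),
      (mat n *ᵥ v) c =
        if c = pE m k then v (pE m ⟨k.val + 1, hk⟩)
        else if c = pE m ⟨k.val + 1, hk⟩ then - v (pE m k)
        else if c = pF m ⟨k.val + 1, hk⟩ then - v (pF m k)
        else if c = pF m k then v (pF m ⟨k.val + 1, hk⟩)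
        else v c)
    (u : OGm m F a b) (hu : IsUniM u) :
    ∃ (u' x : OGm m F a b) (t : F), IsUniM u' ∧
      mat x = transvection (pE m k) (pE m ⟨k.val + 1, hk⟩) t *
        transvection (pF m ⟨k.val + 1, hk⟩) (pF m k) (-t) ∧
      u = u' * x ∧ IsUniM (n * u' * n⁻¹) :=
  Cfsg.Agent.H11.StN.short_factor m a b k hk n hn u hu

theorem tw_factor [Fintype F] (m : ℕ) (a b : F) (k : Fin m) (hk : k.val + 1 = m)
    (n : OGm m F a b)
    (hn : ∀ (v : Fin (2 * m + 2) → F) (c : Fin (2 * m + 2)),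
      (mat n *ᵥ v) c = v (Equiv.swap (pE m k) (pF m k) c))
    (u : OGm m F a b) (hu : IsUniM u) :
    ∃ (u' x : OGm m F a b) (c1 c2 : F), IsUniM u' ∧
      (∀ (v : Fin (2 * m + 2) → F) (c : Fin (2 * m + 2)),
        (mat x *ᵥ v) c =
          if c = pE m k then
            v (pE m k) - (c1 * (2 * v (pZ m 0) + a * v (pZ m 1)) +
                c2 * (a * v (pZ m 0) + 2 * b * v (pZ m 1))) -
              (c1 ^ 2 + a * c1 * c2 + b * c2 ^ 2) * v (pF m k)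
          else if c = pZ m 0 then v (pZ m 0) + c1 * v (pF m k)
          else if c = pZ m 1 then v (pZ m 1) + c2 * v (pF m k)
          else v c) ∧
      u = u' * x ∧ IsUniM (n * u' * n⁻¹) :=
  Cfsg.Agent.H11.StN.tw_factor m a b k hk n hn u hu

-- W
theorem exists_wn_sign (m : ℕ) : ∃ ε : WN m →* ℤˣ,
    (∀ (k : Fin m) (hk : k.val + 1 < m) (h : sS m k hk ∈ WN m), ε ⟨sS m k hk, h⟩ = -1) ∧
    (∀ (k : Fin m) (_ : k.val + 1 = m) (h : sT m k ∈ WN m), ε ⟨sT m k, h⟩ = -1) :=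
  Cfsg.Agent.H15.StN.exists_wn_sign m

theorem wl_mem (m : ℕ) : wl m ∈ WN m :=
  Cfsg.Agent.H15.StN.wl_mem m

theorem wn_fix (m : ℕ) (w : Equiv.Perm (Fin (2 * m + 2))) (hw : w ∈ WN m) :
    w (pZ m 0) = pZ m 0 ∧ w (pZ m 1) = pZ m 1 ∧ ∀ c, w (Fin.rev c) = Fin.rev (w c) :=
  Cfsg.Agent.H15.StN.wn_fix m w hw


open Cfsg.Agent.H78.StM in
theorem steinberg_sub_quot {G : Type u} [Group G] [Finite G] {Ω : Type*} [MulAction G Ω] {W : Type*} [Fintype W] (p : ℕ) [Fact p.Prime] (U : Subgroup G) (a : W → Ω) (sg : W → ℂ) (ω₀ : Ω) (hU : ∀ u ∈ U, u • ω₀ = ω₀) (w₀ : W) (hw₀ : sg w₀ ≠ 0) (hind : ∀ v ∈ U, ∀ w, v • a w₀ = a w → v = 1 ∧ w = w₀) (hst : ∀ g : G, ∀ v ∈ stV U a sg, trep G Ω g v ∈ stV U a sg) (hUp : IsPGroup p U) (H : Subgroup G) (hUH : U ≤ H) (horb : ∃ g ∈ H, g • ω₀ = a w₀) (hUi : ¬ p ∣ (U.subgroupOf H).index) (hZ : ∀ z ∈ H, (∀ h ∈ H, z * h = h * z) → ∀ w, z • a w = a w)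 : ∃ χ : (↥H ⧸ Subgroup.center ↥H) → ℂ, Cfsg.IsIrrCharacter (↥H ⧸ Subgroup.center ↥H) χ ∧ ∀ P : Sylow p (↥H ⧸ Subgroup.center ↥H), χ 1 = Nat.card P ∧ ∀ x : ↥H ⧸ Subgroup.center ↥H, x ∈ P → x ≠ 1 → χ x = 0 :=
  Cfsg.Agent.H88.StN.steinberg_sub_quot p U a sg ω₀ hU w₀ hw₀ hind hst hUp H hUH horb hUi hZ

end Cfsg.Agent.H88.StN.P
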