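import Cfsg.Agent.H88.StNA
import Cfsg.Agent.H88.StNPieces
import Cfsg.Agent.H78.StSL3

/-!
helper88: Steinberg module for `Ω⁻_{2m+2}(q)`: action of block diagonal and of monomial
isometries on the coarse apartment, and the big cell.
-/

set_option autoImplicit false

namespace Cfsg.Agent.H88.StN

open Matrix Cfsg.Agent.H78.StSL Cfsg.Agent.H50.AutPSL

variable {m : ℕ} {F : Type*} [Field F] {a b : F}

theorem pos_cases (c : Fin (2 * m + 2)) :
    (∃ i, c = pE m i) ∨ (∃ j, c = pZ m j) ∨ (∃ i, c = pF m i) := by
  obtain ⟨x, rfl⟩ := (idx m).surjective c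
  rcases x with (i | i) | j
  · exact Or.inl ⟨i, rfl⟩
  · exact Or.inr (Or.inr ⟨i, rfl⟩)
  · exact Or.inr (Or.inl ⟨j, rfl⟩)

theorem pE_val (i : Fin m) : (pE m i).val = i.val := rfl
theorem pF_val (i : Fin m) : (pF m i).val = 2 * m + 1 - i.val := rfl
theorem pZ_val (j : Fin 2) : (pZ m j).val = m + j.val := rfl

theorem cl_val (k : Fin (2 * m + 2)) : (cl m k).val = if k.val = m then m + 1 else k.val := by
  unfold cl
  by_cases h : k = pZ m 0
  · rw [if_pos h, if_pos (by rw [h]; rfl)]
    rfl
  · rw [if_neg h, if_neg]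
    intro h'
    exact h (Fin.ext (by rw [h']; rfl))

theorem mat_ext {A B : Matrix (Fin (2 * m + 2)) (Fin (2 * m + 2)) F}
    (h : ∀ v : Fin (2 * m + 2) → F, A *ᵥ v = B *ᵥ v) : A = B := by
  ext i j
  have h1 := congrFun (h (Pi.single j 1)) i
  rw [mulVec_single_one, mulVec_single_one] at h1
  exact h1

/-- Elements of the Weyl group fix the middle positions. -/
theorem wn_symm_mid (w : WN m) (c : Fin (2 * m + 2)) (h1 : m ≤ c.val) (h2 : c.val ≤ m + 1) :
    w.1.symm c = c := by
  obtain ⟨f0, f1, -⟩ := P.wn_fix m w.1 w.2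
  rw [Equiv.symm_apply_eq]
  rcases Nat.lt_or_ge c.val (m + 1) with h | h
  · have e : c = pZ m 0 := Fin.ext (by rw [pZ_val]; simp; omega)
    rw [e, f0]
  · have e : c = pZ m 1 := Fin.ext (by rw [pZ_val]; simp; omega)
    rw [e, f1]

/-- Elements of the Weyl group map outer positions to outer positions. -/
theorem wn_symm_out (w : WN m) (c : Fin (2 * m + 2)) (h : c.val < m ∨ m + 1 < c.val) :
    (w.1.symm c).val < m ∨ m + 1 < (w.1.symm c).val := by
  by_contra hcon
  have h3 := wn_symm_mid w (w.1.symm c) (by omega) (by omega)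
  have h4 : w.1.symm c = c := w.1.symm.injective h3
  rw [h4] at hcon
  exact hcon h

/-- Block diagonal isometries fix the apartment. -/
theorem blk_fix (t : OGm m F a b) (ht : IsBlk t) (w : WN m) : t • aN m F w = aN m F w := by
  apply smul_fix_of_stable t _ (fun k => {c | cl m k < w.1.symm c}) (fun k v => Iff.rfl)
  intro k v hv c hc
  show ∑ d, mat t c d * v d = 0
  apply Finset.sum_eq_zero
  intro d _
  by_cases hcd : c = d
  · subst hcd
    rw [hv c hc, mul_zero]
  · by_cases hout : c.val < m ∨ m + 1 < c.val ∨ d.val < m ∨ m + 1 < d.val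
    · rw [ht c d hcd hout, zero_mul]
    · have hc' : cl m k < w.1.symm c := hc
      rw [wn_symm_mid w c (by omega) (by omega)] at hc'
      have hd : cl m k < w.1.symm d := by
        rw [wn_symm_mid w d (by omega) (by omega)]
        rw [Fin.lt_def, cl_val] at hc' ⊢
        split_ifs at hc' ⊢ <;> omega
      rw [hv d hd, mul_zero]

/-- An isometry permuting the coordinates by a transposition permutes the apartment. -/
theorem perm_smul (g : OGm m F a b) (i j : Fin (2 * m + 2))
    (hg : ∀ (v : Fin (2 * m + 2) → F) (c : Fin (2 * m + 2)),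
      (mat g *ᵥ v) c = v (Equiv.swap i j c))
    (w w' : WN m) (hw' : w'.1 = Equiv.swap i j * w.1) : g • aN m F w = aN m F w' := by
  have hgg : g * g = 1 := by
    apply mat_injective
    rw [mat_mul, mat_one]
    apply mat_ext
    intro v
    funext c
    rw [← mulVec_mulVec, hg, hg, Equiv.swap_apply_self, one_mulVec]
  have hinv : g⁻¹ = g := inv_eq_of_mul_eq_one_right hgg
  apply Flg.ext'
  intro k v
  rw [mem_smulN, hinv, mem_aN, mem_aN, hw']
  constructor
  · intro h c hc
    rw [symm_swap_mul] at hc
    have h1 := h (Equiv.swap i j c) hc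
    rw [hg, Equiv.swap_apply_self] at h1
    exact h1
  · intro h c hc
    rw [hg]
    apply h
    rw [symm_swap_mul, Equiv.swap_apply_self]
    exact hc

theorem wl_symm_val (c : Fin (2 * m + 2)) :
    ((wl m).symm c).val = if m ≤ c.val ∧ c.val ≤ m + 1 then c.val else 2 * m + 1 - c.val := by
  have e : (wl m).symm c = Equiv.swap (pZ m 0) (pZ m 1) (Fin.rev c) := by
    rw [Equiv.symm_apply_eq]
    unfold wl
    rw [Equiv.Perm.mul_apply, Equiv.swap_apply_self, Fin.revPerm_apply, Fin.rev_rev]
  rw [e]
  by_cases h1 : c.val = m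
  · have e1 : Fin.rev c = pZ m 1 := Fin.ext (by rw [Fin.val_rev, pZ_val]; simp; omega)
    rw [e1, Equiv.swap_apply_right, if_pos (by omega), pZ_val]
    simp [h1]
  · by_cases h2 : c.val = m + 1
    · have e1 : Fin.rev c = pZ m 0 := Fin.ext (by rw [Fin.val_rev, pZ_val]; simp; omega)
      rw [e1, Equiv.swap_apply_left, if_pos (by omega), pZ_val]
      simp [h2]
    · have n0 : Fin.rev c ≠ pZ m 0 := by
        intro h
        have := congrArg Fin.val h
        rw [Fin.val_rev, pZ_val] at this
        simp at this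
        omega
      have n1 : Fin.rev c ≠ pZ m 1 := by
        intro h
        have := congrArg Fin.val h
        rw [Fin.val_rev, pZ_val] at this
        simp at this
        omega
      rw [Equiv.swap_apply_of_ne_of_ne n0 n1, if_neg (by omega), Fin.val_rev]
      omega

/-- The lift of the longest element maps the base flag to the opposite one. -/
theorem long_smul (g : OGm m F a b) (hgg : g * g = 1)
    (hE : ∀ (v : Fin (2 * m + 2) → F) (i : Fin m), (mat g *ᵥ v) (pE m i) = - v (pF m i))
    (hF : ∀ (v : Fin (2 * m + 2) → F) (i : Fin m), (mat g *ᵥ v) (pF m i) = - v (pE m i))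
    (hZ : ∀ v : Fin (2 * m + 2) → F, (∀ j, v (pZ m j) = 0) → ∀ j, (mat g *ᵥ v) (pZ m j) = 0)
    (w1 w0 : WN m) (h1 : w1.1 = 1) (h0 : w0.1 = wl m) : g • aN m F w1 = aN m F w0 := by
  have hinv : g⁻¹ = g := inv_eq_of_mul_eq_one_right hgg
  have hgg' : ∀ v : Fin (2 * m + 2) → F, mat g *ᵥ (mat g *ᵥ v) = v := by
    intro v
    rw [mulVec_mulVec, ← mat_mul, hgg, mat_one, one_mulVec]
  apply Flg.ext'
  intro k v
  rw [mem_smulN, hinv, mem_aN, mem_aN, h1, h0]
  have hk := cl_val (m := m) k
  constructor
  · intro h c hc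
    have hcv := wl_symm_val (m := m) c
    rw [Fin.lt_def] at hc
    rcases pos_cases c with ⟨i, rfl⟩ | ⟨j, rfl⟩ | ⟨i, rfl⟩
    · have h2 := h (pF m i) (by
        show cl m k < pF m i
        rw [Fin.lt_def, pF_val]
        rw [pE_val] at hcv
        have := i.2
        split_ifs at hcv <;> omega)
      rw [hF, neg_eq_zero] at h2
      exact h2
    · have h3 : ∀ j', (mat g *ᵥ v) (pZ m j') = 0 := by
        intro j'
        apply h
        show cl m k < pZ m j'
        rw [Fin.lt_def, pZ_val]
        rw [pZ_val] at hcv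
        have := j.2
        split_ifs at hk hcv <;> omega
      have h4 := hZ _ h3 j
      rw [hgg'] at h4
      exact h4
    · have h2 := h (pE m i) (by
        show cl m k < pE m i
        rw [Fin.lt_def, pE_val]
        rw [pF_val] at hcv
        have := i.2
        split_ifs at hcv <;> omega)
      rw [hE, neg_eq_zero] at h2
      exact h2
  · intro h c hc
    have hc' : cl m k < c := hc
    rw [Fin.lt_def] at hc'
    rcases pos_cases c with ⟨i, rfl⟩ | ⟨j, rfl⟩ | ⟨i, rfl⟩
    · rw [hE, neg_eq_zero]
      apply h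
      have hcv := wl_symm_val (m := m) (pF m i)
      rw [Fin.lt_def]
      rw [pF_val] at hcv
      rw [pE_val] at hc'
      have := i.2
      split_ifs at hcv <;> omega
    · apply hZ
      intro j'
      apply h
      have hcv := wl_symm_val (m := m) (pZ m j')
      rw [Fin.lt_def]
      rw [pZ_val] at hcv hc'
      have := j.2
      have := j'.2
      split_ifs at hk hcv <;> omega
    · rw [hF, neg_eq_zero]
      apply h
      have hcv := wl_symm_val (m := m) (pE m i)
      rw [Fin.lt_def]
      rw [pE_val] at hcv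
      rw [pF_val] at hc'
      have := i.2
      split_ifs at hcv <;> omega

/-- Big cell uniqueness. -/
theorem big_cellN (v : OGm m F a b) (hvi : IsUniM v⁻¹) (w0 w : WN m) (h0 : w0.1 = wl m)
    (h : v • aN m F w0 = aN m F w) : v = 1 ∧ w = w0 := by
  have key : ∀ j c : Fin (2 * m + 2), cl m j < (wl m).symm c → mat v⁻¹ c (w.1 j) = 0 := by
    intro j c hc
    have h1 : (Pi.single (w.1 j) 1 : Fin (2 * m + 2) → F) ∈ (aN m F w).s j := by
      rw [mem_aN]
      intro c' hc'
      rw [Pi.single_apply, if_neg]
      rintro rfl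
      rw [Equiv.symm_apply_apply, Fin.lt_def, cl_val] at hc'
      split_ifs at hc' <;> omega
    rw [← h, mem_smulN, mem_aN, h0] at h1
    have h2 := h1 c hc
    rw [mulVec_single_one] at h2
    exact h2
  have h1 : ∀ j, (wl m).symm (w.1 j) ≤ j := by
    intro j
    by_contra hcon
    by_cases hj : j.val = m
    · have e : w.1 j = j := by
        have := wn_symm_mid w j (by omega) (by omega)
        rw [Equiv.symm_apply_eq] at this
        exact this.symm
      rw [e, Fin.le_def, wl_symm_val, if_pos (by omega)] at hcon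
      exact hcon le_rfl
    · have hlt : cl m j < (wl m).symm (w.1 j) := by
        rw [Fin.lt_def, cl_val, if_neg hj]
        rw [Fin.le_def] at hcon
        omega
      have := key j (w.1 j) hlt
      rw [hvi.1.2] at this
      exact one_ne_zero this
  have h2 : ∀ j, (wl m).symm (w.1 j) = j :=
    Cfsg.Agent.H78.StSL.eq_id_of_le (fun j => (wl m).symm (w.1 j))
      (fun x y hxy => w.1.injective ((wl m).symm.injective hxy)) h1
  have hw : w.1 = wl m := by
    apply Equiv.ext
    intro j
    have := h2 j
    rw [Equiv.symm_apply_eq] at this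
    exact this
  refine ⟨?_, Subtype.ext (hw.trans h0.symm)⟩
  have h3 : mat v⁻¹ = 1 := by
    ext c d
    rcases lt_trichotomy c d with hcd | hcd | hcd
    · rw [Matrix.one_apply_ne hcd.ne]
      by_cases hmid : c.val = m ∧ d.val = m + 1
      · have e1 : c = pZ m 0 := Fin.ext (by rw [pZ_val]; simp; omega)
        have e2 : d = pZ m 1 := Fin.ext (by rw [pZ_val]; simp; omega)
        rw [e1, e2]
        exact hvi.2
      · have h4 := key ((wl m).symm d) c (by
          rw [Fin.lt_def, cl_val, wl_symm_val, wl_symm_val]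
          rw [Fin.lt_def] at hcd
          have := c.2
          have := d.2
          split_ifs <;> omega)
        rw [hw, Equiv.apply_symm_apply] at h4
        exact h4
    · subst hcd
      rw [Matrix.one_apply_eq]
      exact hvi.1.2 c
    · rw [Matrix.one_apply_ne hcd.ne']
      exact hvi.1.1 c d hcd
  have h4 : v⁻¹ = 1 := mat_injective (h3.trans mat_one.symm)
  exact inv_eq_one.mp h4

end Cfsg.Agent.H88.StN
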