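import Cfsg.Agent.H88.StNB

/-!
helper88: Steinberg module for `Ω⁻_{2m+2}(q)`: the unitriangular subgroup, the generic node
lemma and the short nodes.
-/

set_option autoImplicit false

namespace Cfsg.Agent.H88.StN

open Matrix Cfsg.Agent.H78.StSL Cfsg.Agent.H78.StM Cfsg.Agent.H50.AutPSL

variable {m : ℕ} {F : Type*} [Field F] [Fintype F] {a b : F}

/-- The unitriangular subgroup. -/
def UM (m : ℕ) (F : Type*) [Field F] [Fintype F] (a b : F) : Subgroup (OGm m F a b) where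
  carrier := {g | IsUniM g}
  mul_mem' := fun hg hh => P.isUniM_mul m a b _ _ hg hh
  one_mem' := P.isUniM_one m a b
  inv_mem' := fun hg => P.isUniM_inv m a b _ hg

theorem mem_UM (g : OGm m F a b) : g ∈ UM m F a b ↔ IsUniM g := Iff.rfl

noncomputable instance instFintypeWN (m : ℕ) : Fintype (WN m) := Fintype.ofFinite _

/-- The sign function. -/
def sgN (ε : WN m →* ℤˣ) : WN m → ℂ := fun w => (((ε w : ℤˣ) : ℤ) : ℂ)

theorem sS_mem (k : Fin m) (hk : k.val + 1 < m) : sS m k hk ∈ WN m :=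
  Subgroup.subset_closure (Or.inl ⟨k, hk, rfl⟩)

theorem sT_mem (k : Fin m) (hk : k.val + 1 = m) : sT m k ∈ WN m :=
  Subgroup.subset_closure (Or.inr ⟨k, hk, rfl⟩)

theorem wn_symm_rev (w : WN m) (c : Fin (2 * m + 2)) :
    w.1.symm (Fin.rev c) = Fin.rev (w.1.symm c) := by
  obtain ⟨-, -, f⟩ := P.wn_fix m w.1 w.2
  rw [Equiv.symm_apply_eq, f, Equiv.apply_symm_apply]

/-- The generic node lemma: rank one data for a lift of a simple reflection. -/
theorem node_stableN (ε : WN m →* ℤˣ) (s : WN m) (hs2 : s.1 * s.1 = 1) (hεs : ε s = -1)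
    (N : OGm m F a b) (X : Set (OGm m F a b)) (p p' : Fin (2 * m + 2))
    (hsp : s.1 p = p') (hsp' : s.1 p' = p) (hpp : p ≠ p')
    (hn : ∀ w : WN m, N • aN m F w = aN m F (s * w))
    (hXU : ∀ x ∈ X, IsUniM x)
    (hX : ∀ x ∈ X, ∀ w : WN m, w.1.symm p < w.1.symm p' → x • aN m F w = aN m F w)
    (hr : ∀ x ∈ X, x ≠ 1 → ∃ x' ∈ X, ∀ w : WN m, w.1.symm p < w.1.symm p' →
      (N * x) • aN m F (s * w) = x' • aN m F (s * w))
    (hf : ∀ u : OGm m F a b, IsUniM u → ∃ u' : OGm m F a b, IsUniM u' ∧ ∃ x ∈ X, u = u' * x ∧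
      IsUniM (N * u' * N⁻¹)) :
    ∀ u : (UM m F a b : Subgroup (OGm m F a b)),
      trep (OGm m F a b) (Flg (2 * m + 2) F) (N * u) (stE (aN m F) (sgN ε)) ∈
        stV (UM m F a b) (aN m F) (sgN ε) := by
  have hsymm : ∀ c, s.1.symm c = s.1 c := by
    intro c
    rw [Equiv.symm_apply_eq]
    have := congrArg (fun f : Equiv.Perm (Fin (2 * m + 2)) => f c) hs2
    simpa using this.symm
  refine rank_one (UM m F a b) (aN m F) (sgN ε) N X (fun w => s * w) ?_ ?_ hn
    {w | w.1.symm p < w.1.symm p'} ?_ hXU ?_ ?_ ?_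
  · intro w
    apply Subtype.ext
    show s.1 * (s.1 * w.1) = w.1
    rw [← mul_assoc, hs2, one_mul]
  · intro w
    show (((ε (s * w) : ℤˣ) : ℤ) : ℂ) = -(((ε w : ℤˣ) : ℤ) : ℂ)
    rw [map_mul, hεs]
    simp
  · intro w
    show (s.1 * w.1).symm p < (s.1 * w.1).symm p' ↔ ¬ (w.1.symm p < w.1.symm p')
    have e1 : (s.1 * w.1).symm p = w.1.symm p' := by
      show w.1.symm (s.1.symm p) = _
      rw [hsymm, hsp]
    have e2 : (s.1 * w.1).symm p' = w.1.symm p := by
      show w.1.symm (s.1.symm p') = _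
      rw [hsymm, hsp']
    rw [e1, e2, not_lt]
    have hne : w.1.symm p' ≠ w.1.symm p := fun h => hpp (w.1.symm.injective h).symm
    exact ⟨le_of_lt, fun h => lt_of_le_of_ne h hne⟩
  · intro x hx w hw
    exact hX x hx w hw
  · intro x hx hx1
    obtain ⟨x', hx', h⟩ := hr x hx hx1
    exact ⟨x', hx', fun w hw => h w hw⟩
  · intro u hu
    obtain ⟨u', hu', x, hx, hux, hc⟩ := hf u hu
    exact ⟨u', hu', x, hx, hux, hc⟩

section short

variable (k : Fin m) (hk : k.val + 1 < m)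

theorem short_ne1 : pE m k ≠ pE m ⟨k.val + 1, hk⟩ := by
  intro h
  have := congrArg Fin.val h
  simp only [pE_val] at this
  omega

theorem short_ne2 : pF m ⟨k.val + 1, hk⟩ ≠ pF m k := by
  intro h
  have := congrArg Fin.val h
  simp only [pF_val] at this
  omega

theorem short_disj : Disj4 (pE m k) (pE m ⟨k.val + 1, hk⟩) (pF m ⟨k.val + 1, hk⟩) (pF m k) := by
  refine ⟨?_, ?_, ?_, ?_⟩ <;>
  · intro e
    have := congrArg Fin.val e
    simp only [pE_val, pF_val] at this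
    omega

/-- The `SL` monomial element of a short node. -/
noncomputable def nSL : SpecialLinearGroup (Fin (2 * m + 2)) F :=
  nE (pE m k) (pE m ⟨k.val + 1, hk⟩) (short_ne1 k hk) *
    (nE (pF m ⟨k.val + 1, hk⟩) (pF m k) (short_ne2 k hk))⁻¹

/-- The `SL` root element of a short node. -/
noncomputable def xSL (t : F) : SpecialLinearGroup (Fin (2 * m + 2)) F :=
  xE (pE m k) (pE m ⟨k.val + 1, hk⟩) (short_ne1 k hk) t *
    xE (pF m ⟨k.val + 1, hk⟩) (pF m k) (short_ne2 k hk) (-t)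

theorem xSL_val (t : F) : (xSL k hk t : SpecialLinearGroup (Fin (2 * m + 2)) F).1 =
    transvection (pE m k) (pE m ⟨k.val + 1, hk⟩) t *
      transvection (pF m ⟨k.val + 1, hk⟩) (pF m k) (-t) := rfl

theorem mat_nshort (N : OGm m F a b)
    (hN : ∀ (v : Fin (2 * m + 2) → F) (c : Fin (2 * m + 2)),
      (mat N *ᵥ v) c =
        if c = pE m k then v (pE m ⟨k.val + 1, hk⟩)
        else if c = pE m ⟨k.val + 1, hk⟩ then - v (pE m k)
        else if c = pF m ⟨k.val + 1, hk⟩ then - v (pF m k)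
        else if c = pF m k then v (pF m ⟨k.val + 1, hk⟩)
        else v c) :
    mat N = (nSL k hk : SpecialLinearGroup (Fin (2 * m + 2)) F).1 := by
  obtain ⟨d1, d2, d3, d4⟩ := short_disj k hk
  have n1 := short_ne1 k hk
  have n2 := short_ne2 k hk
  apply mat_ext
  intro v
  funext c
  rw [hN]
  show _ = (((nE (pE m k) (pE m ⟨k.val + 1, hk⟩) (short_ne1 k hk) :
    SpecialLinearGroup (Fin (2 * m + 2)) F).1 *
    ((nE (pF m ⟨k.val + 1, hk⟩) (pF m k) (short_ne2 k hk) :
      SpecialLinearGroup (Fin (2 * m + 2)) F)⁻¹).1) *ᵥ v) c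
  rw [← mulVec_mulVec, nE_mulVec]
  simp only [nE_inv_mulVec]
  by_cases h1 : c = pE m k
  · subst h1
    simp [d3, d4]
  · by_cases h2 : c = pE m ⟨k.val + 1, hk⟩
    · subst h2
      simp [n1.symm, d1, d2]
    · by_cases h3 : c = pF m ⟨k.val + 1, hk⟩
      · subst h3
        simp [h1, h2]
      · by_cases h4 : c = pF m k
        · subst h4
          simp [h1, h2, h3]
        · simp [h1, h2, h3, h4]

theorem sS_val : sS m k hk = Equiv.swap (pE m k) (pE m ⟨k.val + 1, hk⟩) *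
    Equiv.swap (pF m ⟨k.val + 1, hk⟩) (pF m k) := rfl

theorem sS_mul_self : sS m k hk * sS m k hk = 1 := by
  rw [sS_val, mul_assoc, ← swap_comm_of_disj _ _ _ _ (short_disj k hk), Equiv.swap_mul_self,
    mul_one, Equiv.swap_mul_self]

theorem isUniM_xshort (x : OGm m F a b) (t : F)
    (hx : mat x = transvection (pE m k) (pE m ⟨k.val + 1, hk⟩) t *
      transvection (pF m ⟨k.val + 1, hk⟩) (pF m k) (-t)) : IsUniM x := by
  constructor
  · rw [hx]
    apply IsUT.mul
    · exact isUT_transvection _ _ (by rw [Fin.lt_def]; simp only [pE_val]; omega) _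
    · exact isUT_transvection _ _ (by rw [Fin.lt_def]; simp only [pF_val]; omega) _
  · rw [hx]
    have h1 : (pZ m 0 : Fin (2 * m + 2)) ≠ pE m k := by
      intro h
      have := congrArg Fin.val h
      simp only [pE_val, pZ_val] at this
      have := k.2
      simp at this
      omega
    have h2 : (pZ m 0 : Fin (2 * m + 2)) ≠ pF m ⟨k.val + 1, hk⟩ := by
      intro h
      have := congrArg Fin.val h
      simp only [pF_val, pZ_val] at this
      simp at this
      omega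
    have h3 : (pZ m 0 : Fin (2 * m + 2)) ≠ pZ m 1 := by
      intro h
      have := congrArg Fin.val h
      simp only [pZ_val] at this
      simp at this
    have e : (transvection (pE m k) (pE m ⟨k.val + 1, hk⟩) t *
        transvection (pF m ⟨k.val + 1, hk⟩) (pF m k) (-t)) (pZ m 0) (pZ m 1) =
        ((transvection (pE m k) (pE m ⟨k.val + 1, hk⟩) t *
          transvection (pF m ⟨k.val + 1, hk⟩) (pF m k) (-t)) *ᵥ Pi.single (pZ m 1) 1) (pZ m 0) := by
      rw [mulVec_single_one]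
      rfl
    rw [e, ← mulVec_mulVec, tv_mulVec, if_neg h1, tv_mulVec, if_neg h2, Pi.single_apply,
      if_neg h3]

/-- The rank one data at a short node. -/
theorem short_nodeN (ε : WN m →* ℤˣ) (hε : ε ⟨sS m k hk, sS_mem k hk⟩ = -1)
    (N : OGm m F a b)
    (hN : ∀ (v : Fin (2 * m + 2) → F) (c : Fin (2 * m + 2)),
      (mat N *ᵥ v) c =
        if c = pE m k then v (pE m ⟨k.val + 1, hk⟩)
        else if c = pE m ⟨k.val + 1, hk⟩ then - v (pE m k)
        else if c = pF m ⟨k.val + 1, hk⟩ then - v (pF m k)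
        else if c = pF m k then v (pF m ⟨k.val + 1, hk⟩)
        else v c) :
    ∀ u : (UM m F a b : Subgroup (OGm m F a b)),
      trep (OGm m F a b) (Flg (2 * m + 2) F) (N * u) (stE (aN m F) (sgN ε)) ∈
        stV (UM m F a b) (aN m F) (sgN ε) := by
  have hd := short_disj k hk
  have n1 := short_ne1 k hk
  have n2 := short_ne2 k hk
  have hNsl := mat_nshort k hk N hN
  have hrev1 : pF m ⟨k.val + 1, hk⟩ = Fin.rev (pE m ⟨k.val + 1, hk⟩) := by
    apply Fin.ext
    rw [Fin.val_rev, pF_val, pE_val]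
    omega
  have hrev2 : pF m k = Fin.rev (pE m k) := by
    apply Fin.ext
    rw [Fin.val_rev, pF_val, pE_val]
    have := k.2
    omega
  have hw' : ∀ w : WN m, w.1.symm (pE m k) < w.1.symm (pE m ⟨k.val + 1, hk⟩) →
      w.1.symm (pF m ⟨k.val + 1, hk⟩) < w.1.symm (pF m k) := by
    intro w hw
    rw [hrev1, hrev2, wn_symm_rev, wn_symm_rev, Fin.rev_lt_rev]
    exact hw
  refine node_stableN ε ⟨sS m k hk, sS_mem k hk⟩ (sS_mul_self k hk) hε N
    {x | ∃ t : F, mat x = transvection (pE m k) (pE m ⟨k.val + 1, hk⟩) t *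
      transvection (pF m ⟨k.val + 1, hk⟩) (pF m k) (-t)}
    (pE m k) (pE m ⟨k.val + 1, hk⟩) ?_ ?_ n1 ?_ ?_ ?_ ?_ ?_
  · show sS m k hk (pE m k) = _
    rw [sS_val, Equiv.Perm.mul_apply, Equiv.swap_apply_of_ne_of_ne hd.1 hd.2.1,
      Equiv.swap_apply_left]
  · show sS m k hk (pE m ⟨k.val + 1, hk⟩) = _
    rw [sS_val, Equiv.Perm.mul_apply, Equiv.swap_apply_of_ne_of_ne hd.2.2.1 hd.2.2.2,
      Equiv.swap_apply_right]
  · intro w
    show N • crs (apt w.1) = crs (apt (sS m k hk * w.1))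
    have e3 : sS m k hk * w.1 = Equiv.swap (pE m k) (pE m ⟨k.val + 1, hk⟩) *
        (Equiv.swap (pF m ⟨k.val + 1, hk⟩) (pF m k) * w.1) := by
      rw [sS_val, mul_assoc]
    rw [smul_crs, smul_eq_sl N _ hNsl, e3]
    unfold nSL
    rw [dbl_n_smul_apt]
  · rintro x ⟨t, hx⟩
    exact isUniM_xshort k hk x t hx
  · rintro x ⟨t, hx⟩ w hw
    show x • crs (apt w.1) = crs (apt w.1)
    rw [smul_crs, smul_eq_sl x (xSL k hk t) hx]
    unfold xSL
    rw [dbl_x_smul_apt _ _ _ _ _ _ _ _ _ hw (hw' w hw)]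
  · rintro x ⟨t, hx⟩ hx1
    have ht : t ≠ 0 := by
      rintro rfl
      apply hx1
      apply mat_injective
      rw [hx, mat_one, neg_zero, transvection_zero, transvection_zero, Matrix.one_mul]
    obtain ⟨x', hx'⟩ := P.exists_xshort m a b k hk (-t⁻¹)
    refine ⟨x', ⟨-t⁻¹, hx'⟩, ?_⟩
    intro w hw
    show (N * x) • crs (apt (sS m k hk * w.1)) = x' • crs (apt (sS m k hk * w.1))
    have e1 : mat (N * x) = (nSL k hk * xSL k hk t : SpecialLinearGroup (Fin (2 * m + 2)) F).1 := by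
      rw [mat_mul, hNsl, hx]
      rfl
    rw [smul_crs, smul_crs, smul_eq_sl (N * x) _ e1, smul_eq_sl x' (xSL k hk (-t⁻¹)) hx']
    have key := dbl_rank1 (pE m k) (pE m ⟨k.val + 1, hk⟩) (pF m ⟨k.val + 1, hk⟩) (pF m k)
      n1 n2 hd t (-t) ht (neg_ne_zero.mpr ht) w.1 hw (hw' w hw)
    have e2 : -(-t)⁻¹ = - -t⁻¹ := by rw [inv_neg]
    rw [e2] at key
    have e3 : sS m k hk * w.1 = Equiv.swap (pE m k) (pE m ⟨k.val + 1, hk⟩) *
        (Equiv.swap (pF m ⟨k.val + 1, hk⟩) (pF m k) * w.1) := by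
      rw [sS_val, mul_assoc]
    rw [e3]
    unfold nSL xSL
    rw [key]
  · intro u hu
    obtain ⟨u', x, t, hu', hx, hux, hc⟩ := P.short_factor m a b k hk N hN u hu
    exact ⟨u', hu', x, ⟨t, hx⟩, hux, hc⟩

end short

end Cfsg.Agent.H88.StN
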