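import Cfsg.Agent.H88.StNC

/-!
helper88: Steinberg module for `Ω⁻_{2m+2}(q)`: the twisted node.
-/

set_option autoImplicit false

namespace Cfsg.Agent.H88.StN

open Matrix Cfsg.Agent.H78.StSL Cfsg.Agent.H78.StM Cfsg.Agent.H50.AutPSL

variable {m : ℕ} {F : Type*} [Field F] {a b : F}

/-- The action of the twisted root element with parameters `c1`, `c2` at the pair `k`. -/
def twF (m : ℕ) (a b : F) (k : Fin m) (c1 c2 : F) (v : Fin (2 * m + 2) → F)
    (c : Fin (2 * m + 2)) : F :=
  if c = pE m k then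
    v (pE m k) - (c1 * (2 * v (pZ m 0) + a * v (pZ m 1)) +
        c2 * (a * v (pZ m 0) + 2 * b * v (pZ m 1))) -
      (c1 ^ 2 + a * c1 * c2 + b * c2 ^ 2) * v (pF m k)
  else if c = pZ m 0 then v (pZ m 0) + c1 * v (pF m k)
  else if c = pZ m 1 then v (pZ m 1) + c2 * v (pF m k)
  else v c

section tw

variable (k : Fin m)

theorem ne_ZE (j : Fin 2) : pZ m j ≠ pE m k := by
  intro h
  have := congrArg Fin.val h
  simp only [pE_val, pZ_val] at this
  have := k.2
  omega

theorem ne_FE : pF m k ≠ pE m k := by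
  intro h
  have := congrArg Fin.val h
  simp only [pE_val, pF_val] at this
  have := k.2
  omega

theorem ne_FZ (j : Fin 2) : pF m k ≠ pZ m j := by
  intro h
  have := congrArg Fin.val h
  simp only [pF_val, pZ_val] at this
  have := k.2
  have := j.2
  omega

theorem ne_Z10 : pZ m 1 ≠ pZ m 0 := by
  intro h
  have := congrArg Fin.val h
  simp only [pZ_val] at this
  simp at this

theorem twF_E (c1 c2 : F) (v : Fin (2 * m + 2) → F) :
    twF m a b k c1 c2 v (pE m k) =
      v (pE m k) - (c1 * (2 * v (pZ m 0) + a * v (pZ m 1)) +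
        c2 * (a * v (pZ m 0) + 2 * b * v (pZ m 1))) -
      (c1 ^ 2 + a * c1 * c2 + b * c2 ^ 2) * v (pF m k) := if_pos rfl

theorem twF_Z0 (c1 c2 : F) (v : Fin (2 * m + 2) → F) :
    twF m a b k c1 c2 v (pZ m 0) = v (pZ m 0) + c1 * v (pF m k) := by
  unfold twF
  rw [if_neg (ne_ZE k 0), if_pos rfl]

theorem twF_Z1 (c1 c2 : F) (v : Fin (2 * m + 2) → F) :
    twF m a b k c1 c2 v (pZ m 1) = v (pZ m 1) + c2 * v (pF m k) := by
  unfold twF
  rw [if_neg (ne_ZE k 1), if_neg ne_Z10, if_pos rfl]

theorem twF_F (c1 c2 : F) (v : Fin (2 * m + 2) → F) :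
    twF m a b k c1 c2 v (pF m k) = v (pF m k) := by
  unfold twF
  rw [if_neg (ne_FE k), if_neg (ne_FZ k 0), if_neg (ne_FZ k 1)]

theorem twF_else (c1 c2 : F) (v : Fin (2 * m + 2) → F) (c : Fin (2 * m + 2))
    (h1 : c ≠ pE m k) (h2 : c ≠ pZ m 0) (h3 : c ≠ pZ m 1) :
    twF m a b k c1 c2 v c = v c := by
  unfold twF
  rw [if_neg h1, if_neg h2, if_neg h3]

/-- The twisted root elements are unitriangular. -/
theorem isUniM_xtw (x : OGm m F a b) (c1 c2 : F)
    (hx : ∀ (v : Fin (2 * m + 2) → F) (c : Fin (2 * m + 2)),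
      (mat x *ᵥ v) c = twF m a b k c1 c2 v c) : IsUniM x := by
  have hent : ∀ i j : Fin (2 * m + 2), mat x i j = twF m a b k c1 c2 (Pi.single j 1) i := by
    intro i j
    rw [← hx, mulVec_single_one]
    rfl
  have hs : ∀ j c : Fin (2 * m + 2), c ≠ j → (Pi.single j (1 : F) : Fin (2 * m + 2) → F) c = 0 :=
    fun j c h => by rw [Pi.single_apply, if_neg h]
  have hkm := k.2
  refine ⟨⟨?_, ?_⟩, ?_⟩
  · intro i j hji
    rw [Fin.lt_def] at hji
    rw [hent]
    by_cases h1 : i = pE m k
    · rw [h1, twF_E, hs j (pE m k), hs j (pZ m 0), hs j (pZ m 1), hs j (pF m k)]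
      · ring
      all_goals
        intro h
        rw [h1] at hji
        rw [← h] at hji
        simp only [pE_val, pF_val, pZ_val] at hji
        try simp at hji
        try omega
    · by_cases h2 : i = pZ m 0
      · rw [h2, twF_Z0, hs j (pZ m 0), hs j (pF m k)]
        · ring
        all_goals
          intro h
          rw [h2] at hji
          rw [← h] at hji
          simp only [pE_val, pF_val, pZ_val] at hji
          try simp at hji
          try omega
      · by_cases h3 : i = pZ m 1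
        · rw [h3, twF_Z1, hs j (pZ m 1), hs j (pF m k)]
          · ring
          all_goals
            intro h
            rw [h3] at hji
            rw [← h] at hji
            simp only [pE_val, pF_val, pZ_val] at hji
            try simp at hji
            try omega
        · rw [twF_else k c1 c2 _ i h1 h2 h3]
          exact hs j i (fun h => by rw [h] at hji; exact lt_irrefl _ hji)
  · intro i
    rw [hent]
    by_cases h1 : i = pE m k
    · rw [h1, twF_E, hs (pE m k) (pZ m 0) (ne_ZE k 0), hs (pE m k) (pZ m 1) (ne_ZE k 1),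
        hs (pE m k) (pF m k) (ne_FE k), Pi.single_eq_same]
      ring
    · by_cases h2 : i = pZ m 0
      · rw [h2, twF_Z0, hs (pZ m 0) (pF m k) (ne_FZ k 0), Pi.single_eq_same]
        ring
      · by_cases h3 : i = pZ m 1
        · rw [h3, twF_Z1, hs (pZ m 1) (pF m k) (ne_FZ k 1), Pi.single_eq_same]
          ring
        · rw [twF_else k c1 c2 _ i h1 h2 h3, Pi.single_eq_same]
  · rw [hent, twF_Z0, hs (pZ m 1) (pZ m 0) ne_Z10.symm, hs (pZ m 1) (pF m k) (ne_FZ k 1)]
    ring

theorem cl_ne (k' : Fin (2 * m + 2)) : (cl m k').val ≠ m := by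
  rw [cl_val]
  split_ifs with h <;> omega

theorem pF_eq_rev : pF m k = Fin.rev (pE m k) := by
  apply Fin.ext
  rw [Fin.val_rev, pF_val, pE_val]
  have := k.2
  omega

/-- The twisted root elements fix the half of the apartment where `e_k` comes first. -/
theorem tw_fix (x : OGm m F a b) (c1 c2 : F)
    (hx : ∀ (v : Fin (2 * m + 2) → F) (c : Fin (2 * m + 2)),
      (mat x *ᵥ v) c = twF m a b k c1 c2 v c)
    (w : WN m) (hw : w.1.symm (pE m k) < w.1.symm (pF m k)) :
    x • aN m F w = aN m F w := by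
  have hz0 := wn_symm_mid w (pZ m 0) (by rw [pZ_val]; simp) (by rw [pZ_val]; simp)
  have hz1 := wn_symm_mid w (pZ m 1) (by rw [pZ_val]; simp) (by rw [pZ_val]; simp)
  have hF : (w.1.symm (pF m k)).val = 2 * m + 1 - (w.1.symm (pE m k)).val := by
    rw [pF_eq_rev, wn_symm_rev, Fin.val_rev]
    omega
  have hout := wn_symm_out w (pE m k) (Or.inl k.2)
  have he : (w.1.symm (pE m k)).val < m := by
    rw [Fin.lt_def, hF] at hw
    omega
  apply smul_fix_of_stable x _ (fun k' => {c | cl m k' < w.1.symm c}) (fun _ _ => Iff.rfl)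
  intro k' v hv c hc
  have hc' : cl m k' < w.1.symm c := hc
  have hK := cl_ne (m := m) k'
  rw [Fin.lt_def] at hc'
  rw [hx]
  by_cases h1 : c = pE m k
  · rw [h1] at hc'
    have v0 : v (pE m k) = 0 := hv _ (by show cl m k' < _; rw [Fin.lt_def]; exact hc')
    have v1 : v (pZ m 0) = 0 := hv _ (by
      show cl m k' < _
      rw [hz0, Fin.lt_def, pZ_val]
      omega)
    have v2 : v (pZ m 1) = 0 := hv _ (by
      show cl m k' < _
      rw [hz1, Fin.lt_def, pZ_val]
      omega)
    have v3 : v (pF m k) = 0 := hv _ (by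
      show cl m k' < _
      rw [Fin.lt_def, hF]
      omega)
    rw [h1, twF_E, v0, v1, v2, v3]
    ring
  · by_cases h2 : c = pZ m 0
    · rw [h2, hz0, pZ_val] at hc'
      have v1 : v (pZ m 0) = 0 := hv _ (by
        show cl m k' < _
        rw [hz0, Fin.lt_def, pZ_val]
        exact hc')
      have v3 : v (pF m k) = 0 := hv _ (by
        show cl m k' < _
        rw [Fin.lt_def, hF]
        simp at hc'
        omega)
      rw [h2, twF_Z0, v1, v3]
      ring
    · by_cases h3 : c = pZ m 1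
      · rw [h3, hz1, pZ_val] at hc'
        have v2 : v (pZ m 1) = 0 := hv _ (by
          show cl m k' < _
          rw [hz1, Fin.lt_def, pZ_val]
          exact hc')
        have v3 : v (pF m k) = 0 := hv _ (by
          show cl m k' < _
          rw [Fin.lt_def, hF]
          simp at hc'
          omega)
        rw [h3, twF_Z1, v2, v3]
        ring
      · rw [twF_else k c1 c2 v c h1 h2 h3]
        exact hv c hc

/-- The twisted root element with parameters `0`, `0` is trivial. -/
theorem tw_zero (x : OGm m F a b)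
    (hx : ∀ (v : Fin (2 * m + 2) → F) (c : Fin (2 * m + 2)),
      (mat x *ᵥ v) c = twF m a b k 0 0 v c) : x = 1 := by
  apply mat_injective
  rw [mat_one]
  apply mat_ext
  intro v
  funext c
  rw [hx, one_mulVec]
  unfold twF
  split_ifs <;> simp_all

/-- Inverses of twisted root elements. -/
theorem tw_inv (x x' : OGm m F a b) (c1 c2 : F)
    (hx : ∀ (v : Fin (2 * m + 2) → F) (c : Fin (2 * m + 2)),
      (mat x *ᵥ v) c = twF m a b k c1 c2 v c)
    (hx' : ∀ (v : Fin (2 * m + 2) → F) (c : Fin (2 * m + 2)),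
      (mat x' *ᵥ v) c = twF m a b k (-c1) (-c2) v c) : x'⁻¹ = x := by
  apply inv_eq_of_mul_eq_one_right
  apply mat_injective
  rw [mat_one, mat_mul]
  apply mat_ext
  intro v
  funext c
  rw [← mulVec_mulVec, one_mulVec, hx']
  by_cases h1 : c = pE m k
  · rw [h1, twF_E, hx, hx, hx, hx, twF_E, twF_Z0, twF_Z1, twF_F]
    ring
  · by_cases h2 : c = pZ m 0
    · rw [h2, twF_Z0, hx, hx, twF_Z0, twF_F]
      ring
    · by_cases h3 : c = pZ m 1
      · rw [h3, twF_Z1, hx, hx, twF_Z1, twF_F]
        ring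
      · rw [twF_else k _ _ _ c h1 h2 h3, hx, twF_else k _ _ _ c h1 h2 h3]

/-- The rank one relation at the twisted node. -/
theorem tw_rel (hab : ∀ z₁ z₂ : F, z₁ ^ 2 + a * z₁ * z₂ + b * z₂ ^ 2 = 0 → z₁ = 0 ∧ z₂ = 0)
    (N x x' : OGm m F a b) (c1 c2 : F)
    (hN : ∀ (v : Fin (2 * m + 2) → F) (c : Fin (2 * m + 2)),
      (mat N *ᵥ v) c = v (Equiv.swap (pE m k) (pF m k) c))
    (hx : ∀ (v : Fin (2 * m + 2) → F) (c : Fin (2 * m + 2)),
      (mat x *ᵥ v) c = twF m a b k c1 c2 v c)
    (hx1 : x ≠ 1)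
    (hx' : ∀ (v : Fin (2 * m + 2) → F) (c : Fin (2 * m + 2)),
      (mat x' *ᵥ v) c = twF m a b k (-(c1 / (c1 ^ 2 + a * c1 * c2 + b * c2 ^ 2)))
        (-(c2 / (c1 ^ 2 + a * c1 * c2 + b * c2 ^ 2))) v c)
    (x'' : OGm m F a b)
    (hx'' : ∀ (v : Fin (2 * m + 2) → F) (c : Fin (2 * m + 2)),
      (mat x'' *ᵥ v) c = twF m a b k (c1 / (c1 ^ 2 + a * c1 * c2 + b * c2 ^ 2))
        (c2 / (c1 ^ 2 + a * c1 * c2 + b * c2 ^ 2)) v c)
    (τ : WN m) (hτ : τ.1.symm (pF m k) < τ.1.symm (pE m k)) :
    (N * x) • aN m F τ = x' • aN m F τ := by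
  have hQ : c1 ^ 2 + a * c1 * c2 + b * c2 ^ 2 ≠ 0 := by
    intro h
    obtain ⟨h1, h2⟩ := hab c1 c2 h
    apply hx1
    apply tw_zero k x
    rw [h1, h2] at hx
    exact hx
  obtain ⟨Q, hQdef⟩ : ∃ Q : F, Q = c1 ^ 2 + a * c1 * c2 + b * c2 ^ 2 := ⟨_, rfl⟩
  rw [← hQdef] at hQ hx' hx''
  have hinv : x'⁻¹ = x'' := tw_inv k x'' x' _ _ hx'' hx'
  have hz0 := wn_symm_mid τ (pZ m 0) (by rw [pZ_val]; simp) (by rw [pZ_val]; simp)
  have hz1 := wn_symm_mid τ (pZ m 1) (by rw [pZ_val]; simp) (by rw [pZ_val]; simp)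
  have hF : (τ.1.symm (pF m k)).val = 2 * m + 1 - (τ.1.symm (pE m k)).val := by
    rw [pF_eq_rev, wn_symm_rev, Fin.val_rev]
    omega
  have hout := wn_symm_out τ (pE m k) (Or.inl k.2)
  have he : m + 1 < (τ.1.symm (pE m k)).val := by
    rw [Fin.lt_def, hF] at hτ
    omega
  have hle : (τ.1.symm (pE m k)).val ≤ 2 * m + 1 := by
    have := (τ.1.symm (pE m k)).2
    omega
  have sE : Equiv.swap (pE m k) (pF m k) (pE m k) = pF m k := Equiv.swap_apply_left _ _
  have sF : Equiv.swap (pE m k) (pF m k) (pF m k) = pE m k := Equiv.swap_apply_right _ _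
  have sZ : ∀ j, Equiv.swap (pE m k) (pF m k) (pZ m j) = pZ m j := fun j =>
    Equiv.swap_apply_of_ne_of_ne (ne_ZE k j) (ne_FZ k j).symm
  apply smul_eq_of_stable (N * x) x' _ (fun k' => {c | cl m k' < τ.1.symm c})
    (fun _ _ => Iff.rfl)
  intro k' v hv c hc
  have hc' : cl m k' < τ.1.symm c := hc
  have hK := cl_ne (m := m) k'
  rw [Fin.lt_def] at hc'
  rw [hinv, mat_mul, ← mulVec_mulVec, hx'']
  by_cases h1 : c = pE m k
  · rw [h1] at hc'
    have v0 : v (pE m k) = 0 := hv _ (by show cl m k' < _; rw [Fin.lt_def]; exact hc')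
    rw [h1, twF_E, hN, hN, hN, hN, sE, sF, sZ, sZ, hx, hx, hx, hx, twF_E, twF_Z0, twF_Z1, twF_F,
      v0, ← hQdef]
    field_simp
    rw [hQdef]
    ring
  · by_cases h2 : c = pZ m 0
    · rw [h2, hz0, pZ_val] at hc'
      simp at hc'
      have v0 : v (pE m k) = 0 := hv _ (by show cl m k' < _; rw [Fin.lt_def]; omega)
      have v1 : v (pZ m 0) = 0 := hv _ (by
        show cl m k' < _
        rw [hz0, Fin.lt_def, pZ_val]
        simp
        exact hc')
      have v2 : v (pZ m 1) = 0 := hv _ (by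
        show cl m k' < _
        rw [hz1, Fin.lt_def, pZ_val]
        simp
        omega)
      rw [h2, twF_Z0, hN, hN, sF, sZ, hx, hx, twF_E, twF_Z0, v0, v1, v2, ← hQdef]
      field_simp
      ring
    · by_cases h3 : c = pZ m 1
      · rw [h3, hz1, pZ_val] at hc'
        simp at hc'
        have v0 : v (pE m k) = 0 := hv _ (by show cl m k' < _; rw [Fin.lt_def]; omega)
        have v1 : v (pZ m 0) = 0 := hv _ (by
          show cl m k' < _
          rw [hz0, Fin.lt_def, pZ_val]
          simp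
          omega)
        have v2 : v (pZ m 1) = 0 := hv _ (by
          show cl m k' < _
          rw [hz1, Fin.lt_def, pZ_val]
          simp
          exact hc')
        rw [h3, twF_Z1, hN, hN, sF, sZ, hx, hx, twF_E, twF_Z1, v0, v1, v2, ← hQdef]
        field_simp
        ring
      · rw [twF_else k _ _ _ c h1 h2 h3, hN]
        by_cases h4 : c = pF m k
        · rw [h4, hF] at hc'
          have v0 : v (pE m k) = 0 := hv _ (by show cl m k' < _; rw [Fin.lt_def]; omega)
          have v1 : v (pZ m 0) = 0 := hv _ (by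
            show cl m k' < _
            rw [hz0, Fin.lt_def, pZ_val]
            simp
            omega)
          have v2 : v (pZ m 1) = 0 := hv _ (by
            show cl m k' < _
            rw [hz1, Fin.lt_def, pZ_val]
            simp
            omega)
          have v3 : v (pF m k) = 0 := hv _ (by
            show cl m k' < _
            rw [Fin.lt_def, hF]
            omega)
          rw [h4, sF, hx, twF_E, v0, v1, v2, v3]
          ring
        · rw [Equiv.swap_apply_of_ne_of_ne h1 h4, hx, twF_else k _ _ _ c h1 h2 h3]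
          exact hv c hc

end tw

end Cfsg.Agent.H88.StN
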