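import Cfsg.Agent.H88.StUDefs

/-!
helper88: generic flag lemmas for the Steinberg module of `UG n φ`: the rank one relation for a
twisted `SL₂` monomial element, and facts on the simple reflections `sref`.
-/

set_option autoImplicit false

namespace Cfsg.Agent.H88.StU

open Matrix Cfsg.Agent.H88.Un Cfsg.Agent.H78.StSL Cfsg.Agent.H50.AutPSL

section generic

variable {n : ℕ} {F : Type*} [Field F]

theorem single_mulVec' (i j : Fin n) (c : F) (v : Fin n → F) (x : Fin n) :
    (Matrix.single i j c *ᵥ v) x = if x = i then c * v j else 0 := by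
  rw [Matrix.single_mulVec, Function.update_apply]
  simp

/-- The inverse of an element acting by a twisted transposition. -/
theorem mono2_inv (i j : Fin n) (hij : i ≠ j) (N : SpecialLinearGroup (Fin n) F) (β γ : F)
    (hβ : β ≠ 0) (hγ : γ ≠ 0)
    (hN : ∀ (v : Fin n → F) (c : Fin n), (N.1 *ᵥ v) c =
      if c = i then β * v j else if c = j then γ * v i else v c)
    (v : Fin n → F) (c : Fin n) :
    ((N⁻¹).1 *ᵥ v) c = if c = i then γ⁻¹ * v j else if c = j then β⁻¹ * v i else v c := by
  have h1 : N.1 *ᵥ ((N⁻¹).1 *ᵥ v) = v := by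
    rw [mulVec_mulVec]
    show (N * N⁻¹).1 *ᵥ v = v
    rw [mul_inv_cancel]
    show (1 : Matrix (Fin n) (Fin n) F) *ᵥ v = v
    rw [one_mulVec]
  have h2 := fun c => (hN ((N⁻¹).1 *ᵥ v) c).symm.trans (congrFun h1 c)
  by_cases hi : c = i
  · subst hi
    rw [if_pos rfl]
    have h3 := h2 j
    rw [if_neg hij.symm, if_pos rfl] at h3
    rw [← h3]
    field_simp
  · by_cases hj : c = j
    · subst hj
      rw [if_neg hi, if_pos rfl]
      have h3 := h2 i
      rw [if_pos rfl] at h3
      rw [← h3]
      field_simp
    · rw [if_neg hi, if_neg hj]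
      have h3 := h2 c
      rw [if_neg hi, if_neg hj] at h3
      exact h3

/-- The rank one relation on the apartment for a twisted monomial element. -/
theorem rank1_mono (i j : Fin n) (hij : i ≠ j) (N : SpecialLinearGroup (Fin n) F) (β γ : F)
    (hβ : β ≠ 0) (hγ : γ ≠ 0)
    (hN : ∀ (v : Fin n → F) (c : Fin n), (N.1 *ᵥ v) c =
      if c = i then β * v j else if c = j then γ * v i else v c)
    (t : F) (ht : t ≠ 0) (w : Equiv.Perm (Fin n)) (hw : w.symm i < w.symm j) :
    (N * xE i j hij t) • (apt (Equiv.swap i j * w) : Flg n F) =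
      xE i j hij (β / (γ * t)) • apt (Equiv.swap i j * w) := by
  have hN' := mono2_inv i j hij N β γ hβ hγ hN
  apply Flg.ext'
  intro k v
  rw [mem_smul, mem_smul, mem_apt, mem_apt, _root_.mul_inv_rev, xE_inv, xE_inv]
  have hv : ((xE i j hij (-t) * N⁻¹).1 *ᵥ v) = (xE i j hij (-t)).1 *ᵥ ((N⁻¹).1 *ᵥ v) := by
    rw [mulVec_mulVec]
    rfl
  rw [hv]
  simp only [xE_mulVec, hN', symm_swap_mul]
  have hsi : Equiv.swap i j i = j := Equiv.swap_apply_left i j
  have hsj : Equiv.swap i j j = i := Equiv.swap_apply_right i j
  constructor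
  · intro h c hc
    by_cases h1 : c = i
    · subst h1
      have h2 := h c hc
      simp only [hij, hij.symm, if_true, if_false] at h2 ⊢
      field_simp at h2 ⊢
      linear_combination -h2
    · by_cases h2 : c = j
      · subst h2
        rw [hsj] at hc
        have h3 := h c (by rw [hsj]; exact hc)
        have h4 := h i (by rw [hsi]; exact lt_trans hc hw)
        simp only [hij, hij.symm, if_true, if_false] at h3 h4 ⊢
        have h5 : v i = 0 := by
          rcases mul_eq_zero.1 h3 with h | h
          · exact absurd h (inv_ne_zero hβ)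
          · exact h
        rw [h5] at h4
        have h6 : γ⁻¹ * v c = 0 := by simpa using h4
        rcases mul_eq_zero.1 h6 with h | h
        · exact absurd h (inv_ne_zero hγ)
        · exact h
      · have h3 := h c hc
        simpa [h1, h2] using h3
  · intro h c hc
    by_cases h1 : c = i
    · subst h1
      have h2 := h c hc
      simp only [hij, hij.symm, if_true, if_false] at h2 ⊢
      field_simp at h2 ⊢
      linear_combination -h2
    · by_cases h2 : c = j
      · subst h2
        rw [hsj] at hc
        have h3 := h c (by rw [hsj]; exact hc)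
        have h4 := h i (by rw [hsi]; exact lt_trans hc hw)
        simp only [hij, hij.symm, if_true, if_false] at h3 h4 ⊢
        rw [h3] at h4
        have h5 : v i = 0 := by simpa using h4
        rw [h5, mul_zero]
      · have h3 := h c hc
        simpa [h1, h2] using h3

end generic

end Cfsg.Agent.H88.StU
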