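import Cfsg.Agent.H88.StUA
import Cfsg.Agent.H14.StUW
import Cfsg.Agent.H4.StURel
import Cfsg.Agent.H4.StUMono
import Cfsg.Agent.H77.StUR1B

/-!
helper88: the Steinberg module of `UG n φ`: generic node lemma.
-/

set_option autoImplicit false

namespace Cfsg.Agent.H88.StU

open Matrix Cfsg.Agent.H88.Un Cfsg.Agent.H78.StSL Cfsg.Agent.H78.StM Cfsg.Agent.H50.AutPSL

theorem pr_lt (n : ℕ) (i : Fin (n / 2)) : 2 * (pr n i).val + 1 < n := by
  have := i.2
  rw [pr_val]
  omega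

theorem sref_short (n : ℕ) (i : Fin (n / 2)) (h : i.val + 1 < n / 2) :
    sref n i = Equiv.swap (pr n i) (pr n ⟨i.val + 1, h⟩) *
      Equiv.swap (pr n ⟨i.val + 1, h⟩).rev (pr n i).rev := dif_pos h

theorem sref_last (n : ℕ) (i : Fin (n / 2)) (h : ¬ i.val + 1 < n / 2) :
    sref n i = Equiv.swap (pr n i) (pr n i).rev := dif_neg h

theorem short_disj (n : ℕ) (i : Fin (n / 2)) (h : i.val + 1 < n / 2) :
    Disj4 (pr n i) (pr n ⟨i.val + 1, h⟩) (pr n ⟨i.val + 1, h⟩).rev (pr n i).rev := by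
  have h1 := pr_lt n i
  have h2 := pr_lt n ⟨i.val + 1, h⟩
  simp only [pr_val] at h1 h2
  refine ⟨?_, ?_, ?_, ?_⟩ <;>
  · intro e
    have := congrArg Fin.val e
    simp only [rev_val, pr_val] at this
    omega

theorem sref_mul_self (n : ℕ) (i : Fin (n / 2)) : sref n i * sref n i = 1 := by
  by_cases h : i.val + 1 < n / 2
  · rw [sref_short n i h, mul_assoc,
      ← swap_comm_of_disj _ _ _ _ (short_disj n i h), Equiv.swap_mul_self, mul_one,
      Equiv.swap_mul_self]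
  · rw [sref_last n i h, Equiv.swap_mul_self]

theorem sref_symm (n : ℕ) (i : Fin (n / 2)) (c : Fin n) : (sref n i).symm c = sref n i c := by
  rw [Equiv.symm_apply_eq]
  have := congrArg (fun f : Equiv.Perm (Fin n) => f c) (sref_mul_self n i)
  simpa using this.symm

theorem mul_symm_apply {n : ℕ} (s w : Equiv.Perm (Fin n)) (c : Fin n) :
    (s * w).symm c = w.symm (s.symm c) := rfl

noncomputable instance instFintypeWU (n : ℕ) : Fintype (WU n) := Fintype.ofFinite _

/-- The simple reflections as elements of the Weyl group. -/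
def sW (n : ℕ) (i : Fin (n / 2)) : WU n := ⟨sref n i, Subgroup.subset_closure ⟨i, rfl⟩⟩

/-- The apartment. -/
def aU (n : ℕ) (K : Type*) [Field K] : WU n → Flg n K := fun w => apt w.1

/-- The sign function. -/
def sgU {n : ℕ} (ε : WU n →* ℤˣ) : WU n → ℂ := fun w => (((ε w : ℤˣ) : ℤ) : ℂ)

variable {n : ℕ} {K : Type*} [Field K] [Fintype K] {φ : K →+* K}

theorem mem_U_of_isUT {g : UG n φ} (hg : IsUT g.1.1) : g ∈ EL φ (rk n) := by
  intro i j hij
  rcases lt_or_eq_of_le (show j.val ≤ i.val from hij) with h | h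
  · rw [hg.1 i j h, Matrix.one_apply_ne (fun e => by rw [e] at h; exact lt_irrefl _ h)]
  · have : j = i := Fin.ext h
    rw [this, hg.2 i, Matrix.one_apply_eq]

/-- The generic node lemma: rank one data for a monomial lift of a simple reflection. -/
theorem node_stable (ε : WU n →* ℤˣ) (hε : ∀ i, ε (sW n i) = -1) (i : Fin (n / 2))
    (N : UG n φ) (hN : IsMono (sref n i) N.1.1) (X : Set (UG n φ)) (p p' : Fin n)
    (hs : sref n i p = p') (hs' : sref n i p' = p) (hpp : p ≠ p')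
    (hXU : ∀ x ∈ X, x ∈ EL φ (rk n))
    (hX : ∀ x ∈ X, ∀ w : WU n, w.1.symm p < w.1.symm p' → x.1 • (apt w.1 : Flg n K) = apt w.1)
    (hr : ∀ x ∈ X, x ≠ 1 → ∃ x' ∈ X, ∀ w : WU n, w.1.symm p < w.1.symm p' →
      (N * x).1 • (apt (sref n i * w.1) : Flg n K) = x'.1 • apt (sref n i * w.1))
    (hf : ∀ u ∈ EL φ (rk n), ∃ u' ∈ EL φ (rk n), ∃ x ∈ X, u = u' * x ∧
      N * u' * N⁻¹ ∈ EL φ (rk n)) :
    ∀ u : (EL φ (rk n) : Subgroup (UG n φ)),
      trep (UG n φ) (Flg n K) (N * u) (stE (aU n K) (sgU ε)) ∈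
        stV (EL φ (rk n)) (aU n K) (sgU ε) := by
  refine rank_one (EL φ (rk n)) (aU n K) (sgU ε) N X (fun w => sW n i * w) ?_ ?_ ?_
    {w | w.1.symm p < w.1.symm p'} ?_ hXU ?_ ?_ hf
  · intro w
    apply Subtype.ext
    show sref n i * (sref n i * w.1) = w.1
    rw [← mul_assoc, sref_mul_self, one_mul]
  · intro w
    show (((ε (sW n i * w) : ℤˣ) : ℤ) : ℂ) = -(((ε w : ℤˣ) : ℤ) : ℂ)
    rw [map_mul, hε]
    simp
  · intro w
    show N.1 • (apt w.1 : Flg n K) = apt (sref n i * w.1)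
    exact Cfsg.Agent.H4.StU.mono_smul_apt (sref n i) N.1 hN w.1
  · intro w
    show (sref n i * w.1).symm p < (sref n i * w.1).symm p' ↔ ¬ (w.1.symm p < w.1.symm p')
    rw [mul_symm_apply, mul_symm_apply, sref_symm, sref_symm, hs, hs', not_lt]
    have hne : w.1.symm p' ≠ w.1.symm p := fun h => hpp (w.1.symm.injective h).symm
    exact ⟨le_of_lt, fun h => lt_of_le_of_ne h hne⟩
  · intro x hx w hw
    exact hX x hx w hw
  · intro x hx hx1
    obtain ⟨x', hx', h⟩ := hr x hx hx1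
    exact ⟨x', hx', fun w hw => h w hw⟩

end Cfsg.Agent.H88.StU
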