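import Cfsg.Agent.H88.StUB

/-!
helper88: the Steinberg module of `UG n φ`: generalized monomial matrices and the short nodes.
-/

set_option autoImplicit false

namespace Cfsg.Agent.H88.StU

open Matrix Cfsg.Agent.H88.Un Cfsg.Agent.H78.StSL Cfsg.Agent.H78.StM Cfsg.Agent.H50.AutPSL

section generic

variable {n : ℕ} {F : Type*} [Field F]

theorem isMono_one : IsMono (1 : Equiv.Perm (Fin n)) (1 : Matrix (Fin n) (Fin n) F) :=
  fun _ _ hab => Matrix.one_apply_ne hab

theorem isMono_mul {s t : Equiv.Perm (Fin n)} {M M' : Matrix (Fin n) (Fin n) F}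
    (hM : IsMono s M) (hM' : IsMono t M') : IsMono (s * t) (M * M') := by
  intro a b hab
  rw [Matrix.mul_apply]
  apply Finset.sum_eq_zero
  intro c _
  by_cases hc : c = t b
  · rw [hc, hM a (t b) hab, zero_mul]
  · rw [hM' c b hc, mul_zero]

theorem isMono_diagonal (d : Fin n → F) : IsMono (1 : Equiv.Perm (Fin n)) (Matrix.diagonal d) :=
  fun _ _ hab => Matrix.diagonal_apply_ne _ hab

/-- A matrix acting by a twisted transposition is monomial. -/
theorem isMono_twist (i j : Fin n) (M : Matrix (Fin n) (Fin n) F) (β γ : F)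
    (hM : ∀ (v : Fin n → F) (c : Fin n), (M *ᵥ v) c =
      if c = i then β * v j else if c = j then γ * v i else v c) :
    IsMono (Equiv.swap i j) M := by
  intro a b hab
  have h1 : M a b = (M *ᵥ Pi.single b 1) a := by
    rw [Matrix.mulVec_single_one]
    rfl
  rw [h1, hM]
  by_cases hai : a = i
  · have hjb : j ≠ b := by
      intro e
      apply hab
      rw [hai, ← e, Equiv.swap_apply_right]
    rw [if_pos hai, Pi.single_eq_of_ne hjb, mul_zero]
  · by_cases haj : a = j
    · have hib : i ≠ b := by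
        intro e
        apply hab
        rw [haj, ← e, Equiv.swap_apply_left]
      rw [if_neg hai, if_pos haj, Pi.single_eq_of_ne hib, mul_zero]
    · have hab' : a ≠ b := by
        intro e
        apply hab
        rw [← e, Equiv.swap_apply_of_ne_of_ne hai haj]
      rw [if_neg hai, if_neg haj, Pi.single_eq_of_ne hab']

theorem isMono_nE (i j : Fin n) (hij : i ≠ j) :
    IsMono (Equiv.swap i j) (nE i j hij : SpecialLinearGroup (Fin n) F).1 := by
  apply isMono_twist i j _ 1 (-1)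
  intro v c
  rw [nE_mulVec, one_mul, neg_one_mul]

theorem isMono_nE_inv (i j : Fin n) (hij : i ≠ j) :
    IsMono (Equiv.swap i j) ((nE i j hij : SpecialLinearGroup (Fin n) F)⁻¹).1 := by
  apply isMono_twist i j _ (-1) 1
  intro v c
  rw [nE_inv_mulVec, one_mul, neg_one_mul]

theorem comm6 {G : Type*} [Group G] (A B C D : G) (hAC : Commute A C) (hAD : Commute A D)
    (hBC : Commute B C) :
    (A * C) * (B * D) * (A * C) = (A * B * A) * (C * D * C) := by
  calc (A * C) * (B * D) * (A * C) = A * (C * B) * (D * A) * C := by simp only [mul_assoc]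
    _ = A * (B * C) * (A * D) * C := by rw [hBC.eq, hAD.eq]
    _ = A * B * (C * A) * D * C := by simp only [mul_assoc]
    _ = A * B * (A * C) * D * C := by rw [hAC.eq]
    _ = (A * B * A) * (C * D * C) := by simp only [mul_assoc]

end generic

variable {n : ℕ} {K : Type*} [Field K] [Fintype K] {φ : K →+* K}

theorem xs_zero [Invol φ] {i j : Fin n} (hij : i ≠ j) (hi : i ≠ i.rev) (hj : j ≠ j.rev) :
    xs (φ := φ) hij hi hj 0 = 1 := by
  apply ext_val
  rw [xs_val, map_zero, Matrix.single_zero, Matrix.single_zero, add_zero, sub_zero]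
  rfl

/-- `u ∈ U` as an element of `SL`. -/
theorem val_mem_Uni {u : UG n φ} (hu : u ∈ EL φ (rk n)) : u.1 ∈ Uni n K :=
  isUT_of_mem_U hu

theorem mem_U_of_val_mem_Uni {u : UG n φ} (hu : u.1 ∈ Uni n K) : u ∈ EL φ (rk n) :=
  mem_U_of_isUT hu

/-- Elements of the Weyl group commute with `rev` (for the inverse). -/
theorem wu_symm_rev (w : WU n) (c : Fin n) : w.1.symm c.rev = (w.1.symm c).rev :=
  Cfsg.Agent.H14.StU.wu_rev n w.1.symm ((WU n).inv_mem w.2) c

section short

variable [Invol φ] {p q : Fin n} (hpq : p.val + 1 = q.val) (hq : 2 * q.val + 1 < n)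

include hpq in
theorem short_ne : p ≠ q := by
  intro e
  rw [e] at hpq
  omega

include hpq hq in
theorem short_p : p ≠ p.rev := by
  intro e
  have := congrArg Fin.val e
  rw [rev_val] at this
  omega

include hq in
theorem short_q : q ≠ q.rev := by
  intro e
  have := congrArg Fin.val e
  rw [rev_val] at this
  omega

include hpq hq in
theorem short_disj' : Disj4 p q q.rev p.rev := by
  refine ⟨?_, ?_, ?_, ?_⟩ <;>
  · intro e
    have := congrArg Fin.val e
    simp only [rev_val] at this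
    omega

/-- The monomial element of a short node. -/
noncomputable def nsU : UG n φ :=
  xs (short_ne hpq) (short_p hpq hq) (short_q hq) 1 *
    xs (short_ne hpq).symm (short_q hq) (short_p hpq hq) (-1) *
    xs (short_ne hpq) (short_p hpq hq) (short_q hq) 1

theorem nsU_val : (nsU (φ := φ) hpq hq).1 =
    nE p q (short_ne hpq) * (nE q.rev p.rev (rev_ne (short_ne hpq)))⁻¹ := by
  obtain ⟨d1, d2, d3, d4⟩ := short_disj' hpq hq
  have e : (nsU (φ := φ) hpq hq).1 =
      (xE p q (short_ne hpq) 1 * xE q.rev p.rev (rev_ne (short_ne hpq)) (-φ 1)) *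
      (xE q p (short_ne hpq).symm (-1) * xE p.rev q.rev (rev_ne (short_ne hpq).symm) (-φ (-1))) *
      (xE p q (short_ne hpq) 1 * xE q.rev p.rev (rev_ne (short_ne hpq)) (-φ 1)) := rfl
  rw [e, map_neg, map_one, neg_neg, nE_inv]
  exact comm6 _ _ _ _ (xE_commute _ _ _ _ _ _ d2 d3 _ _) (xE_commute _ _ _ _ _ _ d1 d4 _ _)
    (xE_commute _ _ _ _ _ _ d4 d1 _ _)

theorem nsU_mono : IsMono (Equiv.swap p q * Equiv.swap q.rev p.rev) (nsU (φ := φ) hpq hq).1.1 := by
  rw [nsU_val]
  exact isMono_mul (isMono_nE _ _ _) (isMono_nE_inv _ _ _)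

theorem xs_sl (a : K) :
    (xs (φ := φ) (short_ne hpq) (short_p hpq hq) (short_q hq) a).1 =
      xE p q (short_ne hpq) a * xE q.rev p.rev (rev_ne (short_ne hpq)) (-φ a) := rfl

end short

/-- The short nodes. -/
theorem short_node [Invol φ] (ε : WU n →* ℤˣ) (hε : ∀ i, ε (sW n i) = -1) (i : Fin (n / 2))
    (h : i.val + 1 < n / 2) :
    ∃ N : UG n φ, IsMono (sref n i) N.1.1 ∧
      ∀ u : (EL φ (rk n) : Subgroup (UG n φ)),
        trep (UG n φ) (Flg n K) (N * u) (stE (aU n K) (sgU ε)) ∈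
          stV (EL φ (rk n)) (aU n K) (sgU ε) := by
  obtain ⟨p, hp⟩ : ∃ p : Fin n, p = pr n i := ⟨_, rfl⟩
  obtain ⟨q, hq⟩ : ∃ q : Fin n, q = pr n ⟨i.val + 1, h⟩ := ⟨_, rfl⟩
  have hpq : p.val + 1 = q.val := by rw [hp, hq]; rfl
  have hq2 : 2 * q.val + 1 < n := by rw [hq]; exact pr_lt n _
  have hne := short_ne hpq
  have hd := short_disj' hpq hq2
  obtain ⟨d1, d2, d3, d4⟩ := hd
  have hs : sref n i = Equiv.swap p q * Equiv.swap q.rev p.rev := by
    rw [sref_short n i h, hp, hq]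
  have hmono : IsMono (sref n i) (nsU (φ := φ) hpq hq2).1.1 := by
    rw [hs]
    exact nsU_mono hpq hq2
  have hrev : ∀ w : WU n, w.1.symm p < w.1.symm q → w.1.symm q.rev < w.1.symm p.rev := by
    intro w hw
    rw [wu_symm_rev, wu_symm_rev, Fin.rev_lt_rev]
    exact hw
  refine ⟨nsU hpq hq2, hmono, ?_⟩
  refine node_stable ε hε i (nsU hpq hq2) hmono
    (Set.range (xs (φ := φ) hne (short_p hpq hq2) (short_q hq2))) p q ?_ ?_ hne ?_ ?_ ?_ ?_
  · rw [hs, Equiv.Perm.mul_apply, Equiv.swap_apply_of_ne_of_ne d1 d2, Equiv.swap_apply_left]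
  · rw [hs, Equiv.Perm.mul_apply, Equiv.swap_apply_of_ne_of_ne d3 d4, Equiv.swap_apply_right]
  · rintro _ ⟨a, rfl⟩
    apply xs_mem_EL
    · show p.val < q.val
      omega
    · show q.rev.val < p.rev.val
      rw [rev_val, rev_val]
      omega
  · rintro _ ⟨a, rfl⟩ w hw
    rw [xs_sl hpq hq2]
    exact dbl_x_smul_apt _ _ _ _ _ _ _ _ w.1 hw (hrev w hw)
  · rintro _ ⟨a, rfl⟩ hx1
    have ha : a ≠ 0 := by
      rintro rfl
      exact hx1 (xs_zero _ _ _)
    have hφa : φ a ≠ 0 := by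
      intro e
      apply ha
      rw [← Invol.invol (φ := φ) a, e, map_zero]
    refine ⟨xs hne (short_p hpq hq2) (short_q hq2) (-a⁻¹), ⟨_, rfl⟩, fun w hw => ?_⟩
    have h1 := dbl_rank1 (F := K) p q q.rev p.rev hne (rev_ne hne) ⟨d1, d2, d3, d4⟩ a (-φ a) ha
      (neg_ne_zero.mpr hφa) w.1 hw (hrev w hw)
    have e1 : (nsU (φ := φ) hpq hq2 * xs hne (short_p hpq hq2) (short_q hq2) a).1 =
        (nE p q hne * (nE q.rev p.rev (rev_ne hne))⁻¹) *
          (xE p q hne a * xE q.rev p.rev (rev_ne hne) (-φ a)) := by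
      rw [Subgroup.coe_mul, nsU_val hpq hq2, xs_sl hpq hq2]
    have e2 : (xs (φ := φ) hne (short_p hpq hq2) (short_q hq2) (-a⁻¹)).1 =
        xE p q hne (-a⁻¹) * xE q.rev p.rev (rev_ne hne) (-(-φ a)⁻¹) := by
      rw [xs_sl hpq hq2, map_neg, map_inv₀, inv_neg]
    rw [e1, e2, hs, mul_assoc (Equiv.swap p q) (Equiv.swap q.rev p.rev) w.1]
    exact h1
  · intro u hu
    have hrel : u.1.1 q.rev p.rev = - φ (u.1.1 p q) :=
      Cfsg.Agent.H4.StU.rel_short hpq hq2 u hu
    obtain ⟨f1, f2⟩ := dbl_factor (F := K) p q q.rev p.rev hpq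
      (by rw [rev_val, rev_val]; omega) hne (rev_ne hne) ⟨d1, d2, d3, d4⟩ u.1 (val_mem_Uni hu)
    rw [hrel, ← xs_sl hpq hq2] at f1 f2
    rw [← nsU_val (φ := φ) hpq hq2] at f2
    refine ⟨u * (xs hne (short_p hpq hq2) (short_q hq2) (u.1.1 p q))⁻¹, ?_, _, ⟨u.1.1 p q, rfl⟩,
      ?_, ?_⟩
    · exact mem_U_of_val_mem_Uni f1
    · rw [inv_mul_cancel_right]
    · exact mem_U_of_val_mem_Uni f2

end Cfsg.Agent.H88.StU
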