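import Cfsg.Agent.H88.StUC

/-!
helper88: the Steinberg module of `UG n φ`: the long node (`n` even) and the `SU₃` node (`n` odd).
-/

set_option autoImplicit false

namespace Cfsg.Agent.H88.StU

open Matrix Cfsg.Agent.H88.Un Cfsg.Agent.H78.StSL Cfsg.Agent.H78.StM Cfsg.Agent.H50.AutPSL

section generic

variable {n : ℕ} {F : Type*} [Field F]

theorem mul_single_apply' (M : Matrix (Fin n) (Fin n) F) (i j : Fin n) (c : F) (a b : Fin n) :
    (M * Matrix.single i j c) a b = if b = j then M a i * c else 0 := by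
  by_cases h : b = j
  · rw [if_pos h, h, Matrix.mul_single_apply_same]
  · rw [if_neg h]
    simp [Matrix.mul_apply, Ne.symm h]

/-- The inversions of a transposition. -/
theorem swap_inv_val {p p' : Fin n} (hpp : p.val < p'.val) (a b : Fin n) (hab : a < b)
    (hs : Equiv.swap p p' b < Equiv.swap p p' a) :
    (a.val = p.val ∧ b.val ≤ p'.val) ∨ (b.val = p'.val ∧ p.val ≤ a.val) := by
  have hv : ∀ x : Fin n, (Equiv.swap p p' x).val =
      if x.val = p.val then p'.val else if x.val = p'.val then p.val else x.val := by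
    intro x
    by_cases h1 : x = p
    · rw [h1, Equiv.swap_apply_left, if_pos rfl]
    · by_cases h2 : x = p'
      · rw [h2, Equiv.swap_apply_right, if_neg (by omega), if_pos rfl]
      · rw [Equiv.swap_apply_of_ne_of_ne h1 h2, if_neg (fun e => h1 (Fin.ext e)),
          if_neg (fun e => h2 (Fin.ext e))]
  rw [Fin.lt_def, hv, hv] at hs
  rw [Fin.lt_def] at hab
  split_ifs at hs <;> omega

/-- A matrix acting by a twisted transposition, and a scalar on a third vector, is monomial. -/
theorem isMono_twist3 (i j m : Fin n) (hmi : m ≠ i) (hmj : m ≠ j)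
    (M : Matrix (Fin n) (Fin n) F) (β γ δ : F)
    (hM : ∀ (v : Fin n → F) (c : Fin n), (M *ᵥ v) c =
      if c = i then β * v j else if c = m then δ * v m else if c = j then γ * v i else v c) :
    IsMono (Equiv.swap i j) M := by
  intro a b hab
  have h1 : M a b = (M *ᵥ Pi.single b 1) a := by
    rw [Matrix.mulVec_single_one]
    rfl
  rw [h1, hM]
  by_cases hai : a = i
  · have hjb : j ≠ b := by
      intro e
      apply hab
      rw [hai, ← e, Equiv.swap_apply_right]
    rw [if_pos hai, Pi.single_eq_of_ne hjb, mul_zero]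
  · by_cases ham : a = m
    · have hmb : m ≠ b := by
        intro e
        apply hab
        rw [ham, ← e, Equiv.swap_apply_of_ne_of_ne hmi hmj]
      rw [if_neg hai, if_pos ham, Pi.single_eq_of_ne hmb, mul_zero]
    · by_cases haj : a = j
      · have hib : i ≠ b := by
          intro e
          apply hab
          rw [haj, ← e, Equiv.swap_apply_left]
        rw [if_neg hai, if_neg ham, if_pos haj, Pi.single_eq_of_ne hib, mul_zero]
      · have hab' : a ≠ b := by
          intro e
          apply hab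
          rw [← e, Equiv.swap_apply_of_ne_of_ne hai haj]
        rw [if_neg hai, if_neg ham, if_neg haj, Pi.single_eq_of_ne hab']

end generic

variable {n : ℕ} {K : Type*} [Field K] [Fintype K] {φ : K →+* K}

/-! ### The long node -/

/-- The lower long root element. -/
theorem xl_low [Invol φ] {p : Fin n} (hpr : p ≠ p.rev) (c : K) (hc : c + φ c = 0) :
    ∃ y : UG n φ, y.1 = xE p.rev p hpr.symm c := by
  have key : ∀ (r : Fin n) (_ : p.rev.rev = r) (h' : p.rev ≠ r) (h'' : p.rev ≠ p.rev.rev),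
      (xE p.rev p.rev.rev h'' c : SpecialLinearGroup (Fin n) K) = xE p.rev r h' c := by
    intro r hr
    subst hr
    intro h' h''
    rfl
  have h'' : p.rev ≠ p.rev.rev := by
    rw [Fin.rev_rev]
    exact hpr.symm
  exact ⟨xl (i := p.rev) h'' c hc, key p (Fin.rev_rev p) hpr.symm h''⟩

/-- The monomial element of the long node. -/
theorem long_N [Invol φ] {p : Fin n} (hpr : p ≠ p.rev) (e : K) (he0 : e ≠ 0)
    (he : e + φ e = 0) :
    ∃ N : UG n φ, ∀ (v : Fin n → K) (c : Fin n), (N.1.1 *ᵥ v) c =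
      if c = p then e * v p.rev else if c = p.rev then (-e⁻¹) * v p else v c := by
  have hφe : φ e = -e := by linear_combination he
  have hc : (-e⁻¹) + φ (-e⁻¹) = 0 := by
    rw [map_neg, map_inv₀, hφe, inv_neg, neg_neg, neg_add_cancel]
  obtain ⟨y, hy⟩ := xl_low hpr (-e⁻¹) hc
  refine ⟨xl hpr e he * y * xl hpr e he, ?_⟩
  intro v c
  have e1 : (xl hpr e he * y * xl hpr e he).1.1 =
      (xE p p.rev hpr e).1 * (xE p.rev p hpr.symm (-e⁻¹)).1 * (xE p p.rev hpr e).1 := by
    rw [← hy]
    rfl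
  rw [e1, ← mulVec_mulVec, ← mulVec_mulVec]
  simp only [xE_mulVec]
  by_cases h1 : c = p
  · rw [h1]
    simp only [hpr, hpr.symm, if_true, if_false]
    field_simp
    ring
  · by_cases h2 : c = p.rev
    · rw [h2]
      simp only [hpr, hpr.symm, if_true, if_false]
      field_simp
      ring
    · simp only [h1, h2, if_false]

/-- The long node (`n` even). -/
theorem long_node [Invol φ] (ε : WU n →* ℤˣ) (hε : ∀ i, ε (sW n i) = -1)
    (i : Fin (n / 2)) (h : ¬ i.val + 1 < n / 2) (hn : 2 * (n / 2) = n)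
    (e : K) (he0 : e ≠ 0) (he : e + φ e = 0) :
    ∃ N : UG n φ, IsMono (sref n i) N.1.1 ∧
      ∀ u : (EL φ (rk n) : Subgroup (UG n φ)),
        trep (UG n φ) (Flg n K) (N * u) (stE (aU n K) (sgU ε)) ∈
          stV (EL φ (rk n)) (aU n K) (sgU ε) := by
  obtain ⟨p, hp⟩ : ∃ p : Fin n, p = pr n i := ⟨_, rfl⟩
  have hp2 : 2 * p.val + 2 = n := by
    rw [hp, pr_val]
    have := i.2
    omega
  have hpv : p.rev.val = p.val + 1 := by
    rw [rev_val]
    omega
  have hpr : p ≠ p.rev := by
    intro e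
    have := congrArg Fin.val e
    omega
  have hφe : φ e = -e := by linear_combination he
  obtain ⟨N, hN⟩ := long_N (φ := φ) hpr e he0 he
  have hs : sref n i = Equiv.swap p p.rev := by rw [sref_last n i h, hp]
  have hmono' : IsMono (Equiv.swap p p.rev) N.1.1 := isMono_twist p p.rev _ e (-e⁻¹) hN
  have hmono : IsMono (sref n i) N.1.1 := by
    rw [hs]
    exact hmono'
  have hxl : ∀ (c : K) (hc : c + φ c = 0), xl (φ := φ) hpr c hc ∈ EL φ (rk n) := by
    intro c hc
    apply xl_mem_EL
    show p.val < p.rev.val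
    omega
  refine ⟨N, hmono, ?_⟩
  refine node_stable ε hε i N hmono {x | ∃ (c : K) (hc : c + φ c = 0), x = xl hpr c hc}
    p p.rev ?_ ?_ hpr ?_ ?_ ?_ ?_
  · rw [hs, Equiv.swap_apply_left]
  · rw [hs, Equiv.swap_apply_right]
  · rintro _ ⟨c, hc, rfl⟩
    exact hxl c hc
  · rintro _ ⟨c, hc, rfl⟩ w hw
    exact xE_smul_apt p p.rev hpr c w.1 hw
  · rintro _ ⟨c, hc, rfl⟩ hx1
    have hc0 : c ≠ 0 := by
      rintro rfl
      apply hx1
      apply ext_val
      rw [xl_val, Matrix.single_zero, add_zero]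
      rfl
    have hφc : φ c = -c := by linear_combination hc
    have hc' : e / (-e⁻¹ * c) + φ (e / (-e⁻¹ * c)) = 0 := by
      rw [map_div₀, map_mul, map_neg, map_inv₀, hφe, hφc]
      field_simp
      ring
    refine ⟨xl hpr (e / (-e⁻¹ * c)) hc', ⟨_, hc', rfl⟩, fun w hw => ?_⟩
    have h1 := rank1_mono p p.rev hpr N.1 e (-e⁻¹) he0 (neg_ne_zero.mpr (inv_ne_zero he0)) hN
      c hc0 w.1 hw
    rw [hs]
    exact h1
  · intro u hu
    obtain ⟨c, hc⟩ : ∃ c : K, c = u.1.1 p p.rev := ⟨_, rfl⟩
    have hcc : c + φ c = 0 := by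
      rw [hc]
      exact Cfsg.Agent.H4.StU.rel_long hp2 u hu
    have hu' : u * (xl hpr c hcc)⁻¹ ∈ EL φ (rk n) := mul_mem hu (inv_mem (hxl c hcc))
    refine ⟨u * (xl hpr c hcc)⁻¹, hu', _, ⟨c, hcc, rfl⟩, (inv_mul_cancel_right _ _).symm, ?_⟩
    apply mem_U_of_isUT
    have e2 : (N * (u * (xl hpr c hcc)⁻¹) * N⁻¹).1.1 =
        N.1.1 * (u * (xl hpr c hcc)⁻¹).1.1 * (N.1⁻¹).1 := rfl
    rw [e2]
    refine Cfsg.Agent.H4.StU.isUT_conj_mono (Equiv.swap p p.rev) N.1 hmono' _ (isUT_of_mem_U hu') ?_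
    intro a b hab hsab
    have h3 := swap_inv_val (show p.val < p.rev.val by omega) a b hab hsab
    rw [Fin.lt_def] at hab
    have ha : a = p := Fin.ext (by omega)
    have hb : b = p.rev := Fin.ext (by omega)
    rw [ha, hb, mul_val, inv_val, xl_val, adj_add, adj_one, adj_single, Fin.rev_rev,
      Matrix.mul_add, Matrix.mul_one, Matrix.add_apply, Matrix.mul_single_apply_same,
      (isUT_of_mem_U hu).2 p, one_mul, ← hc]
    exact hcc

end Cfsg.Agent.H88.StU
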