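import Cfsg.Agent.H88.StUD

/-!
helper88: the Steinberg module of `UG n φ`: the `SU₃` node (`n` odd).
-/

set_option autoImplicit false

namespace Cfsg.Agent.H88.StU

open Matrix Cfsg.Agent.H88.Un Cfsg.Agent.H78.StSL Cfsg.Agent.H78.StM Cfsg.Agent.H50.AutPSL

variable {n : ℕ} {K : Type*} [Field K] [Fintype K] {φ : K →+* K}

/-- The monomial element of the `SU₃` node. -/
theorem su3_N [Invol φ] (hG : Good φ) {p m : Fin n} (hm : m.rev = m) (hpm : p ≠ m) :
    ∃ N : UG n φ, ∀ (v : Fin n → K) (c : Fin n), (N.1.1 *ᵥ v) c =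
      if c = p then 1 * v p.rev else if c = m then -(φ 1 / 1) * v m
      else if c = p.rev then (1 / φ 1) * v p else v c := by
  have hp'm : p.rev ≠ m := (mid_ne_rev hm hpm).symm
  have hpp' : p ≠ p.rev := ne_rev_of_ne_mid hm hpm
  obtain ⟨a, ha⟩ := hG.ex_norm (-(1 + 1)) (by rw [map_neg, map_add, map_one])
  have h : (1 : K) + φ 1 + a * φ a = 0 := by
    rw [map_one, ha]
    ring
  have h₁ : 1 / φ 1 + φ (1 / φ 1) + -(a / φ 1) * φ (-(a / φ 1)) = 0 := by
    simp only [map_one, div_one, map_neg, neg_mul_neg]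
    rw [ha]
    ring
  have h₂ : 1 / φ 1 + φ (1 / φ 1) + -(a / 1) * φ (-(a / 1)) = 0 := by
    simp only [map_one, div_one, map_neg, neg_mul_neg]
    rw [ha]
    ring
  refine ⟨xb hm hp'm (-(a / φ 1)) (1 / φ 1) h₁ * xb hm hpm a 1 h *
    xb hm hp'm (-(a / 1)) (1 / φ 1) h₂, ?_⟩
  intro v c
  rw [bruhat hm hpm hp'm a 1 one_ne_zero h h₁ h₂]
  simp only [Matrix.add_mulVec, Matrix.one_mulVec, Pi.add_apply, single_mulVec']
  by_cases h1 : c = p
  · rw [h1]
    simp only [hpm, hpp', if_true, if_false]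
    ring
  · by_cases h2 : c = m
    · rw [h2]
      simp only [hpm.symm, hp'm.symm, if_true, if_false]
      ring
    · by_cases h3 : c = p.rev
      · rw [h3]
        simp only [hpp'.symm, hp'm, if_true, if_false]
        ring
      · simp only [h1, h2, h3, if_false]
        ring

/-- The `SU₃` node (`n` odd). -/
theorem su3_node [Invol φ] (ε : WU n →* ℤˣ) (hε : ∀ i, ε (sW n i) = -1)
    (i : Fin (n / 2)) (h : ¬ i.val + 1 < n / 2) (hn : 2 * (n / 2) + 1 = n)
    (hN3 : ∀ p m : Fin n, m.rev = m → p.val + 1 = m.val → ∃ (N : UG n φ) (b : K), b ≠ 0 ∧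
      ∀ (v : Fin n → K) (c : Fin n), (N.1.1 *ᵥ v) c =
        if c = p then b * v p.rev else if c = m then -(φ b / b) * v m
        else if c = p.rev then (1 / φ b) * v p else v c) :
    ∃ N : UG n φ, IsMono (sref n i) N.1.1 ∧
      ∀ u : (EL φ (rk n) : Subgroup (UG n φ)),
        trep (UG n φ) (Flg n K) (N * u) (stE (aU n K) (sgU ε)) ∈
          stV (EL φ (rk n)) (aU n K) (sgU ε) := by
  obtain ⟨p, hp⟩ : ∃ p : Fin n, p = pr n i := ⟨_, rfl⟩
  have hp3 : 2 * p.val + 3 = n := by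
    rw [hp, pr_val]
    have := i.2
    omega
  obtain ⟨m, hmv⟩ : ∃ m : Fin n, m.val = p.val + 1 := ⟨⟨p.val + 1, by omega⟩, rfl⟩
  have hm : m.rev = m := mid_iff.2 (by omega)
  have hpm : p ≠ m := by
    intro e
    rw [e] at hmv
    omega
  have hpv : p.rev.val = p.val + 2 := by
    rw [rev_val]
    omega
  have hpr : p ≠ p.rev := ne_rev_of_ne_mid hm hpm
  have hmp' : m ≠ p.rev := mid_ne_rev hm hpm
  obtain ⟨N, b, hb, hN⟩ := hN3 p m hm hmv.symm
  have hφb : φ b ≠ 0 := by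
    intro e
    apply hb
    rw [← Invol.invol (φ := φ) b, e, map_zero]
  have hs : sref n i = Equiv.swap p p.rev := by rw [sref_last n i h, hp]
  have hmono' : IsMono (Equiv.swap p p.rev) N.1.1 :=
    isMono_twist3 p p.rev m hpm.symm hmp' _ b (1 / φ b) (-(φ b / b)) hN
  have hmono : IsMono (sref n i) N.1.1 := by
    rw [hs]
    exact hmono'
  have hxb : ∀ (a d : K) (h : d + φ d + a * φ a = 0),
      xb (φ := φ) hm hpm a d h ∈ EL φ (rk n) := by
    intro a d h
    apply xb_mem_EL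
    · show p.val < m.val
      omega
    · show m.val < p.rev.val
      omega
  have hwm : ∀ w : WU n, w.1.symm m = m := fun w =>
    mid_unique ((wu_symm_rev w m).symm.trans (by rw [hm])) hm
  have hw1 : ∀ w : WU n, w.1.symm p < w.1.symm p.rev →
      w.1.symm p < w.1.symm m ∧ w.1.symm m < w.1.symm p.rev := by
    intro w hw
    rw [hwm w]
    rw [wu_symm_rev, Fin.lt_def, rev_val] at hw
    rw [wu_symm_rev, Fin.lt_def, Fin.lt_def, rev_val]
    constructor <;> omega
  refine ⟨N, hmono, ?_⟩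
  refine node_stable ε hε i N hmono
    {x | ∃ (a d : K) (h : d + φ d + a * φ a = 0), x = xb hm hpm a d h} p p.rev ?_ ?_ hpr
    ?_ ?_ ?_ ?_
  · rw [hs, Equiv.swap_apply_left]
  · rw [hs, Equiv.swap_apply_right]
  · rintro _ ⟨a, d, h, rfl⟩
    exact hxb a d h
  · rintro _ ⟨a, d, h, rfl⟩ w hw
    obtain ⟨h1, h2⟩ := hw1 w hw
    have e : (xb (φ := φ) hm hpm a d h).1 =
        xE p m hpm a * xE m p.rev hmp' (-φ a) * xE p p.rev hpr (d + a * φ a) := rfl
    rw [e, mul_smul, mul_smul, xE_smul_apt _ _ _ _ w.1 hw, xE_smul_apt _ _ _ _ w.1 h2,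
      xE_smul_apt _ _ _ _ w.1 h1]
  · rintro _ ⟨a, d, h, rfl⟩ hx1
    have hd : d ≠ 0 := by
      rintro rfl
      apply hx1
      have ha : a = 0 := by
        rw [map_zero, add_zero, zero_add] at h
        rcases mul_eq_zero.1 h with h | h
        · exact h
        · rw [← Invol.invol (φ := φ) a, h, map_zero]
      subst ha
      apply ext_val
      rw [xb_val, map_zero, Matrix.single_zero, Matrix.single_zero, Matrix.single_zero,
        add_zero, sub_zero, add_zero]
      rfl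
    obtain ⟨a', d', h', hr⟩ := Cfsg.Agent.H77.StU.rank1_su3 hm hpm N b hb hN a d h hd
    refine ⟨xb hm hpm a' d' h', ⟨a', d', h', rfl⟩, fun w hw => ?_⟩
    obtain ⟨h1, h2⟩ := hw1 w hw
    rw [hs]
    exact hr w.1 h1 h2
  · intro u hu
    obtain ⟨hr1, hr2⟩ := Cfsg.Agent.H4.StU.rel_su3 hp3 hmv u hu
    obtain ⟨a, ha⟩ : ∃ a : K, a = u.1.1 p m := ⟨_, rfl⟩
    obtain ⟨d, hd⟩ : ∃ d : K, d = u.1.1 p p.rev := ⟨_, rfl⟩
    rw [← ha] at hr1
    rw [← ha, ← hd] at hr2
    have hu' : u * (xb hm hpm a d hr2)⁻¹ ∈ EL φ (rk n) := mul_mem hu (inv_mem (hxb a d hr2))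
    refine ⟨u * (xb hm hpm a d hr2)⁻¹, hu', _, ⟨a, d, hr2, rfl⟩,
      (inv_mul_cancel_right _ _).symm, ?_⟩
    apply mem_U_of_isUT
    have e2 : (N * (u * (xb hm hpm a d hr2)⁻¹) * N⁻¹).1.1 =
        N.1.1 * (u * (xb hm hpm a d hr2)⁻¹).1.1 * (N.1⁻¹).1 := rfl
    rw [e2]
    refine Cfsg.Agent.H4.StU.isUT_conj_mono (Equiv.swap p p.rev) N.1 hmono' _ (isUT_of_mem_U hu') ?_
    intro x y hxy hsxy
    have h3 := swap_inv_val (show p.val < p.rev.val by omega) x y hxy hsxy
    rw [Fin.lt_def] at hxy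
    have hUT := isUT_of_mem_U hu
    have e3 : (u * (xb hm hpm a d hr2)⁻¹).1.1 = u.1.1 + u.1.1 * Matrix.single m p.rev (φ a) -
        u.1.1 * Matrix.single p m a + u.1.1 * Matrix.single p p.rev (φ d) := by
      rw [mul_val, inv_val, xb_val, adj_add, adj_sub, adj_add, adj_one, adj_single, adj_single,
        adj_single, hm, Fin.rev_rev, Invol.invol, Matrix.mul_add, Matrix.mul_sub, Matrix.mul_add,
        Matrix.mul_one]
    rw [e3, Matrix.add_apply, Matrix.sub_apply, Matrix.add_apply, mul_single_apply',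
      mul_single_apply', mul_single_apply']
    by_cases hxp : x.val = p.val
    · have hx : x = p := Fin.ext hxp
      by_cases hym : y.val = m.val
      · have hy : y = m := Fin.ext hym
        rw [hx, hy, if_neg hmp', if_pos rfl, if_neg hmp', hUT.2 p, ← ha]
        ring
      · have hy : y = p.rev := Fin.ext (by omega)
        rw [hx, hy, if_pos rfl, if_neg hmp'.symm, if_pos rfl, hUT.2 p, ← ha, ← hd]
        linear_combination hr2
    · have hx : x = m := Fin.ext (by omega)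
      have hy : y = p.rev := Fin.ext (by omega)
      rw [hx, hy, if_pos rfl, if_neg hmp'.symm, if_pos rfl, hUT.2 m,
        hUT.1 m p (by rw [Fin.lt_def]; omega), hr1]
      ring

end Cfsg.Agent.H88.StU
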