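import Cfsg.Agent.H86.FusBasic
import Cfsg.Agent.H86.FusAut
import Cfsg.Agent.H86.FusSylow
import Cfsg.Agent.H86.FusNormal
import Cfsg.Prelude.Def_FusionComponents

set_option autoImplicit false

/-!
Fully normalized subgroups and subnormal subsystems.
-/

namespace Cfsg.Agent.H88

open Cfsg Cfsg.FusionSystem Cfsg.Agent.H86

variable {Ω : Type*} [Group Ω] {S : Subgroup Ω}

/-- In a saturated fusion system over a finite `p`-group, if `P` is fully normalized and `Q` is
conjugate to `P`, then some map of the system from `N_S(Q)` to `N_S(P)` carries `Q` onto `P`. -/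
theorem exists_normalizer_map_of_fullyNormalized [Finite S] {p : ℕ} [Fact p.Prime]
    (hS : IsPGroup p S) {F : FusionSystem S} (hF : F.IsSaturated p) {P Q : Subgroup Ω}
    (hP : F.IsFullyNormalized P) (hQ : F.IsConj Q P) :
    ∃ f, Mor F (normalizerIn S Q) f ∧ (∀ x ∈ normalizerIn S Q, f x ∈ normalizerIn S P) ∧
      imgS Q f = P := by
  obtain ⟨R, hPR, hR1, hR2⟩ := hF P hP.1
  obtain ⟨f₁, hf₁, hf₁N, hf₁img⟩ := exists_normalizer_map hS hR1 hR2 hPR
  obtain ⟨f₂, hf₂, hf₂N, hf₂img⟩ := exists_normalizer_map hS hR1 hR2 (isConj_trans hQ hPR)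
  have hfinR : Finite (normalizerIn S R) := finite_of_le (S := S) inf_le_left
  have hcard : Nat.card (normalizerIn S R) ≤ Nat.card (normalizerIn S P) := hP.2 R hPR
  have himgN : imgS (normalizerIn S P) f₁ = normalizerIn S R := by
    have hle : imgS (normalizerIn S P) f₁ ≤ normalizerIn S R := by
      intro y hy
      obtain ⟨x, hx, rfl⟩ := hf₁.mem_imgS.1 hy
      exact hf₁N x hx
    exact Subgroup.eq_of_le_of_card_ge hle (by rw [hf₁.card_imgS]; exact hcard)
  have hinv : Mor F (normalizerIn S R) (invOn (normalizerIn S P) f₁) := by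
    have := hf₁.inv
    rwa [himgN] at this
  have hPN : P ≤ normalizerIn S P := le_normalizerIn hP.1
  have hQN : Q ≤ normalizerIn S Q := le_normalizerIn (isConj_le_left hQ)
  refine ⟨invOn (normalizerIn S P) f₁ ∘ f₂, hf₂.comp hinv hf₂N, fun x hx => ?_, ?_⟩
  · apply hf₁.invOn_mem
    rw [himgN]
    exact hf₂N x hx
  · ext y
    rw [((hf₂.comp hinv hf₂N).restrict hQN).mem_imgS]
    constructor
    · rintro ⟨x, hx, rfl⟩
      have h1 : f₂ x ∈ imgS Q f₂ := (hf₂.restrict hQN).mem_imgS_of_mem hx
      rw [hf₂img, ← hf₁img] at h1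
      obtain ⟨x', hx', hx'e⟩ := (hf₁.restrict hPN).mem_imgS.1 h1
      show invOn (normalizerIn S P) f₁ (f₂ x) ∈ P
      rw [← hx'e, invOn_apply hf₁.injOn (hPN hx')]
      exact hx'
    · intro hy
      have h1 : f₁ y ∈ imgS P f₁ := (hf₁.restrict hPN).mem_imgS_of_mem hy
      rw [hf₁img, ← hf₂img] at h1
      obtain ⟨x, hx, hxe⟩ := (hf₂.restrict hQN).mem_imgS.1 h1
      refine ⟨x, hx, ?_⟩
      show invOn (normalizerIn S P) f₁ (f₂ x) = y
      rw [hxe, invOn_apply hf₁.injOn (hPN hy)]

/-- Let `F` be saturated over a finite `p`-group, `T` strongly closed in `F` and `E` a subsystem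
of `F` over `T`. A subgroup of `T` fully normalized in `F` is fully normalized in `E`. -/
theorem fullyNormalized_of_subsystem [Finite S] {p : ℕ} [Fact p.Prime] (hS : IsPGroup p S)
    {F : FusionSystem S} (hF : F.IsSaturated p) {T : Subgroup Ω} (E : FusionSystem T)
    (hEF : E.IsSubsystemOf F) (hT : F.StronglyClosed T) {P : Subgroup Ω} (hPT : P ≤ T)
    (hP : F.IsFullyNormalized P) : E.IsFullyNormalized P := by
  refine ⟨hPT, fun Q hQ => ?_⟩
  have hQF : F.IsConj P Q := by
    obtain ⟨φ, hφ, hr⟩ := hQ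
    exact ⟨φ, hEF P hφ, hr⟩
  obtain ⟨f, hf, hfN, -⟩ := exists_normalizer_map_of_fullyNormalized hS hF hP (isConj_symm hQF)
  have hTS : T ≤ S := hT.1
  have hT' := (stronglyClosed_iff.1 hT).2
  have hle : normalizerIn T Q ≤ normalizerIn S Q := inf_le_inf_right _ hTS
  have hfin : Finite (normalizerIn T P) := finite_of_le (S := S) (inf_le_left.trans hTS)
  have hmaps : ∀ c ∈ normalizerIn T Q, f c ∈ normalizerIn T P := by
    intro c hc
    rw [mem_normalizerIn_iff]
    refine ⟨hT' (normalizerIn T Q) f inf_le_left (hf.restrict hle) c hc, ?_⟩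
    exact (mem_normalizerIn_iff.1 (hfN c (hle hc))).2
  refine Nat.card_le_card_of_injective
    (fun c : normalizerIn T Q => (⟨f c, hmaps c c.2⟩ : normalizerIn T P)) ?_
  intro c d hcd
  exact Subtype.ext (hf.injOn (hle c.2) (hle d.2) (congrArg Subtype.val hcd))

/-- A subnormal subsystem lives over a subgroup of the group of the big system. -/
theorem subnormal_le {p : ℕ} {T : Subgroup Ω} {E : FusionSystem T} {F : FusionSystem S}
    (h : E.IsSubnormalIn F p) : T ≤ S := by
  induction h with
  | refl F p => exact le_rfl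
  | step _ hDF ih => exact ih.trans hDF.1.2.2.2.1.1

/-- Let `E` be subnormal in the saturated fusion system `F` over a finite `p`-group. A subgroup
of the group of `E` that is fully normalized in `F` is fully normalized in `E`. -/
theorem subnormal_fullyNormalized {p : ℕ} {T : Subgroup Ω} {E : FusionSystem T}
    {F : FusionSystem S} (h : E.IsSubnormalIn F p) :
    Fact p.Prime → Finite S → IsPGroup p S → F.IsSaturated p →
      ∀ P : Subgroup Ω, P ≤ T → F.IsFullyNormalized P → E.IsFullyNormalized P := by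
  induction h with
  | refl F p => exact fun _ _ _ _ P _ hP => hP
  | step hED hDF ih =>
    intro hp hfin hS hF P hPT hP
    have hUS := hDF.1.2.2.2.1.1
    have hfinU := finite_of_le hUS
    have hU := hS.to_le hUS
    have hPD := fullyNormalized_of_subsystem hS hF _ hDF.1.2.2.1 hDF.1.2.2.2.1
      (hPT.trans (subnormal_le hED)) hP
    exact ih hp hfinU hU hDF.1.1 P hPT hPD

end Cfsg.Agent.H88
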