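import Mathlib
import Cfsg.Agent.H88.X23Pieces
import Cfsg.Agent.H89.X23Bits
import Cfsg.Agent.H89.X23VF
import Cfsg.Agent.H16.X23Collect

/-!
# S2649: the combinatorial core (helper88)

From the pieces `StPhi`, `StFin`, `StVals` and the kernel checks of `X23Eqs`: every normalised
cocycle on `P` that is stable under the three fusion elements is a coboundary.
-/

set_option autoImplicit false

namespace Cfsg.Agent.H88.X23

open Cfsg.Agent.H89.X23 Cfsg.Agent.H16.X23

/-! ### decoding the tables -/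

theorem mul_lt : ∀ a < 128, ∀ b < 128, mulT a b < 128 := by
  intro a ha b hb
  have h := (allN_iff _ _).mp chkMul_ok a ha
  rw [Bool.and_eq_true] at h
  have h2 := (allN_iff _ _).mp h.1 b hb
  exact Nat.blt_eq.mp h2

theorem mul_zero_r : ∀ a < 128, mulT a 0 = a := by
  intro a ha
  have h := (allN_iff _ _).mp chkMul_ok a ha
  rw [Bool.and_eq_true] at h
  exact Nat.eq_of_beq_eq_true h.2

theorem mul_top : ∀ k < 7, ∀ a < 2 ^ k, mulT a (2 ^ k) = a + 2 ^ k := by
  intro k hk a ha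
  have h := (allN_iff _ _).mp ((allN_iff _ _).mp chkTop_ok k hk) a ha
  exact Nat.eq_of_beq_eq_true h

theorem mcT_lt (a i : ℕ) : mcT a i < 2048 := Nat.mod_lt _ (by norm_num)

theorem gcT_lt (a i : ℕ) : gcT a i < 2048 := Nat.mod_lt _ (by norm_num)

theorem smT_lt (a b i : ℕ) : smT a b i < 2048 := Nat.mod_lt _ (by norm_num)

theorem tv_dec : ∀ k < 7, ∀ i < k + 1,
    tv k i < 28 ∧ tKl.getD (tv k i) 0 = k ∧ tIl.getD (tv k i) 0 = i := by decide +kernel

theorem wv_dec : ∀ t < 3, ∀ r ∈ RLd t, r < 128 ∧ cjT t r < 128 ∧ 28 ≤ wv t r ∧ wv t r < 56 ∧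
    wTl.getD (wv t r - 28) 0 = t ∧ wRl.getD (wv t r - 28) 0 = r := by decide +kernel

theorem RL_closed : ∀ t < 3, ∀ r1 ∈ RLd t, ∀ r2 ∈ RLd t, mulT r1 r2 ∈ RLd t := by decide +kernel

theorem consL_bd : ∀ x ∈ consL, x.1 < 128 ∧ x.2.1 < 128 ∧ x.2.2 < 128 := by decide +kernel

theorem stabL_bd : ∀ x ∈ stabL, x.1 < 3 ∧ x.2.1 ∈ RLd x.1 ∧ x.2.2 ∈ RLd x.1 := by decide +kernel

theorem getD_mem_or {α : Type*} (l : List α) (q : ℕ) (d : α) : l.getD q d ∈ l ∨ l.getD q d = d := by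
  by_cases h : q < l.length
  · left
    rw [List.getD_eq_getElem _ _ h]
    exact List.getElem_mem h
  · right
    exact List.getD_eq_default _ _ (Nat.le_of_not_lt h)

/-! ### the assignment -/

/-- the basic variables: tails of the cocycle and stability witnesses -/
def valB (F W : ℕ → ℕ → ℕ) (v : ℕ) : ℕ :=
  if v < 28 then F (2 ^ tKl.getD v 0) (2 ^ tIl.getD v 0)
  else W (wTl.getD (v - 28) 0) (wRl.getD (v - 28) 0)

/-- the correction vectors -/
def uval (F W : ℕ → ℕ → ℕ) (j : ℕ) : ℕ := vfVal CC (valB F W) (udefR j)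

/-- all variables -/
def valX (F W : ℕ → ℕ → ℕ) (v : ℕ) : ℕ := if v < 56 then valB F W v else uval F W (v - 56)

theorem vfVal_cons (C : Mats) (val : ℕ → ℕ) (t : Term) (l : List Term) :
    vfVal C val (t :: l) = termVal C val t ^^^ vfVal C val l := rfl

theorem vfVal_nil (C : Mats) (val : ℕ → ℕ) : vfVal C val [] = 0 := rfl

theorem termVal_zero (C : Mats) (val : ℕ → ℕ) (p q v : ℕ) : termVal C val (0, p, q, v) = val v := rfl

theorem termVal_one (C : Mats) (val : ℕ → ℕ) (p q v : ℕ) :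
    termVal C val (1, p, q, v) = mapply (C.MC p) (val v) := rfl

section core

variable (hPhi : StPhi) (hVals : StVals)
  (hmul : ∀ a < 128, ∀ x < 128, ∀ v < 2048,
    mapply (mcT a) (mapply (mcT x) v) = mapply (mcT (mulT a x)) v)
  (F W : ℕ → ℕ → ℕ) (hyp : CoreHyp mulT mcT gcT RLd cjT F W)

include hyp in
theorem valB_lt (v : ℕ) : valB F W v < 2048 := by
  unfold valB
  split_ifs
  · exact hyp.1 _ _
  · exact hyp.2.1 _ _

include hyp hVals in
theorem uval_lt (j : ℕ) : uval F W j < 2048 :=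
  hVals.2.2.1 CC (valB F W) (udefR j) mcT_lt gcT_lt smT_lt (valB_lt F W hyp)

include hyp hVals in
theorem valX_lt (v : ℕ) : valX F W v < 2048 := by
  unfold valX
  split_ifs
  · exact valB_lt F W hyp v
  · exact uval_lt hVals F W hyp _

theorem val_tail (x : ℕ × ℕ × ℕ) (h1 : x.2.2 ≤ x.2.1) (h2 : x.2.1 < 7) :
    valX F W (tvar x) = F (2 ^ x.2.1) (2 ^ x.2.2) := by
  obtain ⟨d1, d2, d3⟩ := tv_dec x.2.1 h2 x.2.2 (Nat.lt_succ_of_le h1)
  have e : tvar x = tv x.2.1 x.2.2 := rfl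
  rw [e]
  unfold valX valB
  rw [if_pos (by omega), if_pos d1, d2, d3]

theorem val_W (t r : ℕ) (ht : t < 3) (hr : r ∈ RLd t) : valX F W (wv t r) = W t r := by
  obtain ⟨-, -, d1, d2, d3, d4⟩ := wv_dec t ht r hr
  unfold valX valB
  rw [if_pos d2, if_neg (by omega), d3, d4]

theorem val_u (j : ℕ) : valX F W (56 + j) = uval F W j := by
  unfold valX
  rw [if_neg (by omega), Nat.add_sub_cancel_left]

include hPhi hyp in
theorem F_form (a b : ℕ) (ha : a < 128) (hb : b < 128) :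
    F a b = evalL (fun a v => mapply (mcT a) v) F (PH a b) ∧
      ∀ x ∈ PH a b, x.1 < 128 ∧ x.2.2 ≤ x.2.1 ∧ x.2.1 < 7 := by
  obtain ⟨L, hL, hbd⟩ := hPhi a ha b hb
  have e : PH a b = L := by unfold PH; rw [hL]; rfl
  rw [e]
  refine ⟨?_, hbd⟩
  exact collect mulT (fun a v => mapply (mcT a) v) F mul_lt mul_zero_r mul_top
    (fun a => mapply_zero _) (fun a v w => mapply_xor _ v w) hyp.2.2.1 hyp.2.2.2.1
    hyp.2.2.2.2.1 12 a ha b hb L hL

include hPhi hVals hyp in
theorem kind1 (a b : ℕ) (ha : a < 128) (hb : b < 128) :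
    vfVal CC (valX F W) ((PH a b).map (fun x => (1, x.1, 0, tvar x))) = F a b := by
  obtain ⟨h1, h2⟩ := F_form hPhi F W hyp a b ha hb
  rw [h1]
  exact hVals.2.2.2.1 CC (valX F W) F tvar (PH a b)
    (fun x hx => val_tail F W x (h2 x hx).2.1 (h2 x hx).2.2)

include hPhi hVals hmul hyp in
theorem kind1m (c a b : ℕ) (hc : c < 128) (ha : a < 128) (hb : b < 128) :
    vfVal CC (valX F W) ((PH a b).map (fun x => (1, mulT c x.1, 0, tvar x))) =
      mapply (mcT c) (F a b) := by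
  obtain ⟨h1, h2⟩ := F_form hPhi F W hyp a b ha hb
  rw [h1]
  exact hVals.2.2.2.2.1 CC mulT (valX F W) F tvar c (PH a b)
    (fun x hx => val_tail F W x (h2 x hx).2.1 (h2 x hx).2.2)
    (fun x hx => hmul c hc x.1 (h2 x hx).1 _ (hyp.1 _ _))

include hPhi hVals hyp in
theorem kind2 (t a b : ℕ) (ha : a < 128) (hb : b < 128) :
    vfVal CC (valX F W) ((PH a b).map (fun x => (2, t, x.1, tvar x))) =
      mapply (gcT t) (F a b) := by
  obtain ⟨h1, h2⟩ := F_form hPhi F W hyp a b ha hb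
  rw [h1]
  exact hVals.2.2.2.2.2 CC (valX F W) F tvar t (PH a b)
    (fun x hx => val_tail F W x (h2 x hx).2.1 (h2 x hx).2.2)

include hPhi hVals hmul hyp in
theorem cons_zero (a b c : ℕ) (ha : a < 128) (hb : b < 128) (hc : c < 128) :
    vfVal CC (valX F W) (consVF a b c) = 0 := by
  have hcoc := hyp.2.2.2.2.1 a ha b hb c hc
  unfold consVF
  rw [hVals.1, List.map_append, List.map_append, hVals.1, hVals.1,
    kind1m hPhi hVals hmul F W hyp a b c ha hb hc,
    kind1 hPhi hVals F W hyp a (mulT b c) ha (mul_lt b hb c hc),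
    kind1 hPhi hVals F W hyp a b ha hb,
    kind1 hPhi hVals F W hyp (mulT a b) c (mul_lt a ha b hb) hc]
  have e : mapply (mcT a) (F b c) ^^^ (F a (mulT b c) ^^^ F a b ^^^ F (mulT a b) c) =
      (mapply (mcT a) (F b c) ^^^ F a (mulT b c)) ^^^ (F a b ^^^ F (mulT a b) c) := by
    simp only [Nat.xor_assoc]
  rw [e, hcoc, Nat.xor_self]

include hPhi hVals hyp in
theorem stab_zero (t r1 r2 : ℕ) (ht : t < 3) (h1 : r1 ∈ RLd t) (h2 : r2 ∈ RLd t) :
    vfVal CC (valX F W) (stabVF t r1 r2) = 0 := by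
  have hst := hyp.2.2.2.2.2 t ht r1 h1 r2 h2
  obtain ⟨a1, a2, -⟩ := wv_dec t ht r1 h1
  obtain ⟨b1, b2, -⟩ := wv_dec t ht r2 h2
  unfold stabVF
  rw [hVals.1, hVals.1, kind1 hPhi hVals F W hyp _ _ a2 b2, kind2 hPhi hVals F W hyp t r1 r2 a1 b1,
    vfVal_cons, vfVal_cons, vfVal_cons, vfVal_nil, termVal_zero, termVal_one, termVal_zero,
    val_W F W t r1 ht h1, val_W F W t r2 ht h2, val_W F W t _ ht (RL_closed t ht r1 h1 r2 h2)]
  have e : F (cjT t r1) (cjT t r2) ^^^ (mapply (gcT t) (F r1 r2) ^^^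
      (W t r1 ^^^ (mapply (CC.MC (cjT t r1)) (W t r2) ^^^ (W t (mulT r1 r2) ^^^ 0)))) =
      (F (cjT t r1) (cjT t r2) ^^^ mapply (gcT t) (F r1 r2)) ^^^
      (W t r1 ^^^ mapply (mcT (cjT t r1)) (W t r2) ^^^ W t (mulT r1 r2)) := by
    have : CC.MC = mcT := rfl
    rw [this]
    simp only [Nat.xor_assoc, Nat.xor_zero]
  rw [e, hst, Nat.xor_self]

include hVals in
theorem udef_zero (j : ℕ) : vfVal CC (valX F W) (udefVF j) = 0 := by
  unfold udefVF
  rw [vfVal_cons, termVal_zero, val_u]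
  have e : vfVal CC (valX F W) (udefR j) = uval F W j := by
    unfold uval
    apply hVals.2.1
    intro t ht
    unfold udefR at ht
    rw [List.mem_map] at ht
    obtain ⟨rel, hrel, rfl⟩ := ht
    rw [List.mem_range] at hrel
    show valX F W rel = valB F W rel
    unfold valX
    rw [if_pos (by omega)]
  rw [e, Nat.xor_self]

include hPhi hVals hmul hyp in
theorem eq_zero (l : List Term) (hl : l ∈ eqL) : vfVal CC (valX F W) l = 0 := by
  unfold eqL at hl
  rw [List.mem_append, List.mem_append] at hl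
  rcases hl with h | h | h
  · rw [List.mem_map] at h
    obtain ⟨x, hx, rfl⟩ := h
    obtain ⟨b1, b2, b3⟩ := consL_bd x hx
    exact cons_zero hPhi hVals hmul F W hyp _ _ _ b1 b2 b3
  · rw [List.mem_map] at h
    obtain ⟨x, hx, rfl⟩ := h
    obtain ⟨b1, b2, b3⟩ := stabL_bd x hx
    exact stab_zero hPhi hVals F W hyp _ _ _ b1 b2 b3
  · rw [List.mem_map] at h
    obtain ⟨j, -, rfl⟩ := h
    exact udef_zero hVals F W j

include hPhi hVals hmul hyp in
theorem row_false (j : ℕ) (hj : j < 770) : pdotV 63 (fld 693 rowTab j) (valX F W) = false := by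
  have hq : j / 11 < 70 := by omega
  have hs : j % 11 < 11 := Nat.mod_lt _ (by norm_num)
  have h := (allN_iff _ _).mp chkRows_ok (j / 11) hq
  rw [Bool.and_eq_true] at h
  have h1 := Nat.eq_of_beq_eq_true ((allN_iff _ _).mp h.1 (j % 11) hs)
  have h2 : ∀ t ∈ eqL.getD (j / 11) [], t.2.2.2 < 63 := by
    intro t ht
    exact Nat.blt_eq.mp (List.all_eq_true.mp h.2 t ht)
  have h3 := (vf bits).1 CC 63 (valX F W) (eqL.getD (j / 11) []) (j % 11) hs h2
  have h4 : vfVal CC (valX F W) (eqL.getD (j / 11) []) = 0 := by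
    rcases getD_mem_or eqL (j / 11) [] with h | h
    · exact eq_zero hPhi hVals hmul F W hyp _ h
    · rw [h]; rfl
  rw [h4, h1, Nat.div_add_mod] at h3
  rw [← h3]
  exact Nat.zero_testBit _

include hPhi hVals hmul hyp in
theorem goal_zero (k i : ℕ) (hk : k < 7) (hi : i ≤ k) :
    vfVal CC (valX F W) (goalVF k i) = 0 := by
  have h := (allN_iff _ _).mp ((allN_iff _ _).mp chkCert_ok k hk) i (Nat.lt_succ_of_le hi)
  rw [Bool.and_eq_true] at h
  have h2 : ∀ t ∈ goalVF k i, t.2.2.2 < 63 := by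
    intro t ht
    exact Nat.blt_eq.mp (List.all_eq_true.mp h.2 t ht)
  apply eq_zero_of_bits _ (hVals.2.2.1 CC (valX F W) _ mcT_lt gcT_lt smT_lt (valX_lt hVals F W hyp))
  intro r hr
  have h1 := Nat.eq_of_beq_eq_true ((allN_iff _ _).mp h.1 r hr)
  rw [(vf bits).1 CC 63 (valX F W) (goalVF k i) r hr h2, h1]
  exact (vf bits).2 63 693 rowTab _ (valX F W) 770 (row_false hPhi hVals hmul F W hyp)

end core

/-- the combinatorial core of S2649 -/
theorem core (hPhi : StPhi) (hFin : StFin) (hVals : StVals)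
    (hassoc : ∀ a < 128, ∀ b < 128, ∀ c < 128, mulT (mulT a b) c = mulT a (mulT b c))
    (hmul : ∀ a < 128, ∀ x < 128, ∀ v < 2048,
      mapply (mcT a) (mapply (mcT x) v) = mapply (mcT (mulT a x)) v) :
    ∀ (F : ℕ → ℕ → ℕ) (W : ℕ → ℕ → ℕ), CoreHyp mulT mcT gcT RLd cjT F W → CoreConcl mulT mcT F := by
  intro F W hyp
  refine hFin mulT mcT F (uval F W) mul_lt mul_zero_r mul_top hassoc mcT_lt hmul hPhi hyp.1
    (uval_lt hVals F W hyp) hyp.2.2.1 hyp.2.2.2.1 hyp.2.2.2.2.1 ?_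
  intro k hk i hi
  have h := goal_zero hPhi hVals hmul F W hyp k i hk hi
  unfold goalVF at h
  rw [vfVal_cons, vfVal_cons, vfVal_cons, termVal_zero, termVal_one, termVal_one, val_u, val_u] at h
  have e : tv k i = tvar (0, k, i) := rfl
  rw [e, val_tail F W (0, k, i) hi hk] at h
  have e2 : vfVal CC (valX F W) ((bitTerms (mulT (2 ^ k) (2 ^ i))).map
      (fun p => ((1, p.1, 0, 56 + p.2) : Term))) =
      ((bitTerms (mulT (2 ^ k) (2 ^ i))).map
        (fun p => mapply (mcT p.1) (uval F W p.2))).foldr (fun a b => a ^^^ b) 0 := by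
    unfold vfVal
    rw [List.map_map]
    congr 1
    apply List.map_congr_left
    intro p _
    show termVal CC (valX F W) (1, p.1, 0, 56 + p.2) = _
    rw [termVal_one, val_u]
    rfl
  rw [e2] at h
  exact h

end Cfsg.Agent.H88.X23
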