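import Mathlib
import Cfsg.Agent.H88.X23Eqs
import Cfsg.Agent.H88.X23DData

/-!
# S2651: the equations of the linear certificate for the dual module and their kernel checks
(helper88)
-/

set_option autoImplicit false

namespace Cfsg.Agent.H88.X23D

open Cfsg.Agent.H88.X23

/-- the matrices of the certificate -/
def CCD : Mats := ⟨mdT, gdT, smTD⟩

/-- all equations -/
def eqLD : List (List Term) :=
  consLD.map (fun x => consVF x.1 x.2.1 x.2.2) ++
    (stabLD.map (fun x => stabVF x.1 x.2.1 x.2.2) ++ (List.range 7).map udefVF)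

/-- the tails `F (2^k) (2^i)`, `i ≤ k < 7`, of a cocycle, indexed by `tv k i` -/
def valT (F : ℕ → ℕ → ℕ) (v : ℕ) : ℕ := F (2 ^ tKl.getD v 0) (2 ^ tIl.getD v 0)

/-- the functional on the tails that detects the non-trivial stable class: one bit of one corrected
tail -/
def lam (F : ℕ → ℕ → ℕ) : Bool := (vfVal CCD (valT F) (udefR 7)).testBit lamBit

/-! ### kernel checks -/

def chkRowsD : Bool :=
  allN (fun q => allN (fun s =>
    Nat.beq (vfRow CCD s (eqLD.getD q [])) (fld 693 rowTabD (11 * q + s))) 11 &&
    (eqLD.getD q []).all (fun t => Nat.blt t.2.2.2 63)) 71 &&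
  Nat.beq (vfRow CCD lamBit (udefR 7)) (fld 693 rowTabD 781)

def chkCertD : Bool :=
  allN (fun k => allN (fun i => allN (fun r =>
    Nat.beq (vfRow CCD r (goalVF k i))
      (xorSel 693 rowTabD (fld 782 certTabD (11 * tv k i + r)) 782)) 11 &&
    (goalVF k i).all (fun t => Nat.blt t.2.2.2 63)) (k + 1)) 7

/-- the dual matrices are the inverse transposes: `(mcT a)ᵀ * mdT a = 1` on the basis -/
def chkDual : Bool :=
  allN (fun a => allN (fun r => Nat.beq (tapply (mcT a) (mdT a r)) (2 ^ r)) 11) 128 &&
  allN (fun t => allN (fun r => Nat.beq (tapply (gcT t) (gdT t r)) (2 ^ r)) 11) 3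

theorem chkRowsD_ok : chkRowsD = true := by decide +kernel

theorem chkCertD_ok : chkCertD = true := by decide +kernel

theorem chkDual_ok : chkDual = true := by decide +kernel

end Cfsg.Agent.H88.X23D
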