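import Mathlib
import Cfsg.Agent.H88.X23Pieces
import Cfsg.Agent.H89.X23Bits

/-!
# S2649: the piece `X23-VALS` (helper88): values of sums of terms
-/

set_option autoImplicit false

namespace Cfsg.Agent.H88.X23

open Cfsg.Agent.H89.X23

theorem vv_cons (C : Mats) (val : ℕ → ℕ) (t : Term) (l : List Term) :
    vfVal C val (t :: l) = termVal C val t ^^^ vfVal C val l := rfl

theorem vv_nil (C : Mats) (val : ℕ → ℕ) : vfVal C val [] = 0 := rfl

theorem ev_cons (act F : ℕ → ℕ → ℕ) (t : ℕ × ℕ × ℕ) (L : List (ℕ × ℕ × ℕ)) :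
    evalL act F (t :: L) = act t.1 (F (2 ^ t.2.1) (2 ^ t.2.2)) ^^^ evalL act F L := rfl

theorem ev_nil (act F : ℕ → ℕ → ℕ) : evalL act F [] = 0 := rfl

theorem vv_append (C : Mats) (val : ℕ → ℕ) (l1 l2 : List Term) :
    vfVal C val (l1 ++ l2) = vfVal C val l1 ^^^ vfVal C val l2 := by
  induction l1 with
  | nil => rw [List.nil_append, vv_nil, Nat.zero_xor]
  | cons t l ih => rw [List.cons_append, vv_cons, vv_cons, ih, Nat.xor_assoc]

theorem vv_congr (C : Mats) (val val' : ℕ → ℕ) (l : List Term)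
    (h : ∀ t ∈ l, val t.2.2.2 = val' t.2.2.2) : vfVal C val l = vfVal C val' l := by
  induction l with
  | nil => rfl
  | cons t l ih =>
    rw [vv_cons, vv_cons, ih (fun s hs => h s (List.mem_cons_of_mem _ hs))]
    congr 1
    unfold termVal
    rw [h t List.mem_cons_self]

theorem vv_lt (C : Mats) (val : ℕ → ℕ) (l : List Term)
    (h1 : ∀ a i, C.MC a i < 2048) (h2 : ∀ a i, C.GC a i < 2048) (h3 : ∀ a b i, C.SM a b i < 2048)
    (hv : ∀ v, val v < 2048) : vfVal C val l < 2048 := by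
  induction l with
  | nil => rw [vv_nil]; norm_num
  | cons t l ih =>
    rw [vv_cons]
    have ht : termVal C val t < 2048 := by
      unfold termVal
      split_ifs
      · exact hv _
      · exact mapply_lt _ _ (fun i _ => h1 _ i)
      · exact mapply_lt _ _ (fun i _ => h2 _ i)
      · exact mapply_lt _ _ (fun i _ => h3 _ _ i)
    have e : (2048 : ℕ) = 2 ^ 11 := by norm_num
    rw [e] at ht ih ⊢
    exact Nat.xor_lt_two_pow ht ih

theorem vv_kind1 (C : Mats) (val : ℕ → ℕ) (F : ℕ → ℕ → ℕ) (var : ℕ × ℕ × ℕ → ℕ)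
    (L : List (ℕ × ℕ × ℕ)) (h : ∀ x ∈ L, val (var x) = F (2 ^ x.2.1) (2 ^ x.2.2)) :
    vfVal C val (L.map (fun x => (1, x.1, 0, var x))) =
      evalL (fun a v => mapply (C.MC a) v) F L := by
  induction L with
  | nil => rfl
  | cons x L ih =>
    rw [List.map_cons, vv_cons, ev_cons, ih (fun y hy => h y (List.mem_cons_of_mem _ hy))]
    congr 1
    show mapply (C.MC x.1) (val (var x)) = _
    rw [h x List.mem_cons_self]

theorem vv_kind1m (C : Mats) (MUL : ℕ → ℕ → ℕ) (val : ℕ → ℕ) (F : ℕ → ℕ → ℕ)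
    (var : ℕ × ℕ × ℕ → ℕ) (a : ℕ) (L : List (ℕ × ℕ × ℕ))
    (h : ∀ x ∈ L, val (var x) = F (2 ^ x.2.1) (2 ^ x.2.2))
    (hm : ∀ x ∈ L, mapply (C.MC a) (mapply (C.MC x.1) (F (2 ^ x.2.1) (2 ^ x.2.2))) =
      mapply (C.MC (MUL a x.1)) (F (2 ^ x.2.1) (2 ^ x.2.2))) :
    vfVal C val (L.map (fun x => (1, MUL a x.1, 0, var x))) =
      mapply (C.MC a) (evalL (fun a v => mapply (C.MC a) v) F L) := by
  induction L with
  | nil => rw [ev_nil, mapply_zero]; rfl
  | cons x L ih =>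
    rw [List.map_cons, vv_cons, ev_cons, mapply_xor,
      ih (fun y hy => h y (List.mem_cons_of_mem _ hy)) (fun y hy => hm y (List.mem_cons_of_mem _ hy))]
    congr 1
    show mapply (C.MC (MUL a x.1)) (val (var x)) = _
    rw [h x List.mem_cons_self, hm x List.mem_cons_self]

theorem vv_kind2 (C : Mats) (val : ℕ → ℕ) (F : ℕ → ℕ → ℕ) (var : ℕ × ℕ × ℕ → ℕ) (t : ℕ)
    (L : List (ℕ × ℕ × ℕ)) (h : ∀ x ∈ L, val (var x) = F (2 ^ x.2.1) (2 ^ x.2.2)) :
    vfVal C val (L.map (fun x => (2, t, x.1, var x))) =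
      mapply (C.GC t) (evalL (fun a v => mapply (C.MC a) v) F L) := by
  induction L with
  | nil => rw [ev_nil, mapply_zero]; rfl
  | cons x L ih =>
    rw [List.map_cons, vv_cons, ev_cons, mapply_xor,
      ih (fun y hy => h y (List.mem_cons_of_mem _ hy))]
    congr 1
    show mapply (C.GC t) (mapply (C.MC x.1) (val (var x))) = _
    rw [h x List.mem_cons_self]

/-- the piece `X23-VALS` -/
theorem vals : StVals :=
  ⟨vv_append, vv_congr, vv_lt, vv_kind1, vv_kind1m, vv_kind2⟩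

end Cfsg.Agent.H88.X23
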