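import Mathlib
import Cfsg.Agent.H88.X23Core
import Cfsg.Agent.H88.X23Vals
import Cfsg.Agent.H88.X23DEqs

/-!
# S2651: the combinatorial core for the dual module (helper88)

Every normalised cocycle on `P` with values in the dual module that is stable under the three
fusion elements and is killed by the functional `lam` is a coboundary.
-/

set_option autoImplicit false

namespace Cfsg.Agent.H88.X23D

open Cfsg.Agent.H88.X23 Cfsg.Agent.H89.X23 Cfsg.Agent.H16.X23

theorem mdT_lt (a i : ℕ) : mdT a i < 2048 := Nat.mod_lt _ (by norm_num)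

theorem gdT_lt (a i : ℕ) : gdT a i < 2048 := Nat.mod_lt _ (by norm_num)

theorem smTD_lt (a b i : ℕ) : smTD a b i < 2048 := Nat.mod_lt _ (by norm_num)

theorem consLD_bd : ∀ x ∈ consLD, x.1 < 128 ∧ x.2.1 < 128 ∧ x.2.2 < 128 := by decide +kernel

theorem stabLD_bd : ∀ x ∈ stabLD, x.1 < 3 ∧ x.2.1 ∈ RLd x.1 ∧ x.2.2 ∈ RLd x.1 := by
  decide +kernel

theorem lamBit_lt : lamBit < 11 := by decide

/-! ### additivity of `lam` -/

theorem vfVal_xor (C : Mats) (a b c : ℕ → ℕ) (h : ∀ v, c v = a v ^^^ b v) (l : List Term) :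
    vfVal C c l = vfVal C a l ^^^ vfVal C b l := by
  induction l with
  | nil => rw [vv_nil, vv_nil, vv_nil, Nat.xor_self]
  | cons t l ih =>
    rw [vv_cons, vv_cons, vv_cons, ih]
    have ht : termVal C c t = termVal C a t ^^^ termVal C b t := by
      unfold termVal
      split_ifs <;> simp only [h, mapply_xor]
    rw [ht]
    ac_rfl

/-- `lam` is additive -/
theorem lam_xor (F F' G : ℕ → ℕ → ℕ) (h : ∀ a b, G a b = F a b ^^^ F' a b) :
    lam G = xor (lam F) (lam F') := by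
  unfold lam
  rw [vfVal_xor CCD (valT F) (valT F') (valT G) (fun v => h _ _), Nat.testBit_xor]

/-- `lam` only depends on the tails -/
theorem lam_congr (F G : ℕ → ℕ → ℕ) (h : ∀ k < 7, ∀ i ≤ k, G (2 ^ k) (2 ^ i) = F (2 ^ k) (2 ^ i)) :
    lam G = lam F := by
  unfold lam
  have hdec : ∀ v < 28, tIl.getD v 0 ≤ tKl.getD v 0 ∧ tKl.getD v 0 < 7 := by decide
  rw [vv_congr CCD (valT G) (valT F) (udefR 7)]
  intro t ht
  unfold udefR at ht
  rw [List.mem_map] at ht
  obtain ⟨rel, hrel, rfl⟩ := ht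
  rw [List.mem_range] at hrel
  exact h _ (hdec rel hrel).2 _ (hdec rel hrel).1

/-! ### the assignment -/

/-- the correction vectors -/
def uvalD (F W : ℕ → ℕ → ℕ) (j : ℕ) : ℕ := vfVal CCD (valB F W) (udefR j)

/-- all variables -/
def valXD (F W : ℕ → ℕ → ℕ) (v : ℕ) : ℕ := if v < 56 then valB F W v else uvalD F W (v - 56)

section core

variable (hPhi : StPhi) (hVals : StVals)
  (hmul : ∀ a < 128, ∀ x < 128, ∀ v < 2048,
    mapply (mdT a) (mapply (mdT x) v) = mapply (mdT (mulT a x)) v)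
  (F W : ℕ → ℕ → ℕ) (hyp : CoreHyp mulT mdT gdT RLd cjT F W)

include hyp in
theorem valBD_lt (v : ℕ) : valB F W v < 2048 := by
  unfold valB
  split_ifs
  · exact hyp.1 _ _
  · exact hyp.2.1 _ _

include hyp hVals in
theorem uvalD_lt (j : ℕ) : uvalD F W j < 2048 :=
  hVals.2.2.1 CCD (valB F W) (udefR j) mdT_lt gdT_lt smTD_lt (valBD_lt F W hyp)

include hyp hVals in
theorem valXD_lt (v : ℕ) : valXD F W v < 2048 := by
  unfold valXD
  split_ifs
  · exact valBD_lt F W hyp v
  · exact uvalD_lt hVals F W hyp _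

theorem valD_tail (x : ℕ × ℕ × ℕ) (h1 : x.2.2 ≤ x.2.1) (h2 : x.2.1 < 7) :
    valXD F W (tvar x) = F (2 ^ x.2.1) (2 ^ x.2.2) := by
  obtain ⟨d1, d2, d3⟩ := tv_dec x.2.1 h2 x.2.2 (Nat.lt_succ_of_le h1)
  have e : tvar x = tv x.2.1 x.2.2 := rfl
  rw [e]
  unfold valXD valB
  rw [if_pos (by omega), if_pos d1, d2, d3]

theorem valD_W (t r : ℕ) (ht : t < 3) (hr : r ∈ RLd t) : valXD F W (wv t r) = W t r := by
  obtain ⟨-, -, d1, d2, d3, d4⟩ := wv_dec t ht r hr
  unfold valXD valB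
  rw [if_pos d2, if_neg (by omega), d3, d4]

theorem valD_u (j : ℕ) : valXD F W (56 + j) = uvalD F W j := by
  unfold valXD
  rw [if_neg (by omega), Nat.add_sub_cancel_left]

include hPhi hyp in
theorem FD_form (a b : ℕ) (ha : a < 128) (hb : b < 128) :
    F a b = evalL (fun a v => mapply (mdT a) v) F (PH a b) ∧
      ∀ x ∈ PH a b, x.1 < 128 ∧ x.2.2 ≤ x.2.1 ∧ x.2.1 < 7 := by
  obtain ⟨L, hL, hbd⟩ := hPhi a ha b hb
  have e : PH a b = L := by unfold PH; rw [hL]; rfl
  rw [e]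
  refine ⟨?_, hbd⟩
  exact collect mulT (fun a v => mapply (mdT a) v) F mul_lt mul_zero_r mul_top
    (fun a => mapply_zero _) (fun a v w => mapply_xor _ v w) hyp.2.2.1 hyp.2.2.2.1
    hyp.2.2.2.2.1 12 a ha b hb L hL

include hPhi hVals hyp in
theorem kindD1 (a b : ℕ) (ha : a < 128) (hb : b < 128) :
    vfVal CCD (valXD F W) ((PH a b).map (fun x => (1, x.1, 0, tvar x))) = F a b := by
  obtain ⟨h1, h2⟩ := FD_form hPhi F W hyp a b ha hb
  rw [h1]
  exact hVals.2.2.2.1 CCD (valXD F W) F tvar (PH a b)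
    (fun x hx => valD_tail F W x (h2 x hx).2.1 (h2 x hx).2.2)

include hPhi hVals hmul hyp in
theorem kindD1m (c a b : ℕ) (hc : c < 128) (ha : a < 128) (hb : b < 128) :
    vfVal CCD (valXD F W) ((PH a b).map (fun x => (1, mulT c x.1, 0, tvar x))) =
      mapply (mdT c) (F a b) := by
  obtain ⟨h1, h2⟩ := FD_form hPhi F W hyp a b ha hb
  rw [h1]
  exact hVals.2.2.2.2.1 CCD mulT (valXD F W) F tvar c (PH a b)
    (fun x hx => valD_tail F W x (h2 x hx).2.1 (h2 x hx).2.2)
    (fun x hx => hmul c hc x.1 (h2 x hx).1 _ (hyp.1 _ _))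

include hPhi hVals hyp in
theorem kindD2 (t a b : ℕ) (ha : a < 128) (hb : b < 128) :
    vfVal CCD (valXD F W) ((PH a b).map (fun x => (2, t, x.1, tvar x))) =
      mapply (gdT t) (F a b) := by
  obtain ⟨h1, h2⟩ := FD_form hPhi F W hyp a b ha hb
  rw [h1]
  exact hVals.2.2.2.2.2 CCD (valXD F W) F tvar t (PH a b)
    (fun x hx => valD_tail F W x (h2 x hx).2.1 (h2 x hx).2.2)

include hPhi hVals hmul hyp in
theorem consD_zero (a b c : ℕ) (ha : a < 128) (hb : b < 128) (hc : c < 128) :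
    vfVal CCD (valXD F W) (consVF a b c) = 0 := by
  have hcoc := hyp.2.2.2.2.1 a ha b hb c hc
  unfold consVF
  rw [hVals.1, List.map_append, List.map_append, hVals.1, hVals.1,
    kindD1m hPhi hVals hmul F W hyp a b c ha hb hc,
    kindD1 hPhi hVals F W hyp a (mulT b c) ha (mul_lt b hb c hc),
    kindD1 hPhi hVals F W hyp a b ha hb,
    kindD1 hPhi hVals F W hyp (mulT a b) c (mul_lt a ha b hb) hc]
  have e : mapply (mdT a) (F b c) ^^^ (F a (mulT b c) ^^^ F a b ^^^ F (mulT a b) c) =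
      (mapply (mdT a) (F b c) ^^^ F a (mulT b c)) ^^^ (F a b ^^^ F (mulT a b) c) := by
    simp only [Nat.xor_assoc]
  rw [e, hcoc, Nat.xor_self]

include hPhi hVals hyp in
theorem stabD_zero (t r1 r2 : ℕ) (ht : t < 3) (h1 : r1 ∈ RLd t) (h2 : r2 ∈ RLd t) :
    vfVal CCD (valXD F W) (stabVF t r1 r2) = 0 := by
  have hst := hyp.2.2.2.2.2 t ht r1 h1 r2 h2
  obtain ⟨a1, a2, -⟩ := wv_dec t ht r1 h1
  obtain ⟨b1, b2, -⟩ := wv_dec t ht r2 h2
  unfold stabVF
  rw [hVals.1, hVals.1, kindD1 hPhi hVals F W hyp _ _ a2 b2,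
    kindD2 hPhi hVals F W hyp t r1 r2 a1 b1,
    vfVal_cons, vfVal_cons, vfVal_cons, vfVal_nil, termVal_zero, termVal_one, termVal_zero,
    valD_W F W t r1 ht h1, valD_W F W t r2 ht h2, valD_W F W t _ ht (RL_closed t ht r1 h1 r2 h2)]
  have e : F (cjT t r1) (cjT t r2) ^^^ (mapply (gdT t) (F r1 r2) ^^^
      (W t r1 ^^^ (mapply (CCD.MC (cjT t r1)) (W t r2) ^^^ (W t (mulT r1 r2) ^^^ 0)))) =
      (F (cjT t r1) (cjT t r2) ^^^ mapply (gdT t) (F r1 r2)) ^^^
      (W t r1 ^^^ mapply (mdT (cjT t r1)) (W t r2) ^^^ W t (mulT r1 r2)) := by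
    have : CCD.MC = mdT := rfl
    rw [this]
    simp only [Nat.xor_assoc, Nat.xor_zero]
  rw [e, hst, Nat.xor_self]

include hVals in
theorem udefD_zero (j : ℕ) : vfVal CCD (valXD F W) (udefVF j) = 0 := by
  unfold udefVF
  rw [vfVal_cons, termVal_zero, valD_u]
  have e : vfVal CCD (valXD F W) (udefR j) = uvalD F W j := by
    unfold uvalD
    apply hVals.2.1
    intro t ht
    unfold udefR at ht
    rw [List.mem_map] at ht
    obtain ⟨rel, hrel, rfl⟩ := ht
    rw [List.mem_range] at hrel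
    show valXD F W rel = valB F W rel
    unfold valXD
    rw [if_pos (by omega)]
  rw [e, Nat.xor_self]

include hPhi hVals hmul hyp in
theorem eqD_zero (l : List Term) (hl : l ∈ eqLD) : vfVal CCD (valXD F W) l = 0 := by
  unfold eqLD at hl
  rw [List.mem_append, List.mem_append] at hl
  rcases hl with h | h | h
  · rw [List.mem_map] at h
    obtain ⟨x, hx, rfl⟩ := h
    obtain ⟨b1, b2, b3⟩ := consLD_bd x hx
    exact consD_zero hPhi hVals hmul F W hyp _ _ _ b1 b2 b3
  · rw [List.mem_map] at h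
    obtain ⟨x, hx, rfl⟩ := h
    obtain ⟨b1, b2, b3⟩ := stabLD_bd x hx
    exact stabD_zero hPhi hVals F W hyp _ _ _ b1 b2 b3
  · rw [List.mem_map] at h
    obtain ⟨j, -, rfl⟩ := h
    exact udefD_zero hVals F W j

theorem lam_row (hlam : lam F = false) :
    pdotV 63 (fld 693 rowTabD 781) (valXD F W) = false := by
  have hc := chkRowsD_ok
  unfold chkRowsD at hc
  rw [Bool.and_eq_true] at hc
  have h1 := Nat.eq_of_beq_eq_true hc.2
  have h2 : ∀ t ∈ udefR 7, t.2.2.2 < 63 := by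
    intro t ht
    unfold udefR at ht
    rw [List.mem_map] at ht
    obtain ⟨rel, hrel, rfl⟩ := ht
    rw [List.mem_range] at hrel
    show rel < 63
    omega
  have h3 := (vf bits).1 CCD 63 (valXD F W) (udefR 7) lamBit lamBit_lt h2
  have h4 : vfVal CCD (valXD F W) (udefR 7) = vfVal CCD (valT F) (udefR 7) := by
    apply vv_congr
    intro t ht
    unfold udefR at ht
    rw [List.mem_map] at ht
    obtain ⟨rel, hrel, rfl⟩ := ht
    rw [List.mem_range] at hrel
    show valXD F W rel = valT F rel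
    unfold valXD valB valT
    rw [if_pos (by omega), if_pos hrel]
  rw [h4, h1] at h3
  rw [← h3]
  exact hlam

include hPhi hVals hmul hyp in
theorem rowD_false (hlam : lam F = false) (j : ℕ) (hj : j < 782) :
    pdotV 63 (fld 693 rowTabD j) (valXD F W) = false := by
  rcases Nat.lt_succ_iff_lt_or_eq.mp hj with hj' | rfl
  · have hq : j / 11 < 71 := by omega
    have hs : j % 11 < 11 := Nat.mod_lt _ (by norm_num)
    have hc := chkRowsD_ok
    unfold chkRowsD at hc
    rw [Bool.and_eq_true] at hc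
    have h := (allN_iff _ _).mp hc.1 (j / 11) hq
    rw [Bool.and_eq_true] at h
    have h1 := Nat.eq_of_beq_eq_true ((allN_iff _ _).mp h.1 (j % 11) hs)
    have h2 : ∀ t ∈ eqLD.getD (j / 11) [], t.2.2.2 < 63 := by
      intro t ht
      exact Nat.blt_eq.mp (List.all_eq_true.mp h.2 t ht)
    have h3 := (vf bits).1 CCD 63 (valXD F W) (eqLD.getD (j / 11) []) (j % 11) hs h2
    have h4 : vfVal CCD (valXD F W) (eqLD.getD (j / 11) []) = 0 := by
      rcases getD_mem_or eqLD (j / 11) [] with h | h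
      · exact eqD_zero hPhi hVals hmul F W hyp _ h
      · rw [h]; rfl
    rw [h4, h1, Nat.div_add_mod] at h3
    rw [← h3]
    exact Nat.zero_testBit _
  · exact lam_row F W hlam

include hPhi hVals hmul hyp in
theorem goalD_zero (hlam : lam F = false) (k i : ℕ) (hk : k < 7) (hi : i ≤ k) :
    vfVal CCD (valXD F W) (goalVF k i) = 0 := by
  have h := (allN_iff _ _).mp ((allN_iff _ _).mp chkCertD_ok k hk) i (Nat.lt_succ_of_le hi)
  rw [Bool.and_eq_true] at h
  have h2 : ∀ t ∈ goalVF k i, t.2.2.2 < 63 := by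
    intro t ht
    exact Nat.blt_eq.mp (List.all_eq_true.mp h.2 t ht)
  apply eq_zero_of_bits _
    (hVals.2.2.1 CCD (valXD F W) _ mdT_lt gdT_lt smTD_lt (valXD_lt hVals F W hyp))
  intro r hr
  have h1 := Nat.eq_of_beq_eq_true ((allN_iff _ _).mp h.1 r hr)
  rw [(vf bits).1 CCD 63 (valXD F W) (goalVF k i) r hr h2, h1]
  exact (vf bits).2 63 693 rowTabD _ (valXD F W) 782 (rowD_false hPhi hVals hmul F W hyp hlam)

end core

/-- the combinatorial core of S2651: a stable normalised cocycle with `lam F = false` is a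
coboundary -/
theorem core2 (hPhi : StPhi) (hFin : StFin) (hVals : StVals)
    (hassoc : ∀ a < 128, ∀ b < 128, ∀ c < 128, mulT (mulT a b) c = mulT a (mulT b c))
    (hmul : ∀ a < 128, ∀ x < 128, ∀ v < 2048,
      mapply (mdT a) (mapply (mdT x) v) = mapply (mdT (mulT a x)) v) :
    ∀ (F : ℕ → ℕ → ℕ) (W : ℕ → ℕ → ℕ), CoreHyp mulT mdT gdT RLd cjT F W → lam F = false →
      CoreConcl mulT mdT F := by
  intro F W hyp hlam
  refine hFin mulT mdT F (uvalD F W) mul_lt mul_zero_r mul_top hassoc mdT_lt hmul hPhi hyp.1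
    (uvalD_lt hVals F W hyp) hyp.2.2.1 hyp.2.2.2.1 hyp.2.2.2.2.1 ?_
  intro k hk i hi
  have h := goalD_zero hPhi hVals hmul F W hyp hlam k i hk hi
  unfold goalVF at h
  rw [vfVal_cons, vfVal_cons, vfVal_cons, termVal_zero, termVal_one, termVal_one, valD_u,
    valD_u] at h
  have e : tv k i = tvar (0, k, i) := rfl
  rw [e, valD_tail F W (0, k, i) hi hk] at h
  have e2 : vfVal CCD (valXD F W) ((bitTerms (mulT (2 ^ k) (2 ^ i))).map
      (fun p => ((1, p.1, 0, 56 + p.2) : Term))) =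
      ((bitTerms (mulT (2 ^ k) (2 ^ i))).map
        (fun p => mapply (mdT p.1) (uvalD F W p.2))).foldr (fun a b => a ^^^ b) 0 := by
    unfold vfVal
    rw [List.map_map]
    congr 1
    apply List.map_congr_left
    intro p _
    show termVal CCD (valXD F W) (1, p.1, 0, 56 + p.2) = _
    rw [termVal_one, valD_u]
    rfl
  rw [e2] at h
  exact h

end Cfsg.Agent.H88.X23D
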