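import Mathlib
import Cfsg.Agent.H88.X23DCore

/-!
# S2651: facts on the dual tables (helper88)

The dual matrices `mdT a`, `gdT t` are the inverse transposes of `mcT a`, `gcT t` (as a pairing
identity), and `mdT` is multiplicative.
-/

set_option autoImplicit false

namespace Cfsg.Agent.H88.X23D

open Cfsg.Agent.H88.X23 Cfsg.Agent.H89.X23

/-! ### kernel checks -/

def chkMulDg : Bool :=
  allN (fun a => allN (fun k => allN (fun i =>
    Nat.beq (mapply (mdT a) (mdT (2 ^ k) i)) (mdT (mulT a (2 ^ k)) i)) 11) 7) 128 &&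
  allN (fun i => Nat.beq (mdT 0 i) (2 ^ i)) 11

theorem chkMulDg_ok : chkMulDg = true := by decide +kernel

/-! ### generic lemmas -/

theorem xn_congr {l : List ℕ} {f g : ℕ → ℕ} (h : ∀ i ∈ l, f i = g i) : xn l f = xn l g := by
  induction l with
  | nil => rfl
  | cons a l ih =>
    rw [xn_cons, xn_cons, h a List.mem_cons_self,
      ih (fun i hi => h i (List.mem_cons_of_mem _ hi))]

theorem mapply_xn (M : ℕ → ℕ) (l : List ℕ) (f : ℕ → ℕ) :
    mapply M (xn l f) = xn l (fun i => mapply M (f i)) := by
  induction l with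
  | nil => rw [xn_nil, xn_nil, mapply_zero]
  | cons a l ih => rw [xn_cons, xn_cons, mapply_xor, ih]

/-- composition of matrices, checked on the columns -/
theorem mapply_comp (M N K : ℕ → ℕ) (h : ∀ i < 11, mapply M (N i) = K i) (v : ℕ) :
    mapply M (mapply N v) = mapply K v := by
  rw [mapply_eq N v, mapply_xn, mapply_eq K v]
  apply xn_congr
  intro i hi
  rw [List.mem_range] at hi
  show mapply M (if v.testBit i then N i else 0) = if v.testBit i then K i else 0
  split_ifs
  · exact h i hi
  · exact mapply_zero M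

/-- the identity matrix -/
theorem mapply_id (M : ℕ → ℕ) (h : ∀ i < 11, M i = 2 ^ i) (v : ℕ) (hv : v < 2048) :
    mapply M v = v := by
  have e : (2 : ℕ) ^ 11 = 2048 := by norm_num
  apply Nat.eq_of_testBit_eq
  intro r
  rw [mapply_testBit]
  have h1 : xb (List.range 11) (fun i => v.testBit i && (M i).testBit r) =
      xb (List.range 11) (fun i => decide (i = r) && v.testBit i) := by
    apply xb_congr
    intro i hi
    rw [List.mem_range] at hi
    rw [h i hi, Nat.testBit_two_pow, Bool.and_comm]
  rw [h1, xb_single _ List.nodup_range]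
  by_cases hr : r < 11
  · simp [hr]
  · have h2 : v.testBit r = false := by
      apply Nat.testBit_lt_two_pow
      calc v < 2 ^ 11 := by rw [e]; exact hv
        _ ≤ 2 ^ r := Nat.pow_le_pow_right (by norm_num) (by omega)
    simp [h2]

/-- the pairing is linear in a matrix image on the left -/
theorem pdot_mapply_left (M : ℕ → ℕ) (c b : ℕ) :
    pdot 11 (mapply M c) b = xb (List.range 11) (fun i => c.testBit i && pdot 11 (M i) b) := by
  rw [pdot_eq]
  have h1 : xb (List.range 11) (fun r => (mapply M c).testBit r && b.testBit r) =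
      xb (List.range 11) (fun r => xb (List.range 11)
        (fun i => c.testBit i && ((M i).testBit r && b.testBit r))) := by
    apply xb_congr
    intro r _
    rw [mapply_testBit, ← xb_and_right]
    apply xb_congr
    intro i _
    rw [Bool.and_assoc]
  rw [h1, xb_comm]
  apply xb_congr
  intro i _
  rw [xb_and_left, pdot_eq]

/-- if `Mᵀ * D = 1` on the basis then the pairing is invariant -/
theorem pair_of_chk (M D : ℕ → ℕ) (h : ∀ r < 11, tapply M (D r) = 2 ^ r) (c j : ℕ)
    (hc : c < 2048) : pdot 11 (mapply D c) (mapply M j) = pdot 11 c j := by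
  have e : (2 : ℕ) ^ 11 = 2048 := by norm_num
  rw [pdot_mapply]
  have h0 : tapply M (mapply D c) = c := by
    apply Nat.eq_of_testBit_eq
    intro k
    by_cases hk : k < 11
    · rw [tapply_testBit M _ k hk, pdot_mapply_left]
      have h1 : xb (List.range 11) (fun i => c.testBit i && pdot 11 (D i) (M k)) =
          xb (List.range 11) (fun i => decide (i = k) && c.testBit i) := by
        apply xb_congr
        intro i hi
        rw [List.mem_range] at hi
        rw [← tapply_testBit M (D i) k hk, h i hi, Nat.testBit_two_pow, Bool.and_comm]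
      rw [h1, xb_single _ List.nodup_range]
      simp [hk]
    · have h2 : c.testBit k = false := by
        apply Nat.testBit_lt_two_pow
        calc c < 2 ^ 11 := by rw [e]; exact hc
          _ ≤ 2 ^ k := Nat.pow_le_pow_right (by norm_num) (by omega)
      have h3 : (tapply M (mapply D c)).testBit k = false := by
        apply Nat.testBit_lt_two_pow
        calc tapply M (mapply D c) < 2 ^ 11 := by rw [e]; exact bits.2.2.2.2.2.2.1 _ _
          _ ≤ 2 ^ k := Nat.pow_le_pow_right (by norm_num) (by omega)
      rw [h2, h3]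
  rw [h0]

/-! ### the dual tables -/

/-- `mdT a` is the inverse transpose of `mcT a` -/
theorem dual_pair (a : ℕ) (ha : a < 128) (c j : ℕ) (hc : c < 2048) :
    pdot 11 (mapply (mdT a) c) (mapply (mcT a) j) = pdot 11 c j := by
  have hchk := chkDual_ok
  unfold chkDual at hchk
  rw [Bool.and_eq_true] at hchk
  exact pair_of_chk (mcT a) (mdT a)
    (fun r hr => Nat.eq_of_beq_eq_true ((allN_iff _ _).mp ((allN_iff _ _).mp hchk.1 a ha) r hr))
    c j hc

/-- `gdT t` is the inverse transpose of `gcT t` -/
theorem dual_pair_fus (t : ℕ) (ht : t < 3) (c j : ℕ) (hc : c < 2048) :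
    pdot 11 (mapply (gdT t) c) (mapply (gcT t) j) = pdot 11 c j := by
  have hchk := chkDual_ok
  unfold chkDual at hchk
  rw [Bool.and_eq_true] at hchk
  exact pair_of_chk (gcT t) (gdT t)
    (fun r hr => Nat.eq_of_beq_eq_true ((allN_iff _ _).mp ((allN_iff _ _).mp hchk.2 t ht) r hr))
    c j hc

theorem md_gen (a : ℕ) (ha : a < 128) (k : ℕ) (hk : k < 7) (v : ℕ) :
    mapply (mdT a) (mapply (mdT (2 ^ k)) v) = mapply (mdT (mulT a (2 ^ k))) v := by
  have hchk := chkMulDg_ok
  unfold chkMulDg at hchk
  rw [Bool.and_eq_true] at hchk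
  exact mapply_comp _ _ _ (fun i hi => Nat.eq_of_beq_eq_true
    ((allN_iff _ _).mp ((allN_iff _ _).mp ((allN_iff _ _).mp hchk.1 a ha) k hk) i hi)) v

theorem md_zero (v : ℕ) (hv : v < 2048) : mapply (mdT 0) v = v := by
  have hchk := chkMulDg_ok
  unfold chkMulDg at hchk
  rw [Bool.and_eq_true] at hchk
  exact mapply_id _ (fun i hi => Nat.eq_of_beq_eq_true ((allN_iff _ _).mp hchk.2 i hi)) v hv

theorem top_bit : ∀ x < 128, 0 < x → ∃ k < 7, ∃ x' < 2 ^ k, x = x' + 2 ^ k := by decide +kernel

/-- `mdT` is multiplicative -/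
theorem hmulD (hassoc : ∀ a < 128, ∀ b < 128, ∀ c < 128, mulT (mulT a b) c = mulT a (mulT b c)) :
    ∀ a < 128, ∀ x < 128, ∀ v < 2048,
      mapply (mdT a) (mapply (mdT x) v) = mapply (mdT (mulT a x)) v := by
  have key : ∀ x, x < 128 → ∀ a < 128, ∀ v < 2048,
      mapply (mdT a) (mapply (mdT x) v) = mapply (mdT (mulT a x)) v := by
    intro x
    induction x using Nat.strong_induction_on with
    | _ x ih =>
      intro hx a ha v hv
      rcases Nat.eq_zero_or_pos x with rfl | hpos
      · rw [mul_zero_r a ha, md_zero v hv]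
      · obtain ⟨k, hk, x', hx', rfl⟩ := top_bit x hx hpos
        have hx'128 : x' < 128 := by omega
        have hpk : 2 ^ k < 128 := by
          have : 0 < x' + 2 ^ k := hpos
          have h2 : (2 : ℕ) ^ k ≤ x' + 2 ^ k := Nat.le_add_left _ _
          omega
        have e1 : mapply (mdT (x' + 2 ^ k)) v = mapply (mdT x') (mapply (mdT (2 ^ k)) v) := by
          rw [← mul_top k hk x' hx']
          exact (md_gen x' hx'128 k hk v).symm
        have hlt : x' < x' + 2 ^ k := by
          have : 0 < 2 ^ k := Nat.pow_pos (by norm_num)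
          omega
        rw [e1, ih x' hlt hx'128 a ha _ (mapply_lt _ _ (fun i _ => mdT_lt _ i)),
          md_gen (mulT a x') (mul_lt a ha x' hx'128) k hk v, hassoc a ha x' hx'128 (2 ^ k) hpk,
          mul_top k hk x' hx']
  intro a ha x hx v hv
  exact key x hx a ha v hv

end Cfsg.Agent.H88.X23D
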