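import Mathlib
import Cfsg.Agent.H94.Ext23e
import Cfsg.Agent.H88.X23Base

/-!
# S2649: the statement of the extension-side piece (helper88)
-/

set_option autoImplicit false

namespace Cfsg.Agent.H88.X23

open Cfsg Cfsg.Agent.H9 Cfsg.Agent.H94

universe u

/-- PIECE `X23-ESIDE`: from correct data for a subgroup `P = {elt gen e | e < 128}` of `M₂₃` of
order 128 and three fusion elements, and the combinatorial core for these data, every extension of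
`M₂₃` by the code module `C0` splits (statement of S2649). -/
def StESide : Prop :=
  ∀ (gen fus : ℕ → ↥Spor.M23) (MUL : ℕ → ℕ → ℕ) (MC GC : ℕ → ℕ → ℕ) (RL : ℕ → List ℕ)
    (cj : ℕ → ℕ → ℕ),
    (∀ a < 128, ∀ b < 128, MUL a b < 128 ∧ elt gen a * elt gen b = elt gen (MUL a b)) →
    (∀ a < 128, ∀ b < 128, elt gen a = elt gen b → a = b) →
    (∀ a < 128, ∀ i < 11, MC a i < 2048) →
    (∀ t < 3, ∀ i < 11, GC t i < 2048) →
    (∀ a < 128, ∀ j < 2048, act (elt gen a) (cwC j) = cwC (mapply (MC a) j)) →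
    (∀ t < 3, ∀ j < 2048, act (fus t) (cwC j) = cwC (mapply (GC t) j)) →
    (∀ t < 3, ∀ r ∈ RL t, r < 128 ∧ cj t r < 128 ∧ fus t * elt gen r = elt gen (cj t r) * fus t) →
    (∀ t < 3, ∀ r1 ∈ RL t, ∀ r2 ∈ RL t, MUL r1 r2 ∈ RL t) →
    (∀ (F : ℕ → ℕ → ℕ) (W : ℕ → ℕ → ℕ), CoreHyp MUL MC GC RL cj F W → CoreConcl MUL MC F) →
    ∀ {E : Type u} [Group E] [Finite E] (N : Subgroup E) [hN : N.Normal]
      (φ : E ⧸ N ≃* ↥Cfsg.Spor.M23)
      (ψ : Additive ↥N →+ (Cfsg.GolayPt → ZMod 2)), Function.Injective ψ →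
      (∀ w : Cfsg.GolayPt → ZMod 2, w ∈ Set.range ψ ↔ (w ∈ Cfsg.golayCode ∧ w none = 0)) →
      (∀ (g : E) (n : ↥N),
        ψ (Additive.ofMul ⟨g * n * g⁻¹, hN.conj_mem n n.2 g⟩)
          = ψ (Additive.ofMul n) ∘
            ⇑(((φ (QuotientGroup.mk g) : ↥Cfsg.Spor.M23) : Equiv.Perm Cfsg.GolayPt)⁻¹)) →
      ∃ H : Subgroup E, H ⊓ N = ⊥ ∧ H ⊔ N = ⊤

end Cfsg.Agent.H88.X23
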