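import Mathlib
import Cfsg.Agent.H94.X23ESide

/-!
# S2651: the Gaschütz step (helper88; extracted from helper94's `eside` in `H94/X23ESide.lean`)

A complement of the abelian normal 2-subgroup `N` over a subgroup of order 128 of `M₂₃` gives a
complement of `N`.
-/

set_option autoImplicit false

namespace Cfsg.Agent.H88.X23L

open Cfsg Cfsg.Agent.H88.X23 Cfsg.Agent.H94 Cfsg.Agent.H94.X23

theorem gasch_step {E : Type*} [Group E] [Finite E] (N : Subgroup E) [hN : N.Normal]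
    (π : E →* ↥Spor.M23) (hker : ∀ x, x ∈ N ↔ π x = 1) (hsurj : Function.Surjective π)
    (gen : ℕ → ↥Spor.M23) (h2 : ∀ a < 128, ∀ b < 128, elt gen a = elt gen b → a = b)
    (hNc : ∀ x ∈ N, ∀ y ∈ N, x * y = y * x) (hN2 : ∀ x ∈ N, x * x = 1)
    (A : Subgroup E) (hA1 : A ⊓ N = ⊥) (hA2 : ∀ x ∈ A, ∃ e < 128, π x = elt gen e)
    (hA3 : ∀ e < 128, ∃ x ∈ A, π x = elt gen e) :
    ∃ H : Subgroup E, H ⊓ N = ⊥ ∧ H ⊔ N = ⊤ := by
  classical
  haveI : IsMulCommutative ↥N := ⟨⟨fun a b => Subtype.ext (hNc a a.2 b b.2)⟩⟩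
  have hNp : IsPGroup 2 ↥N := by
    intro n
    refine ⟨1, ?_⟩
    rw [pow_one, pow_two]
    exact Subtype.ext (hN2 n n.2)
  haveI : Fact (Nat.Prime 2) := ⟨Nat.prime_two⟩
  obtain ⟨k, hk⟩ := IsPGroup.iff_card.1 hNp
  have hkerπ : π.ker = N := by
    ext x
    rw [MonoidHom.mem_ker, hker]
  have hidx : (N ⊔ A).index = (A.map π).index := by
    rw [sup_comm, ← hkerπ, ← Subgroup.comap_map_eq, Subgroup.index_comap_of_surjective _ hsurj]
  have hmemP : ∀ y : ↥Spor.M23, y ∈ A.map π ↔ ∃ e < 128, y = elt gen e := by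
    intro y
    constructor
    · rintro ⟨x, hx, rfl⟩
      obtain ⟨e, he, h⟩ := hA2 x hx
      exact ⟨e, he, h⟩
    · rintro ⟨e, he, rfl⟩
      obtain ⟨x, hx, h⟩ := hA3 e he
      exact ⟨x, hx, h⟩
  have hcardP : Nat.card ↥(A.map π) = 128 := by
    have hb : Function.Bijective
        (fun e : Fin 128 => (⟨elt gen e.1, (hmemP _).2 ⟨e.1, e.2, rfl⟩⟩ : ↥(A.map π))) := by
      constructor
      · intro a b hab
        exact Fin.ext (h2 a.1 a.2 b.1 b.2 (congrArg Subtype.val hab))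
      · rintro ⟨y, hy⟩
        obtain ⟨e, he, rfl⟩ := (hmemP y).1 hy
        exact ⟨⟨e, he⟩, rfl⟩
    rw [← Nat.card_eq_of_bijective _ hb, Nat.card_eq_fintype_card, Fintype.card_fin]
  have hindex : (A.map π).index = 79695 := by
    have h := Subgroup.index_mul_card (A.map π)
    rw [hcardP, card_sporM23'] at h
    omega
  have hcop : (Nat.card ↥N).Coprime (N ⊔ A).index := by
    rw [hk, hidx, hindex]
    exact Nat.Coprime.pow_left k (by norm_num)
  obtain ⟨H, hH⟩ := Cfsg.Agent.H1.gaschutz_exists N (N ⊔ A) le_sup_left hcop A le_sup_right hA1 rfl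
  refine ⟨H, ?_, ?_⟩
  · rw [inf_comm]
    exact hH.disjoint.eq_bot
  · rw [sup_comm]
    exact hH.sup_eq_top

end Cfsg.Agent.H88.X23L
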