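import Mathlib
import Cfsg.Agent.H94.X23ESide

/-!
# S2651: the extension side for given lifts (helper88; refactored from helper94's `exists_compl_P`
and `eside` in `H94/X23ESide.lean`)

* `Fof`, `Wof`: the cocycle and the stability witnesses of given lifts of the generators and of
  the fusion elements;
* `lift_step`: they satisfy `CoreHyp`, and if the cocycle is a coboundary there is a complement
  over `P`;
* `gasch_step`: a complement over `P` gives a complement (Gaschütz).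
-/

set_option autoImplicit false

namespace Cfsg.Agent.H88.X23L

open Cfsg Cfsg.Agent.H88.X23 Cfsg.Agent.H94.X23

universe u

/-- the cocycle of the section `e ↦ elt gh e` -/
def Fof {E : Type*} [Group E] (code : E → ℕ) (MUL : ℕ → ℕ → ℕ) (gh : ℕ → E) (a b : ℕ) : ℕ :=
  code (elt gh a * elt gh b * (elt gh (MUL a b))⁻¹)

/-- the stability witnesses of the lifts `γ` of the fusion elements -/
def Wof {E : Type*} [Group E] (code : E → ℕ) (cj : ℕ → ℕ → ℕ) (gh γ : ℕ → E) (t r : ℕ) : ℕ :=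
  code (γ t * elt gh r * (γ t)⁻¹ * (elt gh (cj t r))⁻¹)

theorem lift_step {E : Type*} [Group E] [Finite E] {M : Type*} [Group M]
    (N : Subgroup E) [hN : N.Normal] (π : E →* M) (hker : ∀ x, x ∈ N ↔ π x = 1)
    (gen fus : ℕ → M) (MUL : ℕ → ℕ → ℕ) (MC GC : ℕ → ℕ → ℕ) (RL : ℕ → List ℕ) (cj : ℕ → ℕ → ℕ)
    (h1 : ∀ a < 128, ∀ b < 128, MUL a b < 128 ∧ elt gen a * elt gen b = elt gen (MUL a b))
    (h2 : ∀ a < 128, ∀ b < 128, elt gen a = elt gen b → a = b)
    (h7 : ∀ t < 3, ∀ r ∈ RL t,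
      r < 128 ∧ cj t r < 128 ∧ fus t * elt gen r = elt gen (cj t r) * fus t)
    (h8 : ∀ t < 3, ∀ r1 ∈ RL t, ∀ r2 ∈ RL t, MUL r1 r2 ∈ RL t)
    (code : E → ℕ)
    (k1 : ∀ x, code x < 2048)
    (k2 : ∀ x ∈ N, ∀ y ∈ N, code (x * y) = code x ^^^ code y)
    (k3 : ∀ x ∈ N, ∀ y ∈ N, code x = code y → x = y)
    (k4 : ∀ c < 2048, ∃ x ∈ N, code x = c)
    (k5 : ∀ a < 128, ∀ g, π g = elt gen a → ∀ x ∈ N,
      code (g * x * g⁻¹) = mapply (MC a) (code x))
    (k6 : ∀ t < 3, ∀ g, π g = fus t → ∀ x ∈ N, code (g * x * g⁻¹) = mapply (GC t) (code x))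
    (gh γ : ℕ → E) (hgh : ∀ i, π (gh i) = gen i) (hγ : ∀ t, π (γ t) = fus t) :
    CoreHyp MUL MC GC RL cj (Fof code MUL gh) (Wof code cj gh γ) ∧
    (CoreConcl MUL MC (Fof code MUL gh) →
      ∃ A : Subgroup E, A ⊓ N = ⊥ ∧ (∀ x ∈ A, ∃ e < 128, π x = elt gen e) ∧
        (∀ e < 128, ∃ x ∈ A, π x = elt gen e)) := by
  classical
  obtain ⟨s, hs⟩ : ∃ s : ℕ → E, ∀ e, s e = elt gh e := ⟨_, fun _ => rfl⟩
  have hπs : ∀ e, π (s e) = elt gen e := by
    intro e
    rw [hs, map_elt]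
    congr 1
    funext i
    exact hgh i
  have hs0 : s 0 = 1 := by rw [hs, elt_zero]
  have hg0 : elt gen 0 = 1 := elt_zero gen
  have hM : ∀ a < 128, ∀ b < 128, MUL a b < 128 := fun a ha b hb => (h1 a ha b hb).1
  have hMe : ∀ a < 128, ∀ b < 128, elt gen a * elt gen b = elt gen (MUL a b) :=
    fun a ha b hb => (h1 a ha b hb).2
  have hM00 : MUL 0 0 = 0 := by
    apply h2 _ (hM 0 (by norm_num) 0 (by norm_num)) 0 (by norm_num)
    rw [← hMe 0 (by norm_num) 0 (by norm_num), hg0, one_mul]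
  have hpow : ∀ k < 7, ∀ a < 2 ^ k, 2 ^ k < 128 ∧ a < 128 ∧ a + 2 ^ k < 128 := by
    intro k hk a ha
    have h6 : 2 ^ k ≤ 2 ^ 6 := Nat.pow_le_pow_right (by norm_num) (by omega)
    norm_num at h6
    omega
  have hMpow : ∀ k < 7, ∀ a < 2 ^ k, MUL a (2 ^ k) = a + 2 ^ k := by
    intro k hk a ha
    obtain ⟨hk2, ha2, hak⟩ := hpow k hk a ha
    apply h2 _ (hM a ha2 _ hk2) _ hak
    rw [← hMe a ha2 _ hk2, elt_add_pow gen k a hk ha, elt_pow gen k hk]
  have hMassoc : ∀ a < 128, ∀ b < 128, ∀ c < 128, MUL (MUL a b) c = MUL a (MUL b c) := by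
    intro a ha b hb c hc
    apply h2 _ (hM _ (hM a ha b hb) c hc) _ (hM a ha _ (hM b hb c hc))
    rw [← hMe _ (hM a ha b hb) c hc, ← hMe a ha b hb, ← hMe a ha _ (hM b hb c hc),
      ← hMe b hb c hc, mul_assoc]
  obtain ⟨nn, hnn⟩ : ∃ nn : ℕ → ℕ → E, ∀ a b, nn a b = s a * s b * (s (MUL a b))⁻¹ :=
    ⟨_, fun _ _ => rfl⟩
  have hnnN : ∀ a < 128, ∀ b < 128, nn a b ∈ N := by
    intro a ha b hb
    rw [hker, hnn, map_mul, map_mul, map_inv, hπs, hπs, hπs, hMe a ha b hb, mul_inv_cancel]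
  obtain ⟨F, hF⟩ : ∃ F : ℕ → ℕ → ℕ, ∀ a b, F a b = code (nn a b) := ⟨_, fun _ _ => rfl⟩
  have hFof : Fof code MUL gh = F := by
    funext a b
    rw [hF, hnn, hs, hs, hs]
    rfl
  obtain ⟨ww, hww⟩ : ∃ ww : ℕ → ℕ → E,
      ∀ t r, ww t r = γ t * s r * (γ t)⁻¹ * (s (cj t r))⁻¹ := ⟨_, fun _ _ => rfl⟩
  have hwwN : ∀ t < 3, ∀ r ∈ RL t, ww t r ∈ N := by
    intro t ht r hr
    obtain ⟨hr1, hr2, hr3⟩ := h7 t ht r hr
    rw [hker, hww, map_mul, map_mul, map_mul, map_inv, map_inv, hπs, hπs, hγ, hr3]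
    group
  obtain ⟨W, hW⟩ : ∃ W : ℕ → ℕ → ℕ, ∀ t r, W t r = code (ww t r) := ⟨_, fun _ _ => rfl⟩
  have hWof : Wof code cj gh γ = W := by
    funext t r
    rw [hW, hww, hs, hs]
    rfl
  have code_one : code 1 = 0 := by
    have h := k2 1 (one_mem N) 1 (one_mem N)
    rw [mul_one, Nat.xor_self] at h
    exact h
  have hcore : CoreHyp MUL MC GC RL cj F W := by
    refine ⟨fun a b => by rw [hF]; exact k1 _, fun t r => by rw [hW]; exact k1 _, ?_, ?_, ?_, ?_⟩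
    · have h : nn 0 0 = 1 := by
        rw [hnn, hM00, hs0]
        group
      rw [hF, h, code_one]
    · intro k hk a ha
      have h : nn a (2 ^ k) = 1 := by
        rw [hnn, hMpow k hk a ha, hs, hs, hs, elt_add_pow gh k a hk ha, elt_pow gh k hk]
        group
      rw [hF, h, code_one]
    · intro a ha b hb c hc
      have e : nn a b * nn (MUL a b) c = (s a * nn b c * (s a)⁻¹) * nn a (MUL b c) := by
        rw [hnn, hnn, hnn, hnn, hMassoc a ha b hb c hc]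
        group
      have e1 := congrArg code e
      rw [k2 _ (hnnN a ha b hb) _ (hnnN _ (hM a ha b hb) c hc),
        k2 _ (hN.conj_mem _ (hnnN b hb c hc) (s a)) _ (hnnN a ha _ (hM b hb c hc)),
        k5 a ha (s a) (hπs a) _ (hnnN b hb c hc)] at e1
      rw [hF, hF, hF, hF]
      exact e1.symm
    · intro t ht r1 hr1 r2 hr2
      obtain ⟨hr1a, hc1, e1⟩ := h7 t ht r1 hr1
      obtain ⟨hr2a, hc2, e2⟩ := h7 t ht r2 hr2
      have hr12 := h8 t ht r1 hr1 r2 hr2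
      obtain ⟨hr12a, hc12, e12⟩ := h7 t ht _ hr12
      have hcj : cj t (MUL r1 r2) = MUL (cj t r1) (cj t r2) := by
        apply h2 _ hc12 _ (hM _ hc1 _ hc2)
        rw [← hMe _ hc1 _ hc2]
        have a1 : elt gen (cj t r1) = fus t * elt gen r1 * (fus t)⁻¹ := by
          rw [e1]
          group
        have a2 : elt gen (cj t r2) = fus t * elt gen r2 * (fus t)⁻¹ := by
          rw [e2]
          group
        have a12 : elt gen (cj t (MUL r1 r2)) = fus t * elt gen (MUL r1 r2) * (fus t)⁻¹ := by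
          rw [e12]
          group
        rw [a1, a2, a12, ← hMe r1 hr1a r2 hr2a]
        group
      have e : ww t r1 * (s (cj t r1) * ww t r2 * (s (cj t r1))⁻¹) * nn (cj t r1) (cj t r2)
          = (γ t * nn r1 r2 * (γ t)⁻¹) * ww t (MUL r1 r2) := by
        rw [hww, hww, hww, hnn, hnn, hcj]
        group
      have e' := congrArg code e
      rw [k2 _ (N.mul_mem (hwwN t ht r1 hr1) (hN.conj_mem _ (hwwN t ht r2 hr2) _)) _
          (hnnN _ hc1 _ hc2),
        k2 _ (hwwN t ht r1 hr1) _ (hN.conj_mem _ (hwwN t ht r2 hr2) _),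
        k5 _ hc1 _ (hπs _) _ (hwwN t ht r2 hr2),
        k2 _ (hN.conj_mem _ (hnnN r1 hr1a r2 hr2a) _) _ (hwwN t ht _ hr12),
        k6 t ht _ (hγ t) _ (hnnN r1 hr1a r2 hr2a)] at e'
      rw [hF, hF, hW, hW, hW]
      exact xor_rearr e'
  rw [hFof, hWof]
  refine ⟨hcore, fun hconcl => ?_⟩
  obtain ⟨U, hU, hFU⟩ := hconcl
  choose ν hνN hνc using fun e => k4 (U e) (hU e)
  obtain ⟨σ, hσ⟩ : ∃ σ : ℕ → E, ∀ e, σ e = ν e * s e := ⟨_, fun _ => rfl⟩
  have hπσ : ∀ e, π (σ e) = elt gen e := by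
    intro e
    rw [hσ, map_mul, (hker _).1 (hνN e), one_mul, hπs]
  have hσmul : ∀ a < 128, ∀ b < 128, σ a * σ b = σ (MUL a b) := by
    intro a ha b hb
    have hx1 : ν a * (s a * ν b * (s a)⁻¹) ∈ N := N.mul_mem (hνN a) (hN.conj_mem _ (hνN b) _)
    have e : ν a * (s a * ν b * (s a)⁻¹) * nn a b = ν (MUL a b) := by
      apply k3 _ (N.mul_mem hx1 (hnnN a ha b hb)) _ (hνN _)
      rw [k2 _ hx1 _ (hnnN a ha b hb), k2 _ (hνN a) _ (hN.conj_mem _ (hνN b) _),
        k5 a ha _ (hπs a) _ (hνN b), hνc, hνc, hνc]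
      have h := hFU a ha b hb
      rw [hF] at h
      rw [h]
      exact xor_cancel3 _ _
    rw [hσ, hσ, hσ, ← e, hnn]
    group
  have hσ0 : σ 0 = 1 := by
    have h := hσmul 0 (by norm_num) 0 (by norm_num)
    rw [hM00] at h
    exact mul_eq_left.1 h
  let A : Subgroup E :=
    { carrier := {x | ∃ e < 128, x = σ e}
      mul_mem' := by
        rintro x y ⟨a, ha, rfl⟩ ⟨b, hb, rfl⟩
        exact ⟨MUL a b, hM a ha b hb, hσmul a ha b hb⟩
      one_mem' := ⟨0, by norm_num, hσ0.symm⟩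
      inv_mem' := by
        rintro x ⟨a, ha, rfl⟩
        have hp : ∀ j : ℕ, ∃ e < 128, (σ a) ^ j = σ e := by
          intro j
          induction j with
          | zero => exact ⟨0, by norm_num, by rw [pow_zero, hσ0]⟩
          | succ j ih =>
            obtain ⟨e, he, h⟩ := ih
            exact ⟨MUL e a, hM e he a ha, by rw [pow_succ, h, hσmul e he a ha]⟩
        obtain ⟨e, he, h⟩ := hp (orderOf (σ a) - 1)
        refine ⟨e, he, ?_⟩
        rw [← h]
        apply inv_eq_of_mul_eq_one_right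
        rw [← pow_succ', Nat.sub_add_cancel (orderOf_pos _), pow_orderOf_eq_one] }
  refine ⟨A, ?_, ?_, ?_⟩
  · rw [eq_bot_iff]
    intro x hx
    obtain ⟨⟨e, he, rfl⟩, hxN⟩ := Subgroup.mem_inf.1 hx
    rw [Subgroup.mem_bot]
    have h : elt gen e = elt gen 0 := by rw [← hπσ, (hker _).1 hxN, hg0]
    have he0 := h2 e he 0 (by norm_num) h
    rw [he0, hσ0]
  · rintro x ⟨e, he, rfl⟩
    exact ⟨e, he, hπσ e⟩
  · intro e he
    exact ⟨σ e, ⟨e, he, rfl⟩, hπσ e⟩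

end Cfsg.Agent.H88.X23L
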