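import Mathlib
import Cfsg.Agent.H94.Ext23e
import Cfsg.Agent.H88.X23Base

/-!
# S2651: the dual code of a word, and the statement of the piece `X23-DCODE` (helper88)
-/

set_option autoImplicit false

namespace Cfsg.Agent.H88.X23D

open Cfsg Cfsg.Agent.H9 Cfsg.Agent.H94 Cfsg.Agent.H88.X23

/-- the dual code of a word `w`: bit `i < 11` is the pairing `∑ p, w p * (cwC (2^i)) p` of `w` with
the basis word `cwC (2^i)` of the code module `C0` -/
noncomputable def dcode (w : GolayPt → ZMod 2) : ℕ :=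
  (List.range 11).foldr
    (fun i acc => (if decide (dotf w (cwC (2 ^ i)) = 1) then 2 ^ i else 0) ^^^ acc) 0

/-- PIECE `X23-DCODE`: the dual code identifies the words modulo `golayCode + ⟨e_none⟩` with the
11-bit codes, and a permutation of `M₂₃` whose matrix on `C0` is `Mc` acts on dual codes by any
matrix `Md` that is inverse transpose to `Mc`. -/
def StDcode : Prop :=
  (∀ w : GolayPt → ZMod 2, dcode w < 2048) ∧
  (∀ v w : GolayPt → ZMod 2, dcode (v + w) = dcode v ^^^ dcode w) ∧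
  (∀ w : GolayPt → ZMod 2, dcode w = 0 ↔ (w ∈ golayCode ∨ w + Pi.single none 1 ∈ golayCode)) ∧
  (∀ c < 2048, ∃ w : GolayPt → ZMod 2, dcode w = c) ∧
  (∀ (σ : ↥Spor.M23) (Mc Md : ℕ → ℕ),
    (∀ j < 2048, act σ (cwC j) = cwC (mapply Mc j)) →
    (∀ c < 2048, ∀ j, pdot 11 (mapply Md c) (mapply Mc j) = pdot 11 c j) →
    (∀ i < 11, Md i < 2048) →
    ∀ w : GolayPt → ZMod 2,
      dcode (w ∘ ⇑((σ : Equiv.Perm GolayPt)⁻¹)) = mapply Md (dcode w))

end Cfsg.Agent.H88.X23D
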