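import Mathlib
import Cfsg.Agent.H94.Ext23e
import Cfsg.Agent.H88.X23Base
import Cfsg.Agent.H88.X23Data

/-!
# S2649: the statement that the generated data are correct (helper88)
-/

set_option autoImplicit false

namespace Cfsg.Agent.H88.X23

open Cfsg Cfsg.Agent.H9 Cfsg.Agent.H94

/-- PIECE `X23-REP`: the tables describe a subgroup of order 128 of `M₂₃`, its action on the code
module and three fusion elements (the first eight items are the hypotheses of `StESide`). -/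
def StRep : Prop :=
  ∃ (gen fus : ℕ → ↥Spor.M23),
    (∀ a < 128, ∀ b < 128, mulT a b < 128 ∧ elt gen a * elt gen b = elt gen (mulT a b)) ∧
    (∀ a < 128, ∀ b < 128, elt gen a = elt gen b → a = b) ∧
    (∀ a < 128, ∀ i < 11, mcT a i < 2048) ∧
    (∀ t < 3, ∀ i < 11, gcT t i < 2048) ∧
    (∀ a < 128, ∀ j < 2048, act (elt gen a) (cwC j) = cwC (mapply (mcT a) j)) ∧
    (∀ t < 3, ∀ j < 2048, act (fus t) (cwC j) = cwC (mapply (gcT t) j)) ∧
    (∀ t < 3, ∀ r ∈ RLd t,
      r < 128 ∧ cjT t r < 128 ∧ fus t * elt gen r = elt gen (cjT t r) * fus t) ∧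
    (∀ t < 3, ∀ r1 ∈ RLd t, ∀ r2 ∈ RLd t, mulT r1 r2 ∈ RLd t) ∧
    (∀ a < 128, ∀ b < 128, ∀ c < 128, mulT (mulT a b) c = mulT a (mulT b c)) ∧
    (∀ a < 128, ∀ x < 128, ∀ v < 2048,
      mapply (mcT a) (mapply (mcT x) v) = mapply (mcT (mulT a x)) v)

end Cfsg.Agent.H88.X23
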