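import Mathlib
import Cfsg.Agent.H88.X23DTab
import Cfsg.Agent.H88.BaerCode
import Cfsg.Agent.H88.X23Lift
import Cfsg.Agent.H88.X23Gasch
import Cfsg.Agent.H16.X23Phi
import Cfsg.Agent.H89.X23Fin
import Cfsg.Agent.H94.X23Rep
import Cfsg.Agent.H94.X23DTheta

/-!
# S2651: assembly (helper88)

Two non-split extensions of `M₂₃` by the cocode module are isomorphic: their Baer difference has a
cocycle on `P` killed by `lam`, hence splits.
-/

set_option autoImplicit false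

namespace Cfsg.Agent.H88.X23D

open Cfsg Cfsg.Agent.H9 Cfsg.Agent.H94 Cfsg.Agent.H88.X23 Cfsg.Agent.H88.X23L Cfsg.Agent.H88.Baer
  Cfsg.Agent.H94.X23

universe u v

/-- an extension whose cocycle on `P` is killed by `lam` splits -/
theorem split_of_lam {E : Type u} [Group E] [Finite E] (π : E →* ↥Spor.M23)
    (hsurjπ : Function.Surjective π) (gen fus : ℕ → ↥Spor.M23)
    (h1 : ∀ a < 128, ∀ b < 128, mulT a b < 128 ∧ elt gen a * elt gen b = elt gen (mulT a b))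
    (h2 : ∀ a < 128, ∀ b < 128, elt gen a = elt gen b → a = b)
    (h7 : ∀ t < 3, ∀ r ∈ RLd t,
      r < 128 ∧ cjT t r < 128 ∧ fus t * elt gen r = elt gen (cjT t r) * fus t)
    (h8 : ∀ t < 3, ∀ r1 ∈ RLd t, ∀ r2 ∈ RLd t, mulT r1 r2 ∈ RLd t)
    (hassoc : ∀ a < 128, ∀ b < 128, ∀ c < 128, mulT (mulT a b) c = mulT a (mulT b c))
    (code : E → ℕ)
    (k1 : ∀ x, code x < 2048)
    (k2 : ∀ x ∈ π.ker, ∀ y ∈ π.ker, code (x * y) = code x ^^^ code y)
    (k3 : ∀ x ∈ π.ker, ∀ y ∈ π.ker, code x = code y → x = y)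
    (k4 : ∀ c < 2048, ∃ x ∈ π.ker, code x = c)
    (k5 : ∀ a < 128, ∀ g, π g = elt gen a → ∀ x ∈ π.ker,
      code (g * x * g⁻¹) = mapply (mdT a) (code x))
    (k6 : ∀ t < 3, ∀ g, π g = fus t → ∀ x ∈ π.ker, code (g * x * g⁻¹) = mapply (gdT t) (code x))
    (gh γ : ℕ → E) (hgh : ∀ i, π (gh i) = gen i) (hγ : ∀ t, π (γ t) = fus t)
    (hl : lam (Fof code mulT gh) = false) :
    ∃ H : Subgroup E, H ⊓ π.ker = ⊥ ∧ H ⊔ π.ker = ⊤ := by
  have hker : ∀ x, x ∈ π.ker ↔ π x = 1 := fun x => MonoidHom.mem_ker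
  obtain ⟨hyp, hcompl⟩ := lift_step π.ker π hker gen fus mulT mdT gdT RLd cjT h1 h2 h7 h8 code
    k1 k2 k3 k4 k5 k6 gh γ hgh hγ
  have hconcl := core2 Cfsg.Agent.H16.X23.phi Cfsg.Agent.H89.X23.final vals hassoc
    (hmulD hassoc) _ _ hyp hl
  obtain ⟨A, hA1, hA2, hA3⟩ := hcompl hconcl
  have code_one : code 1 = 0 := by
    have h := k2 1 (one_mem _) 1 (one_mem _)
    rw [mul_one, Nat.xor_self] at h
    exact h
  have hNc : ∀ x ∈ π.ker, ∀ y ∈ π.ker, x * y = y * x := by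
    intro x hx y hy
    apply k3 _ (mul_mem hx hy) _ (mul_mem hy hx)
    rw [k2 x hx y hy, k2 y hy x hx, Nat.xor_comm]
  have hN2 : ∀ x ∈ π.ker, x * x = 1 := by
    intro x hx
    apply k3 _ (mul_mem hx hx) _ (one_mem _)
    rw [k2 x hx x hx, Nat.xor_self, code_one]
  exact gasch_step π.ker π hker hsurjπ gen h2 hNc hN2 A hA1 hA2 hA3

/-- the projection and the code of an extension as in S2651 -/
theorem ext_setup {E : Type u} [Group E] [Finite E] (N : Subgroup E) [hN : N.Normal]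
    (φ : E ⧸ N ≃* ↥Cfsg.Spor.M23) (θ : (Cfsg.GolayPt → ZMod 2) →+ Additive ↥N)
    (hsurj : Function.Surjective θ)
    (hker : ∀ w : Cfsg.GolayPt → ZMod 2,
      θ w = 0 ↔ (w ∈ Cfsg.golayCode ∨ w + Pi.single none 1 ∈ Cfsg.golayCode))
    (hθ : ∀ (g : E) (w : Cfsg.GolayPt → ZMod 2),
      ((θ (w ∘ ⇑(((φ (QuotientGroup.mk g) : ↥Cfsg.Spor.M23) : Equiv.Perm Cfsg.GolayPt)⁻¹))).toMul : E)
        = g * ((θ w).toMul : E) * g⁻¹)
    (gen fus : ℕ → ↥Spor.M23)
    (h5 : ∀ a < 128, ∀ j < 2048, act (elt gen a) (cwC j) = cwC (mapply (mcT a) j))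
    (h6 : ∀ t < 3, ∀ j < 2048, act (fus t) (cwC j) = cwC (mapply (gcT t) j)) :
    ∃ (π : E →* ↥Spor.M23) (code : E → ℕ),
      Function.Surjective π ∧ π.ker = N ∧ (∀ g, π g = φ (QuotientGroup.mk g)) ∧
      (∀ x, code x < 2048) ∧
      (∀ w : GolayPt → ZMod 2, code ((θ w).toMul : E) = dcode w) ∧
      (∀ x ∈ π.ker, ∀ y ∈ π.ker, code (x * y) = code x ^^^ code y) ∧
      (∀ x ∈ π.ker, ∀ y ∈ π.ker, code x = code y → x = y) ∧
      (∀ c < 2048, ∃ x ∈ π.ker, code x = c) ∧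
      (∀ a < 128, ∀ g, π g = elt gen a → ∀ x ∈ π.ker,
        code (g * x * g⁻¹) = mapply (mdT a) (code x)) ∧
      (∀ t < 3, ∀ g, π g = fus t → ∀ x ∈ π.ker,
        code (g * x * g⁻¹) = mapply (gdT t) (code x)) := by
  let π : E →* ↥Spor.M23 := φ.toMonoidHom.comp (QuotientGroup.mk' N)
  have hπ : ∀ g, π g = φ (QuotientGroup.mk g) := fun g => rfl
  have hkerπ : π.ker = N := by
    ext x
    rw [MonoidHom.mem_ker, hπ, ← QuotientGroup.eq_one_iff (N := N) x]
    constructor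
    · intro h
      exact φ.injective (by rw [h, map_one])
    · intro h
      rw [h, map_one]
  have hsurjπ : Function.Surjective π := by
    intro m
    obtain ⟨q, rfl⟩ := φ.surjective m
    obtain ⟨g, rfl⟩ := QuotientGroup.mk_surjective q
    exact ⟨g, rfl⟩
  obtain ⟨code, c1, c2, c3, c4, c5, c6⟩ := Cfsg.Agent.H94.X23D.theta_code N φ θ hsurj hker hθ
  refine ⟨π, code, hsurjπ, hkerπ, hπ, c1, c2, ?_, ?_, ?_, ?_, ?_⟩
  · rw [hkerπ]; exact c3
  · rw [hkerπ]; exact c4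
  · rw [hkerπ]; exact c5
  · intro a ha g hg x hx
    rw [hkerπ] at hx
    exact c6 (elt gen a) (mcT a) (mdT a) (h5 a ha) (fun c hc j => dual_pair a ha c j hc)
      (fun i _ => mdT_lt a i) g hg x hx
  · intro t ht g hg x hx
    rw [hkerπ] at hx
    exact c6 (fus t) (gcT t) (gdT t) (h6 t ht) (fun c hc j => dual_pair_fus t ht c j hc)
      (fun i _ => gdT_lt t i) g hg x hx

/-- the non-split extension of `M₂₃` by the cocode module is unique -/
theorem uniq {E : Type u} [Group E] [Finite E] (N : Subgroup E) [hN : N.Normal]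
    (φ : E ⧸ N ≃* ↥Cfsg.Spor.M23) (θ : (Cfsg.GolayPt → ZMod 2) →+ Additive ↥N)
    (hsurj : Function.Surjective θ)
    (hker : ∀ w : Cfsg.GolayPt → ZMod 2,
      θ w = 0 ↔ (w ∈ Cfsg.golayCode ∨ w + Pi.single none 1 ∈ Cfsg.golayCode))
    (hθ : ∀ (g : E) (w : Cfsg.GolayPt → ZMod 2),
      ((θ (w ∘ ⇑(((φ (QuotientGroup.mk g) : ↥Cfsg.Spor.M23) : Equiv.Perm Cfsg.GolayPt)⁻¹))).toMul : E)
        = g * ((θ w).toMul : E) * g⁻¹)
    (hns : ∀ H : Subgroup E, H ⊓ N = ⊥ → H ⊔ N ≠ ⊤)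
    {E' : Type v} [Group E'] [Finite E'] (N' : Subgroup E') [hN' : N'.Normal]
    (φ' : E' ⧸ N' ≃* ↥Cfsg.Spor.M23) (θ' : (Cfsg.GolayPt → ZMod 2) →+ Additive ↥N')
    (hsurj' : Function.Surjective θ')
    (hker' : ∀ w : Cfsg.GolayPt → ZMod 2,
      θ' w = 0 ↔ (w ∈ Cfsg.golayCode ∨ w + Pi.single none 1 ∈ Cfsg.golayCode))
    (hθ' : ∀ (g : E') (w : Cfsg.GolayPt → ZMod 2),
      ((θ' (w ∘ ⇑(((φ' (QuotientGroup.mk g) : ↥Cfsg.Spor.M23) : Equiv.Perm Cfsg.GolayPt)⁻¹))).toMul : E')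
        = g * ((θ' w).toMul : E') * g⁻¹)
    (hns' : ∀ H : Subgroup E', H ⊓ N' = ⊥ → H ⊔ N' ≠ ⊤) :
    Nonempty (E ≃* E') := by
  obtain ⟨gen, fus, h1, h2, h3, h4, h5, h6, h7, h8, hassoc, hmul⟩ := Cfsg.Agent.H94.X23.rep
  obtain ⟨π, code, hπs, hπk, hπφ, k1, kθ, k2, k3, k4, k5, k6⟩ :=
    ext_setup N φ θ hsurj hker hθ gen fus h5 h6
  obtain ⟨π', code', hπs', hπk', hπφ', k1', kθ', k2', k3', k4', k5', k6'⟩ :=
    ext_setup N' φ' θ' hsurj' hker' hθ' gen fus h5 h6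
  -- lifts
  choose gh hgh using fun i => hπs (gen i)
  choose γ hγ using fun t => hπs (fus t)
  choose gh' hgh' using fun i => hπs' (gen i)
  choose γ' hγ' using fun t => hπs' (fus t)
  -- both cocycles are detected by `lam`
  have hlam : lam (Fof code mulT gh) = true := by
    by_contra hne
    obtain ⟨H, hH1, hH2⟩ := split_of_lam π hπs gen fus h1 h2 h7 h8 hassoc code k1 k2 k3 k4 k5 k6
      gh γ hgh hγ (by simpa using hne)
    rw [hπk] at hH1 hH2
    exact hns H hH1 hH2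
  have hlam' : lam (Fof code' mulT gh') = true := by
    by_contra hne
    obtain ⟨H, hH1, hH2⟩ := split_of_lam π' hπs' gen fus h1 h2 h7 h8 hassoc code' k1' k2' k3' k4'
      k5' k6' gh' γ' hgh' hγ' (by simpa using hne)
    rw [hπk'] at hH1 hH2
    exact hns' H hH1 hH2
  -- the identification of the kernels
  have ht : ∀ w, ((θ w).toMul : E) ∈ π.ker := fun w => by rw [hπk]; exact (θ w).toMul.2
  have ht' : ∀ w, ((θ' w).toMul : E') ∈ π'.ker := fun w => by rw [hπk']; exact (θ' w).toMul.2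
  have hadd : ∀ v w, ((θ (v + w)).toMul : E) = ((θ v).toMul : E) * ((θ w).toMul : E) := by
    intro v w
    rw [map_add]
    rfl
  have hadd' : ∀ v w, ((θ' (v + w)).toMul : E') = ((θ' v).toMul : E') * ((θ' w).toMul : E') := by
    intro v w
    rw [map_add]
    rfl
  have hs : ∀ n ∈ π.ker, ∃ w, ((θ w).toMul : E) = n := by
    intro n hn
    rw [hπk] at hn
    obtain ⟨w, hw⟩ := hsurj (Additive.ofMul ⟨n, hn⟩)
    exact ⟨w, by rw [hw]; rfl⟩
  have hs' : ∀ n ∈ π'.ker, ∃ w, ((θ' w).toMul : E') = n := by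
    intro n hn
    rw [hπk'] at hn
    obtain ⟨w, hw⟩ := hsurj' (Additive.ofMul ⟨n, hn⟩)
    exact ⟨w, by rw [hw]; rfl⟩
  have hz : ∀ w, ((θ w).toMul : E) = 1 ↔ θ w = 0 := by
    intro w
    constructor
    · intro h
      have h2 : (θ w).toMul = (1 : ↥N) := Subtype.ext h
      exact h2
    · intro h
      rw [h]
      rfl
  have hz' : ∀ w, ((θ' w).toMul : E') = 1 ↔ θ' w = 0 := by
    intro w
    constructor
    · intro h
      have h2 : (θ' w).toMul = (1 : ↥N') := Subtype.ext h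
      exact h2
    · intro h
      rw [h]
      rfl
  have hk : ∀ w, ((θ w).toMul : E) = 1 ↔ ((θ' w).toMul : E') = 1 := by
    intro w
    rw [hz, hz', hker, hker']
  obtain ⟨ι, hι⟩ := exists_iota π.ker π'.ker (fun w => ((θ w).toMul : E))
    (fun w => ((θ' w).toMul : E')) ht ht' hadd hadd' hs hs' hk
  have hιn : ∀ (g : E) (g' : E') (n : π.ker) (m : π.ker), π g = π' g' → (m : E) = g * n * g⁻¹ →
      ((ι m : π'.ker) : E') = g' * ι n * g'⁻¹ := by
    intro g g' n m hgg hm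
    obtain ⟨w, hw⟩ := hs n n.2
    have hσ : φ (QuotientGroup.mk g) = φ' (QuotientGroup.mk g') := by
      rw [← hπφ, ← hπφ', hgg]
    have e1 : (m : E) = ((θ (w ∘ ⇑(((φ (QuotientGroup.mk g) : ↥Cfsg.Spor.M23) :
        Equiv.Perm Cfsg.GolayPt)⁻¹))).toMul : E) := by
      rw [hθ g w, hw, hm]
    rw [hι _ m e1, hσ, hθ' g' w, hι w n hw.symm]
  haveI : (Dl π π' ι).Normal := dl_normal π π' ι hιn
  have hc : ∀ n : π.ker, code' ((ι n : π'.ker) : E') = code n := by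
    intro n
    obtain ⟨w, hw⟩ := hs n n.2
    rw [hι w n hw.symm, kθ', ← kθ, hw]
  -- lifts in the Baer difference
  have hFPg : ∀ i, ((gh i, gh' i) : E × E') ∈ FP π π' := fun i => by
    show π (gh i) = π' (gh' i)
    rw [hgh, hgh']
  have hFPγ : ∀ t, ((γ t, γ' t) : E × E') ∈ FP π π' := fun t => by
    show π (γ t) = π' (γ' t)
    rw [hγ, hγ']
  obtain ⟨ghF, hghF⟩ : ∃ ghF : ℕ → ↥(FP π π'), ∀ i, ghF i = ⟨(gh i, gh' i), hFPg i⟩ :=
    ⟨_, fun _ => rfl⟩
  obtain ⟨γF, hγF⟩ : ∃ γF : ℕ → ↥(FP π π'), ∀ t, γF t = ⟨(γ t, γ' t), hFPγ t⟩ :=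
    ⟨_, fun _ => rfl⟩
  have hghD : ∀ i, πD π π' ι (mkD π π' ι (ghF i)) = gen i := fun i => by
    rw [πD_mk, hghF]
    exact hgh i
  have hγD : ∀ t, πD π π' ι (mkD π π' ι (γF t)) = fus t := fun t => by
    rw [πD_mk, hγF]
    exact hγ t
  have e1 : ∀ e, elt (fun i => mkD π π' ι (ghF i)) e = mkD π π' ι (elt ghF e) :=
    fun e => (map_elt (mkD π π' ι) ghF e).symm
  have e2 : ∀ e, (elt ghF e).1.1 = elt gh e := by
    intro e
    have h := map_elt ((MonoidHom.fst E E').comp (FP π π').subtype) ghF e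
    have h3 : (fun i => ((MonoidHom.fst E E').comp (FP π π').subtype) (ghF i)) = gh := by
      funext i
      rw [hghF]
      rfl
    rw [h3] at h
    exact h
  have e3 : ∀ e, (elt ghF e).1.2 = elt gh' e := by
    intro e
    have h := map_elt ((MonoidHom.snd E E').comp (FP π π').subtype) ghF e
    have h3 : (fun i => ((MonoidHom.snd E E').comp (FP π π').subtype) (ghF i)) = gh' := by
      funext i
      rw [hghF]
      rfl
    rw [h3] at h
    exact h
  have hπe : ∀ e, π (elt gh e) = elt gen e := by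
    intro e
    rw [map_elt]
    congr 1
    funext i
    exact hgh i
  -- the cocycle of the Baer difference
  have hFD : ∀ a < 128, ∀ b < 128,
      Fof (codeD π π' ι code) mulT (fun i => mkD π π' ι (ghF i)) a b =
        Fof code mulT gh a b ^^^ Fof code' mulT gh' a b := by
    intro a ha b hb
    show codeD π π' ι code (elt (fun i => mkD π π' ι (ghF i)) a *
      elt (fun i => mkD π π' ι (ghF i)) b * (elt (fun i => mkD π π' ι (ghF i)) (mulT a b))⁻¹) = _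
    rw [e1, e1, e1, ← map_inv, ← map_mul, ← map_mul]
    have hp : π (elt ghF a * elt ghF b * (elt ghF (mulT a b))⁻¹).1.1 = 1 := by
      have : (elt ghF a * elt ghF b * (elt ghF (mulT a b))⁻¹).1.1 =
          (elt ghF a).1.1 * (elt ghF b).1.1 * ((elt ghF (mulT a b)).1.1)⁻¹ := rfl
      rw [this, e2, e2, e2, map_mul, map_mul, map_inv, hπe, hπe, hπe, (h1 a ha b hb).2,
        mul_inv_cancel]
    rw [codeD_mk π π' ι code code' k2 hc _ hp]
    have p1 : (elt ghF a * elt ghF b * (elt ghF (mulT a b))⁻¹).1.1 =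
        elt gh a * elt gh b * (elt gh (mulT a b))⁻¹ := by
      have : (elt ghF a * elt ghF b * (elt ghF (mulT a b))⁻¹).1.1 =
          (elt ghF a).1.1 * (elt ghF b).1.1 * ((elt ghF (mulT a b)).1.1)⁻¹ := rfl
      rw [this, e2, e2, e2]
    have p2 : (elt ghF a * elt ghF b * (elt ghF (mulT a b))⁻¹).1.2 =
        elt gh' a * elt gh' b * (elt gh' (mulT a b))⁻¹ := by
      have : (elt ghF a * elt ghF b * (elt ghF (mulT a b))⁻¹).1.2 =
          (elt ghF a).1.2 * (elt ghF b).1.2 * ((elt ghF (mulT a b)).1.2)⁻¹ := rfl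
      rw [this, e3, e3, e3]
    rw [p1, p2]
    rfl
  have hlamD : lam (Fof (codeD π π' ι code) mulT (fun i => mkD π π' ι (ghF i))) = false := by
    have hG : lam (fun a b => Fof code mulT gh a b ^^^ Fof code' mulT gh' a b) =
        xor (lam (Fof code mulT gh)) (lam (Fof code' mulT gh')) :=
      lam_xor _ _ _ (fun a b => rfl)
    have hpow : ∀ k < 7, 2 ^ k < 128 := by
      intro k hk
      have h6 : 2 ^ k ≤ 2 ^ 6 := Nat.pow_le_pow_right (by norm_num) (by omega)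
      norm_num at h6
      omega
    rw [lam_congr (fun a b => Fof code mulT gh a b ^^^ Fof code' mulT gh' a b) _
      (fun k hk i hi => hFD (2 ^ k) (hpow k hk) (2 ^ i) (hpow i (by omega))), hG, hlam, hlam']
    rfl
  -- the Baer difference splits
  obtain ⟨H, hH1, hH2⟩ := split_of_lam (πD π π' ι) (πD_surj π π' ι hπs' hπs) gen fus h1 h2 h7 h8
    hassoc (codeD π π' ι code) (codeD_lt π π' ι code k1) (codeD_mul π π' ι code k2)
    (codeD_inj π π' ι code k3) (codeD_onto π π' ι code k4)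
    (fun a ha => codeD_conj π π' ι code (elt gen a) (mapply (mdT a)) (k5 a ha))
    (fun t ht => codeD_conj π π' ι code (fus t) (mapply (gdT t)) (k6 t ht))
    (fun i => mkD π π' ι (ghF i)) (fun t => mkD π π' ι (γF t)) hghD hγD hlamD
  exact iso_of_compl π π' ι hπs hπs' H hH1 hH2

end Cfsg.Agent.H88.X23D
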